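import Mathlib

set_option autoImplicit false

namespace Cfsg.Agent.Helper51

theorem card_mul_relIndex_eq {G : Type*} [Group G] {H K : Subgroup G} (h : H ≤ K) :
    Nat.card H * H.relIndex K = Nat.card K := by
  rw [← Subgroup.relIndex_bot_left, Subgroup.relIndex_mul_relIndex _ _ _ bot_le h,
    Subgroup.relIndex_bot_left]

theorem addCard_mul_relIndex_eq {G : Type*} [AddGroup G] {H K : AddSubgroup G} (h : H ≤ K) :
    Nat.card H * H.relIndex K = Nat.card K := by
  rw [← AddSubgroup.relIndex_bot_left, AddSubgroup.relIndex_mul_relIndex _ _ _ bot_le h,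
    AddSubgroup.relIndex_bot_left]

/-- The product formula as an inequality: `|H| |K| ≤ |H ⊔ K| |H ⊓ K|`. -/
theorem card_mul_card_le_sup_mul_inf {G : Type*} [Group G] [Finite G] (H K : Subgroup G) :
    Nat.card H * Nat.card K ≤ Nat.card ↥(H ⊔ K) * Nat.card ↥(H ⊓ K) := by
  have h1 : Nat.card ↥(H ⊓ K) * K.relIndex H = Nat.card H := by
    rw [← Subgroup.inf_relIndex_left]; exact card_mul_relIndex_eq inf_le_left
  have h2 : Nat.card K * K.relIndex (H ⊔ K) = Nat.card ↥(H ⊔ K) := card_mul_relIndex_eq le_sup_right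
  have h3 : K.relIndex H ≤ K.relIndex (H ⊔ K) :=
    Subgroup.relIndex_le_of_le_right le_sup_left
      (by rw [Subgroup.relIndex]; exact Subgroup.index_ne_zero_of_finite)
  calc Nat.card H * Nat.card K = Nat.card ↥(H ⊓ K) * K.relIndex H * Nat.card K := by rw [h1]
    _ ≤ Nat.card ↥(H ⊓ K) * K.relIndex (H ⊔ K) * Nat.card K := by gcongr
    _ = Nat.card ↥(H ⊔ K) * Nat.card ↥(H ⊓ K) := by rw [← h2]; ring

theorem card_sup_mul_card_inf_of_normal {G : Type*} [Group G] (H K : Subgroup G) [K.Normal] :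
    Nat.card ↥(H ⊔ K) * Nat.card ↥(H ⊓ K) = Nat.card H * Nat.card K := by
  have h1 : Nat.card ↥(H ⊓ K) * K.relIndex H = Nat.card H := by
    rw [← Subgroup.inf_relIndex_left]; exact card_mul_relIndex_eq inf_le_left
  have h2 : Nat.card K * K.relIndex (H ⊔ K) = Nat.card ↥(H ⊔ K) := card_mul_relIndex_eq le_sup_right
  rw [Subgroup.relIndex_sup_right] at h2
  rw [← h2, ← h1]; ring

theorem addCard_sup_mul_card_inf {G : Type*} [AddCommGroup G] (H K : AddSubgroup G) :
    Nat.card ↥(H ⊔ K) * Nat.card ↥(H ⊓ K) = Nat.card H * Nat.card K := by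
  have h1 : Nat.card ↥(H ⊓ K) * K.relIndex H = Nat.card H := by
    rw [← AddSubgroup.inf_relIndex_left]; exact addCard_mul_relIndex_eq inf_le_left
  have h2 : Nat.card K * K.relIndex (H ⊔ K) = Nat.card ↥(H ⊔ K) :=
    addCard_mul_relIndex_eq le_sup_right
  rw [AddSubgroup.relIndex_sup_right] at h2
  rw [← h2, ← h1]; ring

end Cfsg.Agent.Helper51
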