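import Mathlib
import Cfsg.Agent.Helper51.Card

set_option autoImplicit false

namespace Cfsg.Agent.Helper51

open Subgroup

variable {G : Type*} [Group G]

/-- Conjugate of a subgroup by `g`. -/
abbrev cj (g : G) (H : Subgroup G) : Subgroup G := H.map (MulAut.conj g).toMonoidHom

theorem mem_cj {g x : G} {H : Subgroup G} : x ∈ cj g H ↔ ∃ h ∈ H, g * h * g⁻¹ = x := by
  simp [cj, Subgroup.mem_map]

theorem mem_cj' {g x : G} {H : Subgroup G} : x ∈ cj g H ↔ g⁻¹ * x * g ∈ H := by
  rw [mem_cj]
  constructor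
  · rintro ⟨h, hh, rfl⟩
    simpa [mul_assoc] using hh
  · intro hx
    exact ⟨_, hx, by simp [mul_assoc]⟩

theorem card_cj (g : G) (H : Subgroup G) : Nat.card (cj g H) = Nat.card H :=
  Subgroup.card_map_of_injective (MulAut.conj g).injective

theorem cj_mono (g : G) {H K : Subgroup G} (h : H ≤ K) : cj g H ≤ cj g K :=
  Subgroup.map_mono h

theorem cj_inv_cj (g : G) (H : Subgroup G) : cj g⁻¹ (cj g H) = H := by
  ext x
  simp only [mem_cj']
  simp [mul_assoc]

theorem cj_cj_inv (g : G) (H : Subgroup G) : cj g (cj g⁻¹ H) = H := by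
  have := cj_inv_cj g⁻¹ H
  simpa using this

theorem cj_le_iff (g : G) (H K : Subgroup G) : cj g H ≤ K ↔ H ≤ cj g⁻¹ K := by
  constructor
  · intro h
    have := cj_mono g⁻¹ h
    rwa [cj_inv_cj] at this
  · intro h
    have := cj_mono g h
    rwa [cj_cj_inv] at this

theorem cj_inf (g : G) (H K : Subgroup G) : cj g (H ⊓ K) = cj g H ⊓ cj g K :=
  Subgroup.map_inf _ _ _ (MulAut.conj g).injective

theorem cj_sup (g : G) (H K : Subgroup G) : cj g (H ⊔ K) = cj g H ⊔ cj g K :=
  Subgroup.map_sup _ _ _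

theorem cj_centralizer (g : G) (H : Subgroup G) :
    cj g (centralizer (H : Set G)) = centralizer ((cj g H : Subgroup G) : Set G) := by
  ext x
  simp only [mem_cj', mem_centralizer_iff, SetLike.mem_coe]
  constructor
  · intro h y hy
    have := h _ hy
    have e : y * x = g * ((g⁻¹ * y * g) * (g⁻¹ * x * g)) * g⁻¹ := by group
    rw [e, this]; group
  · intro h y hy
    have := h (g * y * g⁻¹) (by simpa [mul_assoc] using hy)
    have e : y * (g⁻¹ * x * g) = g⁻¹ * ((g * y * g⁻¹) * x) * g := by group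
    rw [e, this]; group

theorem cj_eq_self_of_mem_normalizer {g : G} {H : Subgroup G} (hg : g ∈ normalizer (H : Set G)) :
    cj g H = H := by
  ext x
  rw [mem_cj']
  have := (Subgroup.mem_normalizer_iff'').mp hg x
  exact this.symm

theorem centralizer_sup (H K : Subgroup G) :
    centralizer ((H ⊔ K : Subgroup G) : Set G) = centralizer (H : Set G) ⊓ centralizer (K : Set G) := by
  apply le_antisymm
  · exact le_inf (centralizer_le (by exact_mod_cast (le_sup_left : H ≤ H ⊔ K)))
      (centralizer_le (by exact_mod_cast (le_sup_right : K ≤ H ⊔ K)))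
  · intro x hx
    have h1 : H ≤ centralizer ({x} : Set G) := by
      intro h hh
      rw [mem_centralizer_singleton_iff]
      exact ((mem_centralizer_iff.mp hx.1) h hh)
    have h2 : K ≤ centralizer ({x} : Set G) := by
      intro h hh
      rw [mem_centralizer_singleton_iff]
      exact ((mem_centralizer_iff.mp hx.2) h hh)
    have h3 : H ⊔ K ≤ centralizer ({x} : Set G) := sup_le h1 h2
    rw [mem_centralizer_iff]
    intro y hy
    have := h3 hy
    rw [mem_centralizer_singleton_iff] at this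
    exact this

theorem sup_centralizer_le (H K : Subgroup G) :
    centralizer (H : Set G) ⊔ centralizer (K : Set G) ≤ centralizer ((H ⊓ K : Subgroup G) : Set G) :=
  sup_le (centralizer_le (by exact_mod_cast (inf_le_left : H ⊓ K ≤ H)))
    (centralizer_le (by exact_mod_cast (inf_le_right : H ⊓ K ≤ K)))

/-- Supermodularity of `X ↦ |V ∩ C(X)|`. -/
theorem card_fix_mul_le [Finite G] (V H K : Subgroup G) :
    Nat.card ↥(V ⊓ centralizer (H : Set G)) * Nat.card ↥(V ⊓ centralizer (K : Set G)) ≤
      Nat.card ↥(V ⊓ centralizer ((H ⊔ K : Subgroup G) : Set G)) *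
        Nat.card ↥(V ⊓ centralizer ((H ⊓ K : Subgroup G) : Set G)) := by
  set P := V ⊓ centralizer (H : Set G)
  set Q := V ⊓ centralizer (K : Set G)
  have h1 : P ⊓ Q = V ⊓ centralizer ((H ⊔ K : Subgroup G) : Set G) := by
    rw [centralizer_sup]
    exact (inf_inf_distrib_left V _ _).symm
  have h2 : P ⊔ Q ≤ V ⊓ centralizer ((H ⊓ K : Subgroup G) : Set G) :=
    sup_le (inf_le_inf_left _ (le_sup_left.trans (sup_centralizer_le H K)))
      (inf_le_inf_left _ (le_sup_right.trans (sup_centralizer_le H K)))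
  have h3 := card_mul_card_le_sup_mul_inf P Q
  have h4 : Nat.card ↥(P ⊔ Q) ≤ Nat.card ↥(V ⊓ centralizer ((H ⊓ K : Subgroup G) : Set G)) :=
    Nat.card_le_card_of_injective (Subgroup.inclusion h2) (Subgroup.inclusion_injective h2)
  calc Nat.card P * Nat.card Q ≤ Nat.card ↥(P ⊔ Q) * Nat.card ↥(P ⊓ Q) := h3
    _ ≤ Nat.card ↥(V ⊓ centralizer ((H ⊓ K : Subgroup G) : Set G)) * Nat.card ↥(P ⊓ Q) := by gcongr
    _ = _ := by rw [h1, mul_comm]

/-- If `|G| |H ⊓ K| = |H| |K|` then `G = HK`. -/
theorem exists_mul_of_card_eq [Finite G] (H K : Subgroup G)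
    (h : Nat.card G * Nat.card ↥(H ⊓ K) = Nat.card H * Nat.card K) (x : G) :
    ∃ a ∈ H, ∃ b ∈ K, x = a * b := by
  have h1 : Nat.card ↥(H ⊓ K) * K.relIndex H = Nat.card H := by
    rw [← Subgroup.inf_relIndex_left]; exact card_mul_relIndex_eq inf_le_left
  have h2 : Nat.card K * K.index = Nat.card G := K.card_mul_index
  have hpos1 : 0 < Nat.card ↥(H ⊓ K) := Nat.card_pos
  have hpos2 : 0 < Nat.card K := Nat.card_pos
  have h3 : K.relIndex H = K.index := by
    have : (Nat.card ↥(H ⊓ K) * Nat.card K) * K.relIndex H =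
        (Nat.card ↥(H ⊓ K) * Nat.card K) * K.index := by
      calc (Nat.card ↥(H ⊓ K) * Nat.card K) * K.relIndex H
          = (Nat.card ↥(H ⊓ K) * K.relIndex H) * Nat.card K := by ring
        _ = Nat.card H * Nat.card K := by rw [h1]
        _ = Nat.card G * Nat.card ↥(H ⊓ K) := h.symm
        _ = (Nat.card K * K.index) * Nat.card ↥(H ⊓ K) := by rw [h2]
        _ = _ := by ring
    exact Nat.eq_of_mul_eq_mul_left (Nat.mul_pos hpos1 hpos2) this
  -- the natural map H / (H ∩ K) → G / K
  let ψ : ↥H ⧸ K.subgroupOf H → G ⧸ K :=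
    Quotient.map' (fun a : H => (a : G)) (by
      intro a b hab
      rw [QuotientGroup.leftRel_apply] at hab ⊢
      simpa [Subgroup.mem_subgroupOf] using hab)
  have hψ : Function.Injective ψ := by
    intro a b
    induction a using Quotient.inductionOn'
    induction b using Quotient.inductionOn'
    intro hab
    simp only [ψ, Quotient.map'_mk''] at hab
    rw [Quotient.eq''] at hab ⊢
    rw [QuotientGroup.leftRel_apply] at hab ⊢
    simpa [Subgroup.mem_subgroupOf] using hab
  have hcard : Nat.card (G ⧸ K) ≤ Nat.card (↥H ⧸ K.subgroupOf H) := by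
    rw [← Subgroup.index_eq_card, ← Subgroup.index_eq_card, ← h3]; rfl
  have hbij := hψ.bijective_of_nat_card_le hcard
  obtain ⟨a, ha⟩ := hbij.2 (QuotientGroup.mk x)
  induction a using Quotient.inductionOn' with
  | h a =>
    simp only [ψ, Quotient.map'_mk''] at ha
    have : ((a : G) : G ⧸ K) = (x : G ⧸ K) := ha
    rw [QuotientGroup.eq] at this
    exact ⟨a, a.2, _, this, by group⟩

end Cfsg.Agent.Helper51
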