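import Mathlib
import Cfsg.Prelude.Def_Transfer
import Cfsg.Agent.Helper51.CD

set_option autoImplicit false

namespace Cfsg.Agent.Helper51

open Subgroup

variable {G : Type*} [Group G]

theorem isPGroup_of_isElementaryAbelian {p : ℕ} {V : Subgroup G}
    (hV : Cfsg.IsElementaryAbelian p V) : IsPGroup p V := by
  intro g
  refine ⟨1, ?_⟩
  apply Subtype.ext
  rw [pow_one, SubgroupClass.coe_pow]
  exact hV.2 g g.2

theorem isElementaryAbelian_of_le {p : ℕ} {V U : Subgroup G}
    (hV : Cfsg.IsElementaryAbelian p V) (hU : U ≤ V) : Cfsg.IsElementaryAbelian p U := by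
  refine ⟨?_, fun a ha => hV.2 a (hU ha)⟩
  apply le_centralizer_iff_isMulCommutative.mp
  exact hU.trans ((le_centralizer_iff_isMulCommutative.mpr hV.1).trans (centralizer_le hU))

theorem isMulCommutative_sup' {D B : Subgroup G} (hD : IsMulCommutative D) (hB : IsMulCommutative B)
    (hDB : D ≤ centralizer (B : Set G)) : IsMulCommutative ↥(D ⊔ B) := by
  apply le_centralizer_iff_isMulCommutative.mp
  rw [centralizer_sup]
  exact sup_le (le_inf (le_centralizer_iff_isMulCommutative.mpr hD) hDB)
    (le_inf (le_centralizer_iff.mp hDB) (le_centralizer_iff_isMulCommutative.mpr hB))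

/-- The join of two commuting elementary abelian subgroups is elementary abelian. -/
theorem isElementaryAbelian_sup {p : ℕ} {D B : Subgroup G}
    (hD : Cfsg.IsElementaryAbelian p D) (hB : Cfsg.IsElementaryAbelian p B)
    (hDB : D ≤ centralizer (B : Set G)) : Cfsg.IsElementaryAbelian p (D ⊔ B) := by
  refine ⟨isMulCommutative_sup' hD.1 hB.1 hDB, ?_⟩
  intro a ha
  have hmem : a ∈ ((D ⊔ B : Subgroup G) : Set G) := ha
  have hDN : D ≤ normalizer (B : Set G) := hDB.trans (centralizer_le_normalizer _)
  rw [coe_mul_of_left_le_normalizer_right D B hDN] at hmem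
  obtain ⟨x, hx, y, hy, rfl⟩ := hmem
  have hc : Commute x y := (mem_centralizer_iff.mp (hDB hx) y hy).symm
  rw [hc.mul_pow, hD.2 x hx, hB.2 y hy, one_mul]

end Cfsg.Agent.Helper51
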