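import Mathlib
import Cfsg.Prelude.Def_DStar
import Cfsg.Agent.Helper51.CD

set_option autoImplicit false

namespace Cfsg.Agent.Helper51

open Subgroup
open scoped commutatorElement

variable {S : Type*} [Group S]

theorem comm_of_mem {A : Subgroup S} (hA : IsMulCommutative A) {a b : S} (ha : a ∈ A) (hb : b ∈ A) :
    a * b = b * a :=
  congrArg Subtype.val (mul_comm' (⟨a, ha⟩ : A) ⟨b, hb⟩)

/-- If the generators of `closure s` centralize `Z` and `h` centralizes `Z`, then having commutators
with `h` in `Z` passes from `s` to `closure s`. -/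
theorem comm_mem_closure_left {Z : Subgroup S} {s : Set S} (hs : s ⊆ centralizer (Z : Set S))
    {h : S} (base : ∀ g ∈ s, ⁅g, h⁆ ∈ Z) : ∀ g ∈ closure s, ⁅g, h⁆ ∈ Z := by
  have hcl : closure s ≤ centralizer (Z : Set S) := (closure_le _).mpr hs
  intro g hg
  induction hg using closure_induction with
  | mem x hx => exact base x hx
  | one => simp
  | mul x y hx hy ihx ihy =>
    -- ⁅x * y, h⁆ = x * ⁅y, h⁆ * x⁻¹ * ⁅x, h⁆
    have e : ⁅x * y, h⁆ = x * ⁅y, h⁆ * x⁻¹ * ⁅x, h⁆ := by
      simp only [commutatorElement_def]; group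
    have hxc := hcl hx
    have : x * ⁅y, h⁆ * x⁻¹ = ⁅y, h⁆ := by
      have := (mem_centralizer_iff.mp hxc) ⁅y, h⁆ ihy
      rw [← this]; group
    rw [e, this]
    exact Z.mul_mem ihy ihx
  | inv x hx ihx =>
    have e : ⁅x⁻¹, h⁆ = x⁻¹ * ⁅x, h⁆⁻¹ * x := by
      simp only [commutatorElement_def]; group
    have hxc := hcl (inv_mem hx)
    have : x⁻¹ * ⁅x, h⁆⁻¹ * x = ⁅x, h⁆⁻¹ := by
      have := (mem_centralizer_iff.mp hxc) ⁅x, h⁆⁻¹ (Z.inv_mem ihx)
      rw [← this]; group
    rw [e, this]
    exact Z.inv_mem ihx

theorem comm_mem_closure {Z : Subgroup S} {s : Set S} (hs : s ⊆ centralizer (Z : Set S))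
    (base : ∀ g ∈ s, ∀ h ∈ s, ⁅g, h⁆ ∈ Z) : ∀ g ∈ closure s, ∀ h ∈ closure s, ⁅g, h⁆ ∈ Z := by
  -- first: h ∈ s, g ∈ closure s
  have step1 : ∀ h ∈ s, ∀ g ∈ closure s, ⁅g, h⁆ ∈ Z := fun h hh =>
    comm_mem_closure_left hs (fun g hg => base g hg h hh)
  intro g hg h hh
  refine comm_mem_closure_left hs (fun g' hg' => ?_) g hg
  -- ⁅g', h⁆ with g' ∈ s, h ∈ closure s
  have := step1 g' hg' h hh
  have e : ⁅g', h⁆ = ⁅h, g'⁆⁻¹ := by simp only [commutatorElement_def]; group
  rw [e]; exact Z.inv_mem this

/-- Class at most two criterion. -/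
theorem class_two_of_central_commutators {Z : Subgroup S} {s : Set S}
    (hs : s ⊆ centralizer (Z : Set S)) (base : ∀ g ∈ s, ∀ h ∈ s, ⁅g, h⁆ ∈ Z) :
    ⁅⁅closure s, closure s⁆, closure s⁆ = ⊥ := by
  have hcl : closure s ≤ centralizer (Z : Set S) := (closure_le _).mpr hs
  have h1 : ⁅closure s, closure s⁆ ≤ Z := commutator_le.mpr (comm_mem_closure hs base)
  have h2 : ⁅Z, closure s⁆ = ⊥ :=
    commutator_eq_bot_iff_le_centralizer.mpr (le_centralizer_iff.mp hcl)
  exact le_bot_iff.mp (h2 ▸ commutator_mono h1 le_rfl)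

theorem sup_zpowers_eq_closure (A : Subgroup S) (x : S) :
    A ⊔ zpowers x = closure ((A : Set S) ∪ {x}) := by
  rw [Subgroup.closure_union, closure_eq, zpowers_eq_closure]

/-- The key consequence of membership in the family: an element acting "quadratically with central
commutators" centralizes. -/
theorem commute_of_mem_dStarFamily {A : Subgroup S} (hA : A ∈ Cfsg.dStarFamily S) {x : S}
    {Z : Subgroup S} (h1 : ∀ a ∈ A, ⁅x, a⁆ ∈ Z) (h2 : A ≤ centralizer (Z : Set S))
    (h3 : x ∈ centralizer (Z : Set S)) : ∀ a ∈ A, a * x = x * a := by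
  apply hA.2 x
  rw [sup_zpowers_eq_closure]
  apply class_two_of_central_commutators (Z := Z)
  · rintro g (hg | hg)
    · exact h2 hg
    · rw [Set.mem_singleton_iff] at hg; subst hg; exact h3
  · rintro g (hg | hg) h (hh | hh)
    · have : g * h = h * g := comm_of_mem hA.1 hg hh
      have e : ⁅g, h⁆ = 1 := by
        rw [commutatorElement_def, this]; group
      rw [e]; exact Z.one_mem
    · rw [Set.mem_singleton_iff] at hh; subst hh
      have e : ⁅g, h⁆ = ⁅h, g⁆⁻¹ := by simp only [commutatorElement_def]; group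
      rw [e]; exact Z.inv_mem (h1 g hg)
    · rw [Set.mem_singleton_iff] at hg; subst hg
      exact h1 h hh
    · rw [Set.mem_singleton_iff] at hg hh; subst hg; subst hh
      simp

/-- Iterated commutators `[N, A, ..., A]`. -/
def iterComm (N A : Subgroup S) : ℕ → Subgroup S
  | 0 => N
  | n + 1 => ⁅iterComm N A n, A⁆

theorem iterComm_le_lowerCentralSeries (N A : Subgroup S) (n : ℕ) :
    iterComm N A n ≤ (⊤ : Subgroup S).lowerCentralSeries n := by
  induction n with
  | zero => exact le_top
  | succ n ih => exact commutator_mono ih le_top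

theorem iterComm_le (N A : Subgroup S) [N.Normal] (n : ℕ) : iterComm N A n ≤ N := by
  induction n with
  | zero => exact le_rfl
  | succ n ih => exact (commutator_mono ih le_rfl).trans (commutator_le_left N A)

/-- A member of the family centralizes every abelian normal subgroup (of a nilpotent group). -/
theorem normal_abelian_le_centralizer [Group.IsNilpotent S] {A : Subgroup S}
    (hA : A ∈ Cfsg.dStarFamily S) (N : Subgroup S) [N.Normal] (hN : IsMulCommutative N) :
    N ≤ centralizer (A : Set S) := by
  have hNN : N ≤ centralizer (N : Set S) := le_centralizer_iff_isMulCommutative.mpr hN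
  -- the step: if [N_i, A, A] = 1 then [N_i, A] = 1
  have step : ∀ i, iterComm N A (i + 2) = ⊥ → iterComm N A (i + 1) = ⊥ := by
    intro i hi
    change ⁅iterComm N A i, A⁆ = ⊥
    rw [commutator_eq_bot_iff_le_centralizer]
    intro x hx
    rw [mem_centralizer_iff]
    intro a ha
    have hxN : x ∈ N := iterComm_le N A i hx
    have hZN : iterComm N A (i + 1) ≤ N := iterComm_le N A (i + 1)
    refine commute_of_mem_dStarFamily hA (Z := iterComm N A (i + 1)) ?_ ?_ ?_ a ha
    · intro a ha
      exact commutator_mem_commutator hx ha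
    · have : ⁅iterComm N A (i + 1), A⁆ = ⊥ := hi
      exact le_centralizer_iff.mp (commutator_eq_bot_iff_le_centralizer.mp this)
    · exact centralizer_le (by exact_mod_cast hZN) (hNN hxN)
  obtain ⟨k, hk⟩ := (Subgroup.nilpotent_iff_lowerCentralSeries (G := S)).mp inferInstance
  have hk' : iterComm N A k = ⊥ := le_bot_iff.mp (hk ▸ iterComm_le_lowerCentralSeries N A k)
  -- descend
  have desc : ∀ i, iterComm N A (i + 1) = ⊥ → iterComm N A 1 = ⊥ := by
    intro i
    induction i with
    | zero => exact id
    | succ i ih => exact fun h => ih (step i h)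
  have h1 : iterComm N A 1 = ⊥ := by
    cases k with
    | zero =>
      change ⁅iterComm N A 0, A⁆ = ⊥
      rw [hk']; exact commutator_bot_left A
    | succ k => exact desc k hk'
  exact commutator_eq_bot_iff_le_centralizer.mp h1

/-- Restriction of a member of the family to a subgroup containing it. -/
theorem subgroupOf_mem_dStarFamily {A : Subgroup S} (hA : A ∈ Cfsg.dStarFamily S) {M : Subgroup S}
    (hAM : A ≤ M) : A.subgroupOf M ∈ Cfsg.dStarFamily M := by
  refine ⟨⟨⟨fun a b => ?_⟩⟩, ?_⟩
  · apply Subtype.ext; apply Subtype.ext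
    exact comm_of_mem hA.1 a.2 b.2
  · intro x hx a ha
    apply Subtype.ext
    refine hA.2 (x : S) ?_ a ha
    have := congrArg (Subgroup.map M.subtype) hx
    rw [Subgroup.map_bot, map_commutator, map_commutator, Subgroup.map_sup, map_subgroupOf_eq_of_le hAM,
      MonoidHom.map_zpowers] at this
    exact this

/-- Conjugates of members of the family are members. -/
theorem cj_mem_dStarFamily {A : Subgroup S} (hA : A ∈ Cfsg.dStarFamily S) (g : S) :
    cj g A ∈ Cfsg.dStarFamily S := by
  refine ⟨⟨⟨fun a b => ?_⟩⟩, ?_⟩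
  · obtain ⟨a', ha', hae⟩ := mem_cj.mp a.2
    obtain ⟨b', hb', hbe⟩ := mem_cj.mp b.2
    apply Subtype.ext
    have := comm_of_mem hA.1 ha' hb'
    simp only [Subgroup.coe_mul]
    rw [← hae, ← hbe]
    calc g * a' * g⁻¹ * (g * b' * g⁻¹) = g * (a' * b') * g⁻¹ := by group
      _ = g * (b' * a') * g⁻¹ := by rw [this]
      _ = _ := by group
  · intro x hx a ha
    obtain ⟨a', ha', rfl⟩ := mem_cj.mp ha
    set φ := (MulAut.conj g).toMonoidHom with hφ
    set y := g⁻¹ * x * g with hy
    have hxy : x = φ y := by simp [hφ, hy, mul_assoc]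
    have hmap : cj g A ⊔ zpowers x = (A ⊔ zpowers y).map φ := by
      rw [Subgroup.map_sup, MonoidHom.map_zpowers, ← hxy]
    rw [hmap, ← map_commutator, ← map_commutator,
      map_eq_bot_iff_of_injective _ (MulAut.conj g).injective] at hx
    have := hA.2 y hx a' ha'
    calc g * a' * g⁻¹ * x = g * (a' * y) * g⁻¹ := by simp only [hy]; group
      _ = g * (y * a') * g⁻¹ := by rw [this]
      _ = x * (g * a' * g⁻¹) := by simp only [hy]; group

/-- Pairwise commuting of members of the family, in a finite `p`-group. -/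
theorem dStarFamily_commute (p : ℕ) [Fact p.Prime] :
    ∀ (n : ℕ) (S : Type u_1) [Group S] [Finite S], IsPGroup p S → Nat.card S = n →
      ∀ A ∈ Cfsg.dStarFamily S, ∀ B ∈ Cfsg.dStarFamily S, B ≤ centralizer (A : Set S) := by
  intro n
  induction n using Nat.strong_induction_on with
  | _ n ih =>
    intro S _ _ hS hn A hA B hB
    have : Group.IsNilpotent S := hS.isNilpotent
    rcases eq_top_or_exists_le_coatom A with hAtop | ⟨M, hM, hAM⟩
    · -- S abelian
      intro b _
      rw [mem_centralizer_iff]
      intro a ha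
      exact comm_of_mem hA.1 ha (hAtop ▸ mem_top b)
    · have hMn : M.Normal :=
        NormalizerCondition.normal_of_coatom M Group.normalizerCondition_of_isNilpotent hM
      have hMlt : Nat.card M < n := by
        rw [← hn]
        have hne : M ≠ ⊤ := hM.1
        by_contra hcon
        rw [not_lt] at hcon
        exact hne (Subgroup.eq_top_of_card_eq M (le_antisymm (Subgroup.card_le_card_group M) hcon))
      have hcjM : ∀ g, cj g A ≤ M := by
        intro g x hx
        obtain ⟨a, ha, rfl⟩ := mem_cj.mp hx
        exact hMn.conj_mem a (hAM ha) g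
      -- conjugates commute pairwise
      have hcomm : ∀ g h : S, cj h A ≤ centralizer ((cj g A : Subgroup S) : Set S) := by
        intro g h
        have h1 := subgroupOf_mem_dStarFamily (cj_mem_dStarFamily hA g) (hcjM g)
        have h2 := subgroupOf_mem_dStarFamily (cj_mem_dStarFamily hA h) (hcjM h)
        have := ih (Nat.card M) hMlt M (hS.to_subgroup M) rfl _ h1 _ h2
        intro v hv
        rw [mem_centralizer_iff]
        intro u hu
        have hvM : (⟨v, hcjM h hv⟩ : M) ∈ (cj h A).subgroupOf M := by
          rw [mem_subgroupOf]; exact hv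
        have huM : (⟨u, hcjM g hu⟩ : M) ∈ (cj g A).subgroupOf M := by
          rw [mem_subgroupOf]; exact hu
        have := (mem_centralizer_iff.mp (this hvM)) _ huM
        exact congrArg Subtype.val this
      -- the normal closure of A is abelian
      set N := normalClosure (A : Set S) with hNdef
      have hNcomm : N ≤ centralizer (N : Set S) := by
        have hsub : Group.conjugatesOfSet (A : Set S) ⊆
            centralizer (Group.conjugatesOfSet (A : Set S)) := by
          intro v hv
          rw [SetLike.mem_coe, mem_centralizer_iff]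
          intro u hu
          obtain ⟨a, ha, hau⟩ := Group.mem_conjugatesOfSet_iff.mp hu
          obtain ⟨b, hb, hbv⟩ := Group.mem_conjugatesOfSet_iff.mp hv
          obtain ⟨g, hg⟩ := isConj_iff.mp hau
          obtain ⟨h, hh⟩ := isConj_iff.mp hbv
          have hu' : u ∈ cj g A := mem_cj.mpr ⟨a, ha, hg⟩
          have hv' : v ∈ cj h A := mem_cj.mpr ⟨b, hb, hh⟩
          exact (mem_centralizer_iff.mp (hcomm g h hv')) u hu'
        have : closure (Group.conjugatesOfSet (A : Set S)) ≤
            centralizer (Group.conjugatesOfSet (A : Set S)) := (closure_le _).mpr hsub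
        rw [← centralizer_closure] at this
        exact this
      have hNab : IsMulCommutative N := le_centralizer_iff_isMulCommutative.mp hNcomm
      have hNB := normal_abelian_le_centralizer hB N hNab
      exact le_centralizer_iff.mp (le_normalClosure.trans hNB)

end Cfsg.Agent.Helper51
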