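import Mathlib
import Cfsg.Agent.Helper51.CD

set_option autoImplicit false

namespace Cfsg.Agent.Helper51

open Subgroup
open scoped commutatorElement

/-- Counting via an injection of coset spaces. -/
theorem card_mul_le_of_coset_map {G₁ G₂ : Type*} [Group G₁] [Group G₂] [Finite G₁] [Finite G₂]
    (H : Subgroup G₁) (K : Subgroup G₂) (ψ : G₁ → G₂)
    (hψ : ∀ a b, (ψ a)⁻¹ * ψ b ∈ K → a⁻¹ * b ∈ H) :
    Nat.card G₁ * Nat.card K ≤ Nat.card H * Nat.card G₂ ∧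
      (Nat.card G₁ * Nat.card K = Nat.card H * Nat.card G₂ → ∀ w : G₂, ∃ a, (ψ a)⁻¹ * w ∈ K) := by
  let f : G₁ ⧸ H → G₂ ⧸ K := fun q => QuotientGroup.mk (ψ (Quotient.out q))
  have hf : Function.Injective f := by
    intro q q' hqq
    simp only [f] at hqq
    rw [QuotientGroup.eq] at hqq
    have := hψ _ _ hqq
    rw [← QuotientGroup.eq] at this
    simpa using this
  have h1 : Nat.card H * H.index = Nat.card G₁ := H.card_mul_index
  have h2 : Nat.card K * K.index = Nat.card G₂ := K.card_mul_index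
  have hle : H.index ≤ K.index := by
    rw [Subgroup.index_eq_card, Subgroup.index_eq_card]
    exact Nat.card_le_card_of_injective f hf
  have hHpos : 0 < Nat.card H := Nat.card_pos
  have hKpos : 0 < Nat.card K := Nat.card_pos
  constructor
  · calc Nat.card G₁ * Nat.card K = Nat.card H * Nat.card K * H.index := by rw [← h1]; ring
      _ ≤ Nat.card H * Nat.card K * K.index := by gcongr
      _ = Nat.card H * Nat.card G₂ := by rw [← h2]; ring
  · intro heq w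
    have hidx : H.index = K.index := by
      have : Nat.card H * Nat.card K * H.index = Nat.card H * Nat.card K * K.index := by
        calc Nat.card H * Nat.card K * H.index = Nat.card G₁ * Nat.card K := by rw [← h1]; ring
          _ = Nat.card H * Nat.card G₂ := heq
          _ = _ := by rw [← h2]; ring
      exact Nat.eq_of_mul_eq_mul_left (Nat.mul_pos hHpos hKpos) this
    have hbij : Function.Bijective f := hf.bijective_of_nat_card_le (by
      rw [← Subgroup.index_eq_card, ← Subgroup.index_eq_card, hidx])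
    obtain ⟨q, hq⟩ := hbij.2 (QuotientGroup.mk w)
    refine ⟨Quotient.out q, ?_⟩
    simp only [f] at hq
    rw [QuotientGroup.eq] at hq
    exact hq

/-- Ambient form of the previous lemma. -/
theorem card_mul_le_of_coset_map' {S : Type*} [Group S] [Finite S] {Y X V W : Subgroup S}
    (hYX : Y ≤ X) (hVW : V ≤ W) (ψ : S → S) (hψW : ∀ a ∈ X, ψ a ∈ W)
    (hψ : ∀ a ∈ X, ∀ b ∈ X, (ψ a)⁻¹ * ψ b ∈ V → a⁻¹ * b ∈ Y) :
    Nat.card X * Nat.card V ≤ Nat.card Y * Nat.card W ∧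
      (Nat.card X * Nat.card V = Nat.card Y * Nat.card W →
        ∀ w ∈ W, ∃ a ∈ X, (ψ a)⁻¹ * w ∈ V) := by
  have key := card_mul_le_of_coset_map (Y.subgroupOf X) (V.subgroupOf W)
    (fun a : X => (⟨ψ a, hψW a a.2⟩ : W)) (by
      intro a b hab
      rw [mem_subgroupOf] at hab ⊢
      exact hψ a a.2 b b.2 hab)
  have c1 : Nat.card (Y.subgroupOf X) = Nat.card Y :=
    Nat.card_congr (Subgroup.subgroupOfEquivOfLe hYX).toEquiv
  have c2 : Nat.card (V.subgroupOf W) = Nat.card V :=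
    Nat.card_congr (Subgroup.subgroupOfEquivOfLe hVW).toEquiv
  rw [c1, c2] at key
  refine ⟨key.1, fun heq w hw => ?_⟩
  obtain ⟨a, ha⟩ := key.2 heq ⟨w, hw⟩
  rw [mem_subgroupOf] at ha
  exact ⟨a, a.2, ha⟩

variable {S : Type*} [Group S]

/-- `C_D(X)`. -/
abbrev cD (D X : Subgroup S) : Subgroup S := D ⊓ centralizer (X : Set S)

theorem mem_cD {D X : Subgroup S} {u : S} : u ∈ cD D X ↔ u ∈ D ∧ ∀ a ∈ X, a * u = u * a := by
  rw [mem_inf, mem_centralizer_iff]; rfl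

theorem comm_mem_of_normal {D : Subgroup S} [hn : D.Normal] {v : S} (hv : v ∈ D) (a : S) :
    ⁅v, a⁆ ∈ D := by
  rw [commutatorElement_def]
  have : v * a * v⁻¹ * a⁻¹ = v * (a * v⁻¹ * a⁻¹) := by group
  rw [this]
  exact D.mul_mem hv (hn.conj_mem _ (D.inv_mem hv) a)

/-- The subgroup `X_v = {a ∈ X | [v, a] ∈ C_D(X)}`. -/
def offSub (D X : Subgroup S) (v : S) : Subgroup S where
  carrier := {a | a ∈ X ∧ ⁅v, a⁆ ∈ cD D X}
  one_mem' := ⟨X.one_mem, by simp⟩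
  mul_mem' := by
    rintro a b ⟨ha, ha'⟩ ⟨hb, hb'⟩
    refine ⟨X.mul_mem ha hb, ?_⟩
    have e : ⁅v, a * b⁆ = ⁅v, a⁆ * (a * ⁅v, b⁆ * a⁻¹) := by
      simp only [commutatorElement_def]; group
    have h1 : a * ⁅v, b⁆ * a⁻¹ = ⁅v, b⁆ := by
      rw [(mem_cD.mp hb').2 a ha]; group
    rw [e, h1]
    exact mul_mem ha' hb'
  inv_mem' := by
    rintro a ⟨ha, ha'⟩
    refine ⟨X.inv_mem ha, ?_⟩
    have e : ⁅v, a⁻¹⁆ = a⁻¹ * ⁅v, a⁆⁻¹ * a := by
      simp only [commutatorElement_def]; group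
    have h1 : a⁻¹ * ⁅v, a⁆⁻¹ * a = ⁅v, a⁆⁻¹ := by
      have := (mem_cD.mp (inv_mem ha')).2 a⁻¹ (X.inv_mem ha)
      rw [this]; group
    rw [e, h1]
    exact inv_mem ha'

theorem mem_offSub {D X : Subgroup S} {v a : S} :
    a ∈ offSub D X v ↔ a ∈ X ∧ ⁅v, a⁆ ∈ cD D X := Iff.rfl

theorem offSub_le (D X : Subgroup S) (v : S) : offSub D X v ≤ X := fun _ h => h.1

theorem comm_of_mem' {A : Subgroup S} (hA : IsMulCommutative A) {a b : S} (ha : a ∈ A) (hb : b ∈ A) :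
    a * b = b * a :=
  congrArg Subtype.val (mul_comm' (⟨a, ha⟩ : A) ⟨b, hb⟩)

/-- The Timmesfeld replacement step: the measure does not decrease on passing to `X_v`. -/
theorem timmesfeld_step [Finite S] (D : Subgroup S) [D.Normal] (hD : IsMulCommutative D)
    (X : Subgroup S) (hX : IsMulCommutative X) (v : S) (hv : v ∈ D) :
    Nat.card X * Nat.card (cD D X) ≤ Nat.card (offSub D X v) * Nat.card (cD D (offSub D X v)) ∧
      (Nat.card X * Nat.card (cD D X) =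
          Nat.card (offSub D X v) * Nat.card (cD D (offSub D X v)) →
        cD D (offSub D X v) ≤ ⁅D, X⁆ ⊔ cD D X) := by
  set Y := offSub D X v with hY
  have hVW : cD D X ≤ cD D Y :=
    inf_le_inf_left _ (centralizer_le (by exact_mod_cast offSub_le D X v))
  have hψW : ∀ a ∈ X, ⁅v, a⁆ ∈ cD D Y := by
    intro a ha
    rw [mem_cD]
    refine ⟨comm_mem_of_normal hv a, ?_⟩
    intro c hc
    -- u = ⁅v, c⁆ ∈ C_D(X)
    obtain ⟨hcX, hu⟩ := mem_offSub.mp hc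
    set u := ⁅v, c⁆ with hu_def
    have huD : u ∈ D := (mem_cD.mp hu).1
    have hua : a⁻¹ * u = u * a⁻¹ := (mem_cD.mp hu).2 a⁻¹ (X.inv_mem ha)
    have hca : c * a = a * c := comm_of_mem' hX hcX ha
    have hcv : c * v * c⁻¹ = u⁻¹ * v := by
      rw [hu_def, commutatorElement_def]; group
    have hcvi : c * v⁻¹ * c⁻¹ = v⁻¹ * u := by
      rw [hu_def, commutatorElement_def]; group
    have hcac : c * a * c⁻¹ = a := by rw [hca]; group
    have hcaic : c * a⁻¹ * c⁻¹ = a⁻¹ := by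
      have : c * a⁻¹ * c⁻¹ = (c * a * c⁻¹)⁻¹ := by group
      rw [this, hcac]
    have hcomm : u⁻¹ * ⁅v, a⁆ = ⁅v, a⁆ * u⁻¹ :=
      comm_of_mem' hD (D.inv_mem huD) (comm_mem_of_normal hv a)
    have e1 : c * ⁅v, a⁆ * c⁻¹ = (c * v * c⁻¹) * (c * a * c⁻¹) * (c * v⁻¹ * c⁻¹) * (c * a⁻¹ * c⁻¹) := by
      rw [commutatorElement_def]; group
    have e2 : c * ⁅v, a⁆ * c⁻¹ = ⁅v, a⁆ := by
      rw [e1, hcv, hcac, hcvi, hcaic]
      calc u⁻¹ * v * a * (v⁻¹ * u) * a⁻¹ = u⁻¹ * v * a * v⁻¹ * (u * a⁻¹) := by group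
        _ = u⁻¹ * v * a * v⁻¹ * (a⁻¹ * u) := by rw [hua]
        _ = (u⁻¹ * ⁅v, a⁆) * u := by rw [commutatorElement_def]; group
        _ = (⁅v, a⁆ * u⁻¹) * u := by rw [hcomm]
        _ = ⁅v, a⁆ := by group
    calc c * ⁅v, a⁆ = (c * ⁅v, a⁆ * c⁻¹) * c := by group
      _ = ⁅v, a⁆ * c := by rw [e2]
  have hψ : ∀ a ∈ X, ∀ b ∈ X, (⁅v, a⁆)⁻¹ * ⁅v, b⁆ ∈ cD D X → a⁻¹ * b ∈ Y := by
    intro a ha b hb hab
    rw [hY, mem_offSub]
    refine ⟨X.mul_mem (X.inv_mem ha) hb, ?_⟩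
    have e : ⁅v, a⁻¹ * b⁆ = a⁻¹ * ((⁅v, a⁆)⁻¹ * ⁅v, b⁆) * a := by
      simp only [commutatorElement_def]; group
    have h1 : a⁻¹ * ((⁅v, a⁆)⁻¹ * ⁅v, b⁆) * a = (⁅v, a⁆)⁻¹ * ⁅v, b⁆ := by
      rw [(mem_cD.mp hab).2 a⁻¹ (X.inv_mem ha)]; group
    rw [e, h1]; exact hab
  have key := card_mul_le_of_coset_map' (offSub_le D X v) hVW (fun a => ⁅v, a⁆) hψW hψ
  refine ⟨key.1, fun heq w hw => ?_⟩
  obtain ⟨a, ha, haw⟩ := key.2 heq w hw
  have : w = ⁅v, a⁆ * ((⁅v, a⁆)⁻¹ * w) := by group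
  rw [this]
  exact mul_mem (mem_sup_left (commutator_mem_commutator hv ha)) (mem_sup_right haw)

/-- A best offender contains a quadratic best offender whose fixed points are controlled. -/
theorem exists_quadratic_offender [Finite S] (D : Subgroup S) [D.Normal] (hD : IsMulCommutative D)
    (B : Subgroup S) (hB : IsMulCommutative B)
    (hBO : ∀ X : Subgroup S, X ≤ B →
      Nat.card X * Nat.card (cD D X) ≤ Nat.card B * Nat.card (cD D B)) :
    ∃ X : Subgroup S, X ≤ B ∧ Nat.card X * Nat.card (cD D X) = Nat.card B * Nat.card (cD D B) ∧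
      cD D X ≤ ⁅D, B⁆ ⊔ cD D B ∧ ∀ d ∈ D, ∀ a ∈ X, ⁅d, a⁆ ∈ cD D X := by
  classical
  have hne : Nonempty {X : Subgroup S // X ≤ B ∧
      Nat.card X * Nat.card (cD D X) = Nat.card B * Nat.card (cD D B) ∧
      cD D X ≤ ⁅D, B⁆ ⊔ cD D B} := ⟨⟨B, le_rfl, rfl, le_sup_right⟩⟩
  obtain ⟨⟨X, hXB, hXμ, hXc⟩, hmin⟩ := Finite.exists_min
    (fun X : {X : Subgroup S // X ≤ B ∧
      Nat.card X * Nat.card (cD D X) = Nat.card B * Nat.card (cD D B) ∧
      cD D X ≤ ⁅D, B⁆ ⊔ cD D B} => Nat.card X.1)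
  simp only at hmin
  refine ⟨X, hXB, hXμ, hXc, ?_⟩
  intro d hd a ha
  have hXcomm : IsMulCommutative X := by
    refine ⟨⟨fun x y => ?_⟩⟩
    apply Subtype.ext
    exact comm_of_mem' hB (hXB x.2) (hXB y.2)
  obtain ⟨h1, h2⟩ := timmesfeld_step D hD X hXcomm d hd
  set Y := offSub D X d with hY
  have hYB : Y ≤ B := (offSub_le D X d).trans hXB
  have hYμ : Nat.card Y * Nat.card (cD D Y) = Nat.card B * Nat.card (cD D B) :=
    le_antisymm (hBO Y hYB) (hXμ ▸ h1)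
  have hYc : cD D Y ≤ ⁅D, B⁆ ⊔ cD D B := by
    refine (h2 (hXμ.trans hYμ.symm)).trans ?_
    exact sup_le (le_sup_of_le_left (commutator_mono le_rfl hXB)) hXc
  have hcard := hmin ⟨Y, hYB, hYμ, hYc⟩
  simp only at hcard
  have hYX : Y = X := Subgroup.eq_of_le_of_card_ge (offSub_le D X d) hcard
  have : a ∈ Y := hYX ▸ ha
  exact (mem_offSub.mp this).2

end Cfsg.Agent.Helper51
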