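import Mathlib
import Cfsg.Agent.Helper51.Offender

set_option autoImplicit false

namespace Cfsg.Agent.Helper51

open Subgroup
open scoped commutatorElement

variable {G : Type*} [Group G]

theorem comm_mem_of_mem_normalizer {V : Subgroup G} {v a : G} (hv : v ∈ V)
    (ha : a ∈ normalizer (V : Set G)) : ⁅v, a⁆ ∈ V := by
  rw [commutatorElement_def]
  have : v * a * v⁻¹ * a⁻¹ = v * (a * v⁻¹ * a⁻¹) := by group
  rw [this]
  exact V.mul_mem hv ((mem_normalizer_iff.mp ha v⁻¹).mp (V.inv_mem hv))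

theorem conj_mem_of_mem_normalizer {V : Subgroup G} {v a : G} (hv : v ∈ V)
    (ha : a ∈ normalizer (V : Set G)) : a * v * a⁻¹ ∈ V :=
  (mem_normalizer_iff.mp ha v).mp hv

/-- The basic symmetry: `c` commutes with `[v,a]` iff `a` commutes with `[v,c]`, when `a, c` normalize the
abelian group `V`, `v ∈ V` and `[a⁻¹, c]` centralizes `V`. -/
theorem conj_comm_eq (V : Subgroup G) (hV : IsMulCommutative V) {v a c : G} (hv : v ∈ V)
    (ha : a ∈ normalizer (V : Set G)) (hc : c ∈ normalizer (V : Set G))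
    (hz : ⁅a⁻¹, c⁆ ∈ centralizer (V : Set G)) :
    c * ⁅v, a⁆ * c⁻¹ = ⁅v, a⁆ * ⁅(⁅v, c⁆)⁻¹, a⁆ := by
  set u := ⁅v, c⁆ with hu
  set z := ⁅a⁻¹, c⁆ with hzdef
  have huV : u ∈ V := comm_mem_of_mem_normalizer hv hc
  have hv' : c * v * c⁻¹ = u⁻¹ * v := by rw [hu, commutatorElement_def]; group
  have hv'V : u⁻¹ * v ∈ V := V.mul_mem (V.inv_mem huV) hv
  have ha' : c * a * c⁻¹ = a * z := by rw [hzdef, commutatorElement_def]; group
  have hzc : ∀ w ∈ V, w * z = z * w := fun w hw => mem_centralizer_iff.mp hz w hw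
  -- c [v,a] c⁻¹ = [v', a z] = [v', a]
  have e1 : c * ⁅v, a⁆ * c⁻¹ = ⁅c * v * c⁻¹, c * a * c⁻¹⁆ := by
    simp only [commutatorElement_def]; group
  have e2 : ⁅u⁻¹ * v, a * z⁆ = ⁅u⁻¹ * v, a⁆ := by
    have hw : (u⁻¹ * v)⁻¹ * z = z * (u⁻¹ * v)⁻¹ := hzc _ (V.inv_mem hv'V)
    simp only [commutatorElement_def]
    calc u⁻¹ * v * (a * z) * (u⁻¹ * v)⁻¹ * (a * z)⁻¹
        = u⁻¹ * v * a * (z * (u⁻¹ * v)⁻¹) * z⁻¹ * a⁻¹ := by group
      _ = u⁻¹ * v * a * ((u⁻¹ * v)⁻¹ * z) * z⁻¹ * a⁻¹ := by rw [hw]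
      _ = u⁻¹ * v * a * (u⁻¹ * v)⁻¹ * a⁻¹ := by group
  have e3 : ⁅u⁻¹ * v, a⁆ = u⁻¹ * ⁅v, a⁆ * (a * u * a⁻¹) := by
    simp only [commutatorElement_def]; group
  have hvaV : ⁅v, a⁆ ∈ V := comm_mem_of_mem_normalizer hv ha
  have hcomm : u⁻¹ * ⁅v, a⁆ = ⁅v, a⁆ * u⁻¹ := comm_of_mem' hV (V.inv_mem huV) hvaV
  rw [e1, hv', ha', e2, e3, hcomm]
  simp only [commutatorElement_def]; group

theorem conj_comm_eq_iff (V : Subgroup G) (hV : IsMulCommutative V) {v a c : G} (hv : v ∈ V)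
    (ha : a ∈ normalizer (V : Set G)) (hc : c ∈ normalizer (V : Set G))
    (hz : ⁅a⁻¹, c⁆ ∈ centralizer (V : Set G)) :
    c * ⁅v, a⁆ = ⁅v, a⁆ * c ↔ a * ⁅v, c⁆ = ⁅v, c⁆ * a := by
  have key := conj_comm_eq V hV hv ha hc hz
  constructor
  · intro h
    have h1 : c * ⁅v, a⁆ * c⁻¹ = ⁅v, a⁆ := by rw [h]; group
    rw [h1] at key
    have h2 : ⁅(⁅v, c⁆)⁻¹, a⁆ = 1 := by
      have := key.symm
      exact mul_left_cancel (a := ⁅v, a⁆) (by rw [this, mul_one])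
    rw [commutatorElement_def] at h2
    -- u⁻¹ a u a⁻¹ = 1
    have h3 : a * ⁅v, c⁆ = ⁅v, c⁆ * ((⁅v, c⁆)⁻¹ * a * (⁅v, c⁆)⁻¹⁻¹ * a⁻¹) * a := by group
    rw [h3, h2, mul_one]
  · intro h
    have h2 : ⁅(⁅v, c⁆)⁻¹, a⁆ = 1 := by
      rw [commutatorElement_def]
      have : (⁅v, c⁆)⁻¹ * a * (⁅v, c⁆)⁻¹⁻¹ * a⁻¹ = (⁅v, c⁆)⁻¹ * (a * ⁅v, c⁆) * a⁻¹ := by group
      rw [this, h]; group
    rw [h2, mul_one] at key
    calc c * ⁅v, a⁆ = (c * ⁅v, a⁆ * c⁻¹) * c := by group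
      _ = ⁅v, a⁆ * c := by rw [key]

/-- General form of the Timmesfeld step: `V` abelian, `X` normalizes `V` and acts with abelian image. -/
theorem timmesfeld_step' [Finite G] (V X : Subgroup G) (hV : IsMulCommutative V)
    (hXV : X ≤ normalizer (V : Set G)) (hab : ⁅X, X⁆ ≤ centralizer (V : Set G)) (v : G) (hv : v ∈ V) :
    (∀ a ∈ X, ⁅v, a⁆ ∈ cD V (offSub V X v)) ∧
    Nat.card X * Nat.card (cD V X) ≤ Nat.card (offSub V X v) * Nat.card (cD V (offSub V X v)) ∧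
      (Nat.card X * Nat.card (cD V X) =
          Nat.card (offSub V X v) * Nat.card (cD V (offSub V X v)) →
        ∀ w ∈ cD V (offSub V X v), ∃ a ∈ X, (⁅v, a⁆)⁻¹ * w ∈ cD V X) := by
  set Y := offSub V X v with hY
  have hVW : cD V X ≤ cD V Y :=
    inf_le_inf_left _ (centralizer_le (by exact_mod_cast offSub_le V X v))
  have hψW : ∀ a ∈ X, ⁅v, a⁆ ∈ cD V Y := by
    intro a ha
    rw [mem_cD]
    refine ⟨comm_mem_of_mem_normalizer hv (hXV ha), ?_⟩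
    intro c hc
    obtain ⟨hcX, hu⟩ := mem_offSub.mp hc
    have hz : ⁅a⁻¹, c⁆ ∈ centralizer (V : Set G) :=
      hab (commutator_mem_commutator (X.inv_mem ha) hcX)
    rw [conj_comm_eq_iff V hV hv (hXV ha) (hXV hcX) hz]
    exact (mem_cD.mp hu).2 a ha
  have hψ : ∀ a ∈ X, ∀ b ∈ X, (⁅v, a⁆)⁻¹ * ⁅v, b⁆ ∈ cD V X → a⁻¹ * b ∈ Y := by
    intro a ha b hb hab'
    rw [hY, mem_offSub]
    refine ⟨X.mul_mem (X.inv_mem ha) hb, ?_⟩
    have e : ⁅v, a⁻¹ * b⁆ = a⁻¹ * ((⁅v, a⁆)⁻¹ * ⁅v, b⁆) * a := by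
      simp only [commutatorElement_def]; group
    have h1 : a⁻¹ * ((⁅v, a⁆)⁻¹ * ⁅v, b⁆) * a = (⁅v, a⁆)⁻¹ * ⁅v, b⁆ := by
      rw [(mem_cD.mp hab').2 a⁻¹ (X.inv_mem ha)]; group
    rw [e, h1]; exact hab'
  have key := card_mul_le_of_coset_map' (offSub_le V X v) hVW (fun a => ⁅v, a⁆) hψW hψ
  exact ⟨hψW, key.1, key.2⟩

/-- The measure `|X| |C_V(X)|`. -/
noncomputable def mu (V X : Subgroup G) : ℕ := Nat.card X * Nat.card (cD V X)

theorem mu_pos [Finite G] (V X : Subgroup G) : 0 < mu V X := Nat.mul_pos Nat.card_pos Nat.card_pos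

/-- Intersections of subgroups of maximal measure have maximal measure, and their fixed points are the
product of the fixed points. -/
theorem inf_of_max_mu [Finite G] (V : Subgroup G) {A X Y : Subgroup G}
    (hBO : ∀ B : Subgroup G, B ≤ A → mu V B ≤ mu V A) (hX : X ≤ A) (hY : Y ≤ A)
    (hXμ : mu V X = mu V A) (hYμ : mu V Y = mu V A) :
    mu V (X ⊓ Y) = mu V A ∧ cD V (X ⊓ Y) = cD V X ⊔ cD V Y := by
  set M := mu V A with hM
  have hMpos : 0 < M := mu_pos V A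
  have hab := card_mul_card_le_sup_mul_inf X Y
  set P := cD V X with hP
  set Q := cD V Y with hQ
  have hPQ : P ⊓ Q = cD V (X ⊔ Y) := by
    simp only [hP, hQ, cD]
    rw [centralizer_sup]
    exact (inf_inf_distrib_left V _ _).symm
  have hsupPQ : P ⊔ Q ≤ cD V (X ⊓ Y) :=
    sup_le (inf_le_inf_left _ (le_sup_left.trans (sup_centralizer_le X Y)))
      (inf_le_inf_left _ (le_sup_right.trans (sup_centralizer_le X Y)))
  have h3 := card_mul_card_le_sup_mul_inf P Q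
  have h4 : Nat.card ↥(P ⊔ Q) ≤ Nat.card ↥(cD V (X ⊓ Y)) := Subgroup.card_le_of_le hsupPQ
  have h1 := hBO (X ⊔ Y) (sup_le hX hY)
  have h2 := hBO (X ⊓ Y) (inf_le_left.trans hX)
  set a := Nat.card ↥(X ⊔ Y) * Nat.card ↥(X ⊓ Y) with ha
  set b := Nat.card X * Nat.card Y with hb
  set c := Nat.card ↥(P ⊔ Q) * Nat.card ↥(P ⊓ Q) with hc
  set c' := Nat.card ↥(cD V (X ⊓ Y)) * Nat.card ↥(P ⊓ Q) with hc'
  set d := Nat.card P * Nat.card Q with hd
  have hcc' : c ≤ c' := Nat.mul_le_mul_right _ h4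
  have e1 : mu V (X ⊔ Y) * mu V (X ⊓ Y) = a * c' := by
    simp only [mu, ha, hc', hPQ]; ring
  have e2 : M * M = b * d := by
    have : M * M = mu V X * mu V Y := by rw [hXμ, hYμ]
    rw [this]; simp only [mu, hb, hd, hP, hQ]; ring
  have apos : 0 < a := Nat.mul_pos Nat.card_pos Nat.card_pos
  have cpos : 0 < c := Nat.mul_pos Nat.card_pos Nat.card_pos
  have c'pos : 0 < c' := Nat.mul_pos Nat.card_pos Nat.card_pos
  have h5 : a * c' ≤ b * d := by rw [← e1, ← e2]; exact Nat.mul_le_mul h1 h2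
  have hdc : d ≤ c' := h3.trans hcc'
  have hcd' : c' = d := by
    apply le_antisymm _ hdc
    have : a * c' ≤ a * d := h5.trans (Nat.mul_le_mul_right d hab)
    exact Nat.le_of_mul_le_mul_left this apos
  have hab' : a = b := by
    apply le_antisymm _ hab
    rw [← hcd'] at h5
    exact Nat.le_of_mul_le_mul_right h5 c'pos
  have hcc'' : c = c' := le_antisymm hcc' (hcd'.le.trans h3)
  have e3 : mu V (X ⊔ Y) * mu V (X ⊓ Y) = M * M := by rw [e1, e2, hab', hcd']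
  have x1 : mu V (X ⊔ Y) = M := by
    by_contra hne
    have hlt : mu V (X ⊔ Y) < M := lt_of_le_of_ne h1 hne
    have : mu V (X ⊔ Y) * mu V (X ⊓ Y) < M * M :=
      calc mu V (X ⊔ Y) * mu V (X ⊓ Y) < M * mu V (X ⊓ Y) :=
            Nat.mul_lt_mul_of_pos_right hlt (mu_pos _ _)
        _ ≤ M * M := Nat.mul_le_mul_left M h2
    omega
  have x2 : mu V (X ⊓ Y) = M := by
    rw [x1] at e3
    exact Nat.eq_of_mul_eq_mul_left hMpos e3
  refine ⟨x2, ?_⟩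
  have hcardeq : Nat.card ↥(P ⊔ Q) = Nat.card ↥(cD V (X ⊓ Y)) := by
    have hpos : 0 < Nat.card ↥(P ⊓ Q) := Nat.card_pos
    exact Nat.eq_of_mul_eq_mul_right hpos hcc''
  exact (Subgroup.eq_of_le_of_card_ge hsupPQ hcardeq.symm.le).symm

end Cfsg.Agent.Helper51
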