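import Mathlib
import Cfsg.Agent.Helper51.DStar
import Cfsg.Agent.Helper51.Offender2

set_option autoImplicit false

namespace Cfsg.Agent.Helper51

open Subgroup
open scoped commutatorElement

variable {G : Type*} [Group G]

theorem iterComm_le_lcs (N A : Subgroup G) (n : ℕ) :
    iterComm N A n ≤ (N ⊔ A).lowerCentralSeries n := by
  induction n with
  | zero => exact le_sup_left
  | succ n ih => exact commutator_mono ih le_sup_right

theorem iterComm_le' {N A : Subgroup G} (hAN : A ≤ normalizer (N : Set G)) (n : ℕ) :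
    iterComm N A n ≤ N := by
  induction n with
  | zero => exact le_rfl
  | succ n ih =>
    exact (commutator_mono ih le_rfl).trans (le_normalizer_iff_commutator_le_left.mp hAN)

/-- The action of a `p`-group on a `p`-group it normalizes is nilpotent. -/
theorem exists_iterComm_eq_bot_of_isPGroup [Finite G] {p : ℕ} [Fact p.Prime] {V A : Subgroup G}
    (hV : IsPGroup p V) (hA : IsPGroup p A) (hAV : A ≤ normalizer (V : Set G)) :
    ∃ k, iterComm V A k = ⊥ := by
  have hp : IsPGroup p ↥(V ⊔ A) := hV.to_sup_of_normal_left' hA hAV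
  have hnil : Group.IsNilpotent ↥(V ⊔ A) := hp.isNilpotent
  obtain ⟨k, hk⟩ := (Subgroup.isNilpotent_iff_lowerCentralSeries (V ⊔ A)).mp hnil
  exact ⟨k, le_bot_iff.mp (hk ▸ iterComm_le_lcs V A k)⟩

/-- `[U C, B] ≤ [U, B]` inside an abelian subgroup `D` normalized by `B`, when `C` centralizes `B`. -/
theorem commutator_sup_le' {D : Subgroup G} (hD : IsMulCommutative D)
    {U C B : Subgroup G} (hBD : B ≤ normalizer (D : Set G)) (hU : U ≤ D) (hC : C ≤ cD D B) :
    ⁅U ⊔ C, B⁆ ≤ ⁅U, B⁆ := by
  rw [commutator_le]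
  intro g hg b hb
  have hUD : ⁅U, B⁆ ≤ D :=
    (commutator_mono hU le_rfl).trans (le_normalizer_iff_commutator_le_left.mp hBD)
  have hsupD : U ⊔ C ≤ D := sup_le hU (hC.trans inf_le_left)
  have hcl : U ⊔ C = closure ((U : Set G) ∪ C) := by
    rw [Subgroup.closure_union, closure_eq, closure_eq]
  rw [hcl] at hg
  induction hg using closure_induction with
  | mem x hx =>
    rcases hx with hx | hx
    · exact commutator_mem_commutator hx hb
    · have := (mem_cD.mp (hC hx)).2 b hb
      have e : ⁅x, b⁆ = 1 := by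
        rw [commutatorElement_def, ← this]; group
      rw [e]; exact one_mem _
  | one => simp
  | mul x y hx hy ihx ihy =>
    rw [← hcl] at hx
    have e : ⁅x * y, b⁆ = x * ⁅y, b⁆ * x⁻¹ * ⁅x, b⁆ := by
      simp only [commutatorElement_def]; group
    have h1 : x * ⁅y, b⁆ * x⁻¹ = ⁅y, b⁆ := by
      rw [comm_of_mem' hD (hsupD hx) (hUD ihy)]; group
    rw [e, h1]; exact mul_mem ihy ihx
  | inv x hx ihx =>
    rw [← hcl] at hx
    have e : ⁅x⁻¹, b⁆ = x⁻¹ * ⁅x, b⁆⁻¹ * x := by
      simp only [commutatorElement_def]; group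
    have h1 : x⁻¹ * ⁅x, b⁆⁻¹ * x = ⁅x, b⁆⁻¹ := by
      rw [comm_of_mem' hD (D.inv_mem (hsupD hx)) (D.inv_mem (hUD ihx))]; group
    rw [e, h1]; exact inv_mem ihx

/-- If `D ≤ [D,B] C_D(B)` and the action of `B` on `D` is nilpotent then `[D,B] = 1`. -/
theorem commutator_eq_bot_of_le_sup' {D : Subgroup G} (hD : IsMulCommutative D) {B : Subgroup G}
    (hBD : B ≤ normalizer (D : Set G)) (hnil : ∃ k, iterComm D B k = ⊥)
    (h : D ≤ ⁅D, B⁆ ⊔ cD D B) : ⁅D, B⁆ = ⊥ := by
  have hT : ∀ i, iterComm D B i ≤ D := iterComm_le' hBD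
  have key : ∀ i, iterComm D B 1 ≤ iterComm D B (i + 1) := by
    intro i
    induction i with
    | zero => exact le_rfl
    | succ i ih =>
      calc iterComm D B 1 = ⁅D, B⁆ := rfl
        _ ≤ ⁅⁅D, B⁆ ⊔ cD D B, B⁆ := commutator_mono h le_rfl
        _ ≤ ⁅iterComm D B (i + 1) ⊔ cD D B, B⁆ :=
          commutator_mono (sup_le_sup_right ih _) le_rfl
        _ ≤ ⁅iterComm D B (i + 1), B⁆ := commutator_sup_le' hD hBD (hT _) le_rfl
        _ = iterComm D B (i + 2) := rfl
  obtain ⟨k, hk'⟩ := hnil
  cases k with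
  | zero =>
    have hDbot : D = ⊥ := hk'
    rw [hDbot]; exact commutator_bot_left B
  | succ k =>
    have := key k
    rw [hk'] at this
    exact le_bot_iff.mp this

/-- Commutators with `B` only depend on `B` modulo the centralizer: `[W, P K] = [W, P]` when `K`
centralizes `D ≥ W`, `K` is normalized by `P`. -/
theorem commutator_sup_centralizer_eq {D W P K : Subgroup G} (hW : W ≤ D)
    (hK : K ≤ centralizer (D : Set G)) (hPK : P ≤ normalizer (K : Set G)) :
    ⁅W, P ⊔ K⁆ = ⁅W, P⁆ := by
  apply le_antisymm _ (commutator_mono le_rfl le_sup_left)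
  rw [commutator_le]
  intro w hw a ha
  have hmem : a ∈ ((P ⊔ K : Subgroup G) : Set G) := ha
  rw [coe_mul_of_left_le_normalizer_right P K hPK] at hmem
  obtain ⟨x, hx, k, hk, rfl⟩ := hmem
  have hwk : ⁅w, k⁆ = 1 := by
    have := mem_centralizer_iff.mp (hK hk) w (hW hw)
    rw [commutatorElement_def, this]; group
  have e : ⁅w, x * k⁆ = ⁅w, x⁆ * (x * ⁅w, k⁆ * x⁻¹) := by
    simp only [commutatorElement_def]; group
  rw [e, hwk]
  simp only [mul_one, mul_inv_cancel]
  exact commutator_mem_commutator hw hx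

/-- A group `A` acting on a `p`-group `V` through a `p`-group quotient acts nilpotently. -/
theorem exists_iterComm_eq_bot_of_pAction [Finite G] {p : ℕ} [Fact p.Prime] {V A : Subgroup G}
    (hV : IsPGroup p V) (hAV : A ≤ normalizer (V : Set G))
    (hpow : ∀ a ∈ A, a ^ p ∈ centralizer (V : Set G)) : ∃ k, iterComm V A k = ⊥ := by
  classical
  -- a Sylow p-subgroup of A
  obtain ⟨P⟩ : Nonempty (Sylow p ↥A) := inferInstance
  set P' : Subgroup G := (P : Subgroup ↥A).map A.subtype with hP'
  have hP'A : P' ≤ A := map_subtype_le _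
  have hP'p : IsPGroup p P' := P.2.map A.subtype
  set K : Subgroup G := A ⊓ centralizer (V : Set G) with hK
  -- K is normal in A
  have hAK : A ≤ normalizer (K : Set G) := by
    intro a ha
    rw [mem_normalizer_iff]
    intro k
    have hiff : ∀ b ∈ A, ∀ k ∈ K, b * k * b⁻¹ ∈ K := by
      intro b hb k hk
      rw [hK, mem_inf] at hk ⊢
      refine ⟨A.mul_mem (A.mul_mem hb hk.1) (A.inv_mem hb), ?_⟩
      rw [mem_centralizer_iff]
      intro v hv
      have hv' : b⁻¹ * v * b ∈ V := by
        have := (mem_normalizer_iff.mp (hAV (A.inv_mem hb)) v).mp hv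
        simpa using this
      have := mem_centralizer_iff.mp hk.2 _ hv'
      calc v * (b * k * b⁻¹) = b * ((b⁻¹ * v * b) * k) * b⁻¹ := by group
        _ = b * (k * (b⁻¹ * v * b)) * b⁻¹ := by rw [this]
        _ = b * k * b⁻¹ * v := by group
    constructor
    · exact hiff a ha k
    · intro h
      have := hiff a⁻¹ (A.inv_mem ha) _ h
      simpa [mul_assoc] using this
  -- A = P' K
  have hsup : A ≤ P' ⊔ K := by
    rw [← relIndex_eq_one]
    have h1 : (P' ⊔ K).relIndex A ∣ P'.relIndex A := relIndex_dvd_of_le_left A le_sup_left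
    have h2 : (P' ⊔ K).relIndex A ∣ K.relIndex A := relIndex_dvd_of_le_left A le_sup_right
    have h3 : ¬ p ∣ P'.relIndex A := by
      have : P'.relIndex A = (P : Subgroup ↥A).index := by
        rw [relIndex, hP', ← comap_subtype,
          comap_map_eq_self_of_injective (Subgroup.subtype_injective A)]
      rw [this]; exact P.not_dvd_index
    -- K.relIndex A is a power of p
    have h4 : ∃ n, K.relIndex A = p ^ n := by
      have : (K.subgroupOf A).Normal := by
        rw [← Subgroup.normal_subgroupOf_iff_le_normalizer inf_le_left] at hAK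
        exact hAK
      have hq : IsPGroup p (↥A ⧸ K.subgroupOf A) := by
        intro x
        obtain ⟨a, rfl⟩ := QuotientGroup.mk_surjective x
        refine ⟨1, ?_⟩
        rw [pow_one, ← QuotientGroup.mk_pow, QuotientGroup.eq_one_iff, mem_subgroupOf]
        rw [hK, mem_inf]
        exact ⟨A.pow_mem a.2 p, hpow a a.2⟩
      obtain ⟨n, hn⟩ := IsPGroup.iff_card.mp hq
      exact ⟨n, by rw [relIndex, index_eq_card, hn]⟩
    obtain ⟨n, hn⟩ := h4
    rw [hn] at h2
    obtain ⟨m, _, hm⟩ := (Nat.dvd_prime_pow Fact.out).mp h2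
    cases m with
    | zero => simpa using hm
    | succ m =>
      exfalso
      apply h3
      exact dvd_trans (by rw [hm]; exact dvd_pow_self p (Nat.succ_ne_zero m)) h1
  have hAeq : A = P' ⊔ K := le_antisymm hsup (sup_le hP'A inf_le_left)
  -- nilpotency for P'
  obtain ⟨k, hk⟩ := exists_iterComm_eq_bot_of_isPGroup hV hP'p (hP'A.trans hAV)
  refine ⟨k, ?_⟩
  have hiter : ∀ n, iterComm V A n = iterComm V P' n := by
    intro n
    induction n with
    | zero => rfl
    | succ n ih =>
      change ⁅iterComm V A n, A⁆ = ⁅iterComm V P' n, P'⁆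
      rw [ih]
      nth_rewrite 1 [hAeq]
      exact commutator_sup_centralizer_eq (iterComm_le' (hP'A.trans hAV) n) inf_le_right
        (hP'A.trans hAK)
  rw [hiter]; exact hk

end Cfsg.Agent.Helper51
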