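import Mathlib
import Cfsg.Agent.Helper51.Offender2

set_option autoImplicit false

namespace Cfsg.Agent.Helper51

open Subgroup
open scoped commutatorElement

variable {G : Type*} [Group G]

/-- The subgroup generated by the commutators `[u, a]`, `a ∈ A`. -/
def commSub (A : Subgroup G) (u : G) : Subgroup G := closure {g | ∃ a ∈ A, ⁅u, a⁆ = g}

theorem iSup_commSub (U A : Subgroup G) : ⨆ u ∈ (U : Set G), commSub A u = ⁅U, A⁆ := by
  apply le_antisymm
  · apply iSup₂_le
    intro u hu
    unfold commSub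
    rw [closure_le]
    rintro g ⟨a, ha, rfl⟩
    exact commutator_mem_commutator hu ha
  · rw [commutator_le]
    intro u hu a ha
    have h1 : ⁅u, a⁆ ∈ commSub A u := subset_closure ⟨a, ha, rfl⟩
    exact (le_iSup₂ (f := fun u (_ : u ∈ (U : Set G)) => commSub A u) u hu) h1

/-- One step of the replacement: the subgroup `A_u`. -/
theorem offSub_max [Finite G] (V A : Subgroup G) (hV : IsMulCommutative V)
    (hAV : A ≤ normalizer (V : Set G)) (hab : ⁅A, A⁆ ≤ centralizer (V : Set G))
    (hBO : ∀ B : Subgroup G, B ≤ A → mu V B ≤ mu V A) {u : G} (hu : u ∈ V) :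
    mu V (offSub V A u) = mu V A ∧ cD V (offSub V A u) = commSub A u ⊔ cD V A := by
  obtain ⟨h0, h1, h2⟩ := timmesfeld_step' V A hV hAV hab u hu
  have heq : mu V (offSub V A u) = mu V A := le_antisymm (hBO _ (offSub_le V A u)) h1
  refine ⟨heq, le_antisymm ?_ ?_⟩
  · intro w hw
    obtain ⟨a, ha, haw⟩ := h2 heq.symm w hw
    have : w = ⁅u, a⁆ * ((⁅u, a⁆)⁻¹ * w) := by group
    rw [this]
    exact mul_mem (mem_sup_left (subset_closure ⟨a, ha, rfl⟩)) (mem_sup_right haw)
  · apply sup_le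
    · unfold commSub
      rw [closure_le]
      rintro g ⟨a, ha, rfl⟩
      exact h0 a ha
    · exact inf_le_inf_left _ (centralizer_le (by exact_mod_cast offSub_le V A u))

/-- Membership in `A ⊓ C([U,A])` in terms of the subgroups `A_u`. -/
theorem mem_inf_centralizer_commutator_iff (V A U : Subgroup G) (hV : IsMulCommutative V)
    (hAV : A ≤ normalizer (V : Set G)) (hab : ⁅A, A⁆ ≤ centralizer (V : Set G)) (hU : U ≤ V) (a : G) :
    a ∈ A ⊓ centralizer ((⁅U, A⁆ : Subgroup G) : Set G) ↔ a ∈ A ∧ ∀ u ∈ U, a ∈ offSub V A u := by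
  rw [mem_inf]
  constructor
  · rintro ⟨haA, hac⟩
    refine ⟨haA, fun u hu => ?_⟩
    rw [mem_offSub]
    refine ⟨haA, ?_⟩
    rw [mem_cD]
    refine ⟨comm_mem_of_mem_normalizer (hU hu) (hAV haA), fun b hb => ?_⟩
    have hz : ⁅a⁻¹, b⁆ ∈ centralizer (V : Set G) :=
      hab (commutator_mem_commutator (A.inv_mem haA) hb)
    rw [conj_comm_eq_iff V hV (hU hu) (hAV haA) (hAV hb) hz]
    exact (mem_centralizer_iff.mp hac _ (commutator_mem_commutator hu hb)).symm
  · rintro ⟨haA, h⟩
    refine ⟨haA, ?_⟩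
    rw [Subgroup.commutator_def, centralizer_closure, mem_centralizer_iff]
    rintro g ⟨u, hu, b, hb, rfl⟩
    have hz : ⁅b⁻¹, a⁆ ∈ centralizer (V : Set G) :=
      hab (commutator_mem_commutator (A.inv_mem hb) haA)
    have := (conj_comm_eq_iff V hV (hU hu) (hAV hb) (hAV haA) hz).mpr
      ((mem_cD.mp (mem_offSub.mp (h u hu)).2).2 b hb)
    exact this.symm

/-- The Timmesfeld replacement theorem, general form. -/
theorem timmesfeld_replacement [Finite G] (V A : Subgroup G) (hV : IsMulCommutative V)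
    (hAV : A ≤ normalizer (V : Set G)) (hab : ⁅A, A⁆ ≤ centralizer (V : Set G))
    (hBO : ∀ B : Subgroup G, B ≤ A → mu V B ≤ mu V A) (U : Subgroup G) (hU : U ≤ V) :
    mu V (A ⊓ centralizer ((⁅U, A⁆ : Subgroup G) : Set G)) = mu V A ∧
      cD V (A ⊓ centralizer ((⁅U, A⁆ : Subgroup G) : Set G)) = ⁅U, A⁆ ⊔ cD V A := by
  classical
  -- finite intersections
  have key : ∀ s : Finset G, (∀ u ∈ s, u ∈ V) →
      mu V (A ⊓ ⨅ u ∈ s, offSub V A u) = mu V A ∧
        cD V (A ⊓ ⨅ u ∈ s, offSub V A u) = (⨆ u ∈ s, commSub A u) ⊔ cD V A := by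
    intro s
    induction s using Finset.induction_on with
    | empty =>
      intro _
      simp
    | insert u s hus ih =>
      intro hs
      have hsV : ∀ u ∈ s, u ∈ V := fun x hx => hs x (Finset.mem_insert_of_mem hx)
      obtain ⟨ih1, ih2⟩ := ih hsV
      obtain ⟨k1, k2⟩ := offSub_max V A hV hAV hab hBO (hs u (Finset.mem_insert_self u s))
      have hrew : A ⊓ ⨅ x ∈ insert u s, offSub V A x =
          (A ⊓ ⨅ x ∈ s, offSub V A x) ⊓ offSub V A u := by
        rw [Finset.iInf_insert, inf_comm (offSub V A u), inf_assoc]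
      obtain ⟨m1, m2⟩ := inf_of_max_mu V hBO (inf_le_left : A ⊓ ⨅ x ∈ s, offSub V A x ≤ A)
        (offSub_le V A u) ih1 k1
      rw [hrew]
      refine ⟨m1, ?_⟩
      rw [m2, ih2, k2, Finset.iSup_insert]
      apply le_antisymm
      · refine sup_le (sup_le (le_sup_of_le_left le_sup_right) le_sup_right)
          (sup_le (le_sup_of_le_left le_sup_left) le_sup_right)
      · refine sup_le (sup_le ?_ ?_) ?_
        · exact le_sup_of_le_right le_sup_left
        · exact le_sup_of_le_left le_sup_left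
        · exact le_sup_of_le_left le_sup_right
  set s : Finset G := (Set.toFinite (U : Set G)).toFinset with hs
  have hsmem : ∀ u, u ∈ s ↔ u ∈ U := by
    intro u; rw [hs, Set.Finite.mem_toFinset]; rfl
  obtain ⟨k1, k2⟩ := key s (fun u hu => hU ((hsmem u).mp hu))
  have hB : A ⊓ ⨅ u ∈ s, offSub V A u = A ⊓ centralizer ((⁅U, A⁆ : Subgroup G) : Set G) := by
    ext a
    rw [mem_inf_centralizer_commutator_iff V A U hV hAV hab hU, mem_inf]
    simp only [mem_iInf, hsmem]
  have hT : (⨆ u ∈ s, commSub A u) = ⁅U, A⁆ := by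
    rw [← iSup_commSub]
    apply le_antisymm
    · apply iSup₂_le
      intro u hu
      exact le_iSup₂ (f := fun u (_ : u ∈ (U : Set G)) => commSub A u) u ((hsmem u).mp hu)
    · apply iSup₂_le
      intro u hu
      exact le_iSup₂ (f := fun u (_ : u ∈ s) => commSub A u) u ((hsmem u).mpr hu)
  rw [hB] at k1 k2
  rw [hT] at k2
  exact ⟨k1, k2⟩

end Cfsg.Agent.Helper51
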