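import Mathlib
import Cfsg.Agent.Helper51.NilAct

set_option autoImplicit false

namespace Cfsg.Agent.Helper51

open Subgroup
open scoped commutatorElement

variable {G : Type*} [Group G]

theorem comm_mul_left' (g h k : G) : ⁅g * h, k⁆ = g * ⁅h, k⁆ * g⁻¹ * ⁅g, k⁆ := by
  simp only [commutatorElement_def]; group

theorem comm_mul_right' (g h k : G) : ⁅g, h * k⁆ = ⁅g, h⁆ * (h * ⁅g, k⁆ * h⁻¹) := by
  simp only [commutatorElement_def]; group

theorem conj_eq_comm_mul (a x : G) : a * x * a⁻¹ = ⁅a, x⁆ * x := by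
  simp only [commutatorElement_def]; group

theorem derived_commutator_le (B : Subgroup G) : ⁅⁅B, B⁆, B⁆ ≤ ⁅B, B⁆ :=
  le_normalizer_iff_commutator_le_left.mp (normalizer_commutator_ge_left B B)

/-- If `A` centralizes `B'` then `[B,A]` centralizes `B'`. -/
theorem commutator_commutator_derived_eq_bot {A B : Subgroup G}
    (hc : ⁅⁅B, B⁆, A⁆ = ⊥) : ⁅⁅B, A⁆, ⁅B, B⁆⁆ = ⊥ := by
  apply commutator_commutator_eq_bot_of_rotate
  · rw [commutator_comm A, hc, commutator_bot_left]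
  · exact le_bot_iff.mp (hc ▸ commutator_mono (derived_commutator_le B) le_rfl)

/-- If `A` normalizes `B` and centralizes `B'` then `[B,A]'` is central in `B`. -/
theorem derived_commutator_le_center {A B : Subgroup G} (hAB : A ≤ normalizer (B : Set G))
    (hc : ⁅⁅B, B⁆, A⁆ = ⊥) : ⁅⁅B, A⁆, ⁅B, A⁆⁆ ≤ B ⊓ centralizer (B : Set G) := by
  have hKB : ⁅B, A⁆ ≤ B := le_normalizer_iff_commutator_le_left.mp hAB
  have hK := commutator_commutator_derived_eq_bot hc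
  refine le_inf ((commutator_mono hKB hKB).trans ?_) ?_
  · exact le_normalizer_iff_commutator_le_left.mp le_normalizer
  · rw [← commutator_eq_bot_iff_le_centralizer]
    apply commutator_commutator_eq_bot_of_rotate
    · apply le_bot_iff.mp
      rw [← hK, commutator_comm ⁅B, A⁆ ⁅B, B⁆]
      exact commutator_mono (commutator_mono hKB le_rfl) le_rfl
    · apply le_bot_iff.mp
      rw [← hK, commutator_comm ⁅B, A⁆ ⁅B, B⁆]
      exact commutator_mono (commutator_mono le_rfl hKB) le_rfl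


section KeyIdentity

variable {A B : Subgroup G}

/-- An element of `B` centralized by `A` commutes with the commutators `[a, β]`. -/
theorem comm_gen_fixed_eq_one (hAB : A ≤ normalizer (B : Set G)) (hc : ⁅⁅B, B⁆, A⁆ = ⊥)
    {β : G} (hβ : β ∈ B) {a : G} (ha : a ∈ A) {t : G} (ht : t ∈ B)
    (htA : a * t = t * a) : ⁅⁅a, β⁆, t⁆ = 1 := by
  have hKB : ⁅B, A⁆ ≤ B := le_normalizer_iff_commutator_le_left.mp hAB
  have F1 : ∀ a ∈ A, ∀ w ∈ ⁅B, B⁆, a * w = w * a := by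
    intro a ha w hw
    exact mem_centralizer_iff.mp (commutator_eq_bot_iff_le_centralizer.mp hc hw) a ha
  have F2 : ∀ k ∈ ⁅B, A⁆, ∀ w ∈ ⁅B, B⁆, w * k = k * w := by
    intro k hk w hw
    exact mem_centralizer_iff.mp
      (commutator_eq_bot_iff_le_centralizer.mp (commutator_commutator_derived_eq_bot hc) hk) w hw
  set u := ⁅a, β⁆ with hu
  have huK : u ∈ ⁅B, A⁆ := by
    rw [commutator_comm]; exact commutator_mem_commutator ha hβ
  set w := ⁅β, t⁆ with hw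
  have hwB : w ∈ ⁅B, B⁆ := commutator_mem_commutator hβ ht
  have e1 : a * w * a⁻¹ = w := by rw [F1 a ha w hwB]; group
  have e2 : a * w * a⁻¹ = ⁅a * β * a⁻¹, a * t * a⁻¹⁆ := conjugate_commutatorElement β t a
  have e3 : a * t * a⁻¹ = t := by rw [htA]; group
  have e4 : a * β * a⁻¹ = u * β := conj_eq_comm_mul a β
  have e5 : ⁅u * β, t⁆ = u * w * u⁻¹ * ⁅u, t⁆ := comm_mul_left' u β t
  have e6 : u * w * u⁻¹ = w := by rw [← F2 u huK w hwB]; group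
  rw [e3, e4, e5, e6, e1] at e2
  exact (mul_left_cancel (a := w) (b := 1) (c := ⁅u, t⁆) (by rw [mul_one]; exact e2)).symm

theorem comm_gen_step (hAB : A ≤ normalizer (B : Set G)) (hc : ⁅⁅B, B⁆, A⁆ = ⊥)
    {β : G} (hβ : β ∈ B) {a : G} (ha : a ∈ A) {v : G} (hv : v ∈ ⁅B, A⁆)
    (hv'A : a * ⁅a, v⁆ = ⁅a, v⁆ * a) : ⁅β, ⁅a, v⁆⁆ = ⁅v, ⁅a, β⁆⁆ := by
  have hKB : ⁅B, A⁆ ≤ B := le_normalizer_iff_commutator_le_left.mp hAB
  have F1 : ∀ a ∈ A, ∀ w ∈ ⁅B, B⁆, a * w = w * a := by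
    intro a ha w hw
    exact mem_centralizer_iff.mp (commutator_eq_bot_iff_le_centralizer.mp hc hw) a ha
  have F2 : ∀ k ∈ ⁅B, A⁆, ∀ w ∈ ⁅B, B⁆, w * k = k * w := by
    intro k hk w hw
    exact mem_centralizer_iff.mp
      (commutator_eq_bot_iff_le_centralizer.mp (commutator_commutator_derived_eq_bot hc) hk) w hw
  have F4 : ∀ z ∈ ⁅⁅B, A⁆, ⁅B, A⁆⁆, ∀ g ∈ B, g * z = z * g := by
    intro z hz g hg
    exact mem_centralizer_iff.mp ((derived_commutator_le_center hAB hc hz).2) g hg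
  have hKn : A ≤ normalizer ((⁅B, A⁆ : Subgroup G) : Set G) := normalizer_commutator_ge_right B A
  set u := ⁅a, β⁆ with hu
  have huK : u ∈ ⁅B, A⁆ := by
    rw [commutator_comm]; exact commutator_mem_commutator ha hβ
  set v' := ⁅a, v⁆ with hv'
  have hv'K : v' ∈ ⁅B, A⁆ := by
    have : ⁅⁅B, A⁆, A⁆ ≤ ⁅B, A⁆ := le_normalizer_iff_commutator_le_left.mp hKn
    apply this
    rw [commutator_comm]; exact commutator_mem_commutator ha hv
  set w₂ := ⁅β, v⁆ with hw₂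
  have hw₂B : w₂ ∈ ⁅B, B⁆ := commutator_mem_commutator hβ (hKB hv)
  have hβv' : ⁅β, v'⁆ ∈ ⁅B, B⁆ := commutator_mem_commutator hβ (hKB hv'K)
  have huv : ⁅u, v⁆ ∈ ⁅⁅B, A⁆, ⁅B, A⁆⁆ := commutator_mem_commutator huK hv
  have e1 : a * w₂ * a⁻¹ = w₂ := by rw [F1 a ha w₂ hw₂B]; group
  have e2 : a * w₂ * a⁻¹ = ⁅a * β * a⁻¹, a * v * a⁻¹⁆ := conjugate_commutatorElement β v a
  have e3 : a * v * a⁻¹ = v' * v := conj_eq_comm_mul a v
  have e4 : a * β * a⁻¹ = u * β := conj_eq_comm_mul a β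
  have e5 : ⁅u * β, v' * v⁆ = ⁅u * β, v'⁆ * (v' * ⁅u * β, v⁆ * v'⁻¹) := comm_mul_right' _ _ _
  have e6 : ⁅u * β, v'⁆ = ⁅β, v'⁆ := by
    rw [comm_mul_left', comm_gen_fixed_eq_one hAB hc hβ ha (hKB hv'K) hv'A, mul_one,
      ← F2 u huK _ hβv']
    group
  have e7 : ⁅u * β, v⁆ = w₂ * ⁅u, v⁆ := by
    rw [comm_mul_left', ← F2 u huK _ hw₂B]; group
  have e8 : v' * (w₂ * ⁅u, v⁆) * v'⁻¹ = w₂ * ⁅u, v⁆ := by
    rw [mul_assoc, mul_assoc, ← mul_assoc v', ← F2 v' hv'K w₂ hw₂B]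
    rw [mul_assoc w₂, ← mul_assoc v', F4 _ huv v' (hKB hv'K)]
    group
  rw [e3, e4, e5, e6, e7, e8, e1] at e2
  -- e2 : w₂ = ⁅β, v'⁆ * (w₂ * ⁅u, v⁆)
  have e9 : ⁅β, v'⁆ = w₂ * ⁅u, v⁆⁻¹ * w₂⁻¹ := by
    have : ⁅β, v'⁆ = w₂ * (w₂ * ⁅u, v⁆)⁻¹ := by
      conv_lhs => rw [← mul_inv_cancel_right ⁅β, v'⁆ (w₂ * ⁅u, v⁆), ← e2]
    rw [this]; group
  have huv' : ⁅u, v⁆⁻¹ ∈ ⁅⁅B, A⁆, ⁅B, A⁆⁆ := inv_mem huv
  have hw₂Bm : w₂ ∈ B := by
    rw [hw₂, commutatorElement_def]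
    exact B.mul_mem (B.mul_mem (B.mul_mem hβ (hKB hv)) (B.inv_mem hβ)) (B.inv_mem (hKB hv))
  rw [e9, F4 _ huv' w₂ hw₂Bm, commutatorElement_inv]
  group

/-- The commutator of two generators `[c, β]`, `[a, β]` has square one. -/
theorem sq_comm_gen_eq_one (hAB : A ≤ normalizer (B : Set G)) (hc : ⁅⁅B, B⁆, A⁆ = ⊥)
    {β : G} (hβ : β ∈ B) {a c : G} (ha : a ∈ A) (hcA : c ∈ A) (hac : a * c = c * a)
    (h1 : ∀ g ∈ A, g * ⁅a, ⁅c, β⁆⁆ = ⁅a, ⁅c, β⁆⁆ * g)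
    (h2 : ∀ g ∈ A, g * ⁅c, ⁅a, β⁆⁆ = ⁅c, ⁅a, β⁆⁆ * g) :
    ⁅⁅c, β⁆, ⁅a, β⁆⁆ ^ 2 = 1 := by
  have hKB : ⁅B, A⁆ ≤ B := le_normalizer_iff_commutator_le_left.mp hAB
  have F4 : ∀ z ∈ ⁅⁅B, A⁆, ⁅B, A⁆⁆, ∀ g ∈ B, g * z = z * g := by
    intro z hz g hg
    exact mem_centralizer_iff.mp ((derived_commutator_le_center hAB hc hz).2) g hg
  set u := ⁅a, β⁆ with hu
  set v := ⁅c, β⁆ with hv
  have huK : u ∈ ⁅B, A⁆ := by
    rw [commutator_comm]; exact commutator_mem_commutator ha hβ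
  have hvK : v ∈ ⁅B, A⁆ := by
    rw [commutator_comm]; exact commutator_mem_commutator hcA hβ
  set z := ⁅v, u⁆ with hz
  have hzK : z ∈ ⁅⁅B, A⁆, ⁅B, A⁆⁆ := commutator_mem_commutator hvK huK
  have s1 : ⁅β, ⁅a, v⁆⁆ = z := comm_gen_step hAB hc hβ ha hvK (h1 a ha)
  have s2 : ⁅β, ⁅c, u⁆⁆ = z⁻¹ := by
    rw [comm_gen_step hAB hc hβ hcA huK (h2 c hcA), hz, commutatorElement_inv]
  have key : c * (a * β * a⁻¹) * c⁻¹ = a * (c * β * c⁻¹) * a⁻¹ := by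
    have e1 : c * (a * β * a⁻¹) * c⁻¹ = (c * a) * β * (c * a)⁻¹ := by group
    rw [e1, ← hac]; group
  have s3 : ⁅c, u⁆ = ⁅a, v⁆ * z := by
    have e1 : ⁅c, u⁆ = (c * (a * β * a⁻¹) * c⁻¹) * (c * β⁻¹ * c⁻¹ * β * a * β⁻¹ * a⁻¹) := by
      simp only [hu, commutatorElement_def]; group
    rw [e1, key]
    simp only [hz, hu, hv, commutatorElement_def]; group
  have s4 : ⁅β, z⁆ = 1 := by
    rw [commutatorElement_def, F4 z hzK β hβ]; group
  rw [s3, comm_mul_right', s4, s1] at s2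
  have s5 : z = z⁻¹ := by
    rw [← s2]; group
  rw [pow_two]
  nth_rewrite 1 [s5]
  group

end KeyIdentity


/-- In a group of class at most two, commutators are bilinear: a subgroup containing the
commutators of the generators contains the derived subgroup. -/
theorem commutator_closure_le_of_central {S : Set G} {T : Subgroup G}
    (hcent : ⁅closure S, closure S⁆ ≤ centralizer (closure S : Set G))
    (hS : ∀ s ∈ S, ∀ s' ∈ S, ⁅s, s'⁆ ∈ T) : ⁅closure S, closure S⁆ ≤ T := by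
  have comm : ∀ x ∈ closure S, ∀ y ∈ closure S, ∀ g ∈ closure S, g * ⁅x, y⁆ = ⁅x, y⁆ * g := by
    intro x hx y hy g hg
    exact mem_centralizer_iff.mp (hcent (commutator_mem_commutator hx hy)) g hg
  have stepA : ∀ s ∈ S, ∀ y ∈ closure S, ⁅s, y⁆ ∈ T := by
    intro s hs y hy
    induction hy using closure_induction with
    | mem y hy => exact hS s hs y hy
    | one => rw [commutatorElement_one_right]; exact one_mem T
    | mul y₁ y₂ hy₁ hy₂ ih₁ ih₂ =>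
      have e : ⁅s, y₁ * y₂⁆ = ⁅s, y₁⁆ * ⁅s, y₂⁆ := by
        rw [comm_mul_right', comm s (subset_closure hs) y₂ hy₂ y₁ hy₁]; group
      rw [e]; exact T.mul_mem ih₁ ih₂
    | inv y hy ih =>
      have e : ⁅s, y⁻¹⁆ = ⁅s, y⁆⁻¹ := by
        have e1 : ⁅s, y⁻¹⁆ = y⁻¹ * ⁅s, y⁆⁻¹ * y := by
          simp only [commutatorElement_def]; group
        have e2 : y * ⁅s, y⁆⁻¹ = ⁅s, y⁆⁻¹ * y := by
          rw [commutatorElement_inv]
          exact comm y hy s (subset_closure hs) y hy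
        rw [e1, mul_assoc, ← e2]; group
      rw [e]; exact T.inv_mem ih
  rw [commutator_le]
  intro x hx y hy
  induction hx using closure_induction with
  | mem x hx => exact stepA x hx y hy
  | one => rw [commutatorElement_one_left]; exact one_mem T
  | mul x₁ x₂ hx₁ hx₂ ih₁ ih₂ =>
    have e : ⁅x₁ * x₂, y⁆ = ⁅x₂, y⁆ * ⁅x₁, y⁆ := by
      rw [comm_mul_left', comm x₂ hx₂ y hy x₁ hx₁]; group
    rw [e]; exact T.mul_mem ih₂ ih₁
  | inv x hx ih =>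
    have e : ⁅x⁻¹, y⁆ = ⁅x, y⁆⁻¹ := by
      have e1 : ⁅x⁻¹, y⁆ = x⁻¹ * ⁅x, y⁆⁻¹ * x := by
        simp only [commutatorElement_def]; group
      have e2 : x * ⁅x, y⁆⁻¹ = ⁅x, y⁆⁻¹ * x := by
        rw [commutatorElement_inv]
        exact comm y hy x hx x hx
      rw [e1, mul_assoc, ← e2]; group
    rw [e]; exact T.inv_mem ih

/-- The elements of square one in a commutative subgroup. -/
def sqTorsion (Z : Subgroup G) (hZ : IsMulCommutative Z) : Subgroup G where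
  carrier := {w | w ∈ Z ∧ w ^ 2 = 1}
  one_mem' := ⟨Z.one_mem, one_pow 2⟩
  mul_mem' := by
    rintro x y ⟨hx, hx2⟩ ⟨hy, hy2⟩
    refine ⟨Z.mul_mem hx hy, ?_⟩
    have hc : Commute x y := comm_of_mem' hZ hx hy
    rw [hc.mul_pow, hx2, hy2, one_mul]
  inv_mem' := by
    rintro x ⟨hx, hx2⟩
    exact ⟨Z.inv_mem hx, by rw [inv_pow, hx2, inv_one]⟩

theorem mem_sqTorsion {Z : Subgroup G} {hZ : IsMulCommutative Z} {w : G} :
    w ∈ sqTorsion Z hZ ↔ w ∈ Z ∧ w ^ 2 = 1 := Iff.rfl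

end Cfsg.Agent.Helper51
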