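import Mathlib
import Cfsg.Agent.Helper51.Glauberman
import Cfsg.Agent.Helper51.Offender
import Cfsg.Agent.Helper51.ElemAb

set_option autoImplicit false

namespace Cfsg.Agent.Helper51

open Subgroup
open scoped commutatorElement

variable {S : Type*} [Group S]

/-- `[A, β]`, generated by the commutators `[a, β]`. -/
def gX (A : Subgroup S) (β : S) : Subgroup S := closure {g | ∃ a ∈ A, g = ⁅a, β⁆}

/-- `A ∩ A^β`. -/
abbrev gZ (A : Subgroup S) (β : S) : Subgroup S := A ⊓ cj β A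

/-- Glauberman's replacement `A* = (A ∩ A^β)[A, β]`. -/
abbrev gStar (A : Subgroup S) (β : S) : Subgroup S := gZ A β ⊔ gX A β

theorem gen_mem_gX {A : Subgroup S} {β a : S} (ha : a ∈ A) : ⁅a, β⁆ ∈ gX A β :=
  subset_closure ⟨a, ha, rfl⟩

theorem mem_normalizer_of_cj_le [Finite S] {g : S} {H : Subgroup S} (h : cj g H ≤ H) :
    g ∈ normalizer (H : Set S) := by
  have heq : cj g H = H := Subgroup.eq_of_le_of_card_ge h (card_cj g H).ge
  rw [mem_normalizer_iff'']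
  intro x
  rw [← mem_cj', heq]

theorem cj_normalizer (g : S) (H : Subgroup S) :
    cj g (normalizer (H : Set S)) = normalizer ((cj g H : Subgroup S) : Set S) :=
  map_equiv_normalizer_eq H (MulAut.conj g)

theorem conj_mem_cj {g x : S} {H : Subgroup S} (hx : x ∈ H) : g * x * g⁻¹ ∈ cj g H :=
  mem_cj.mpr ⟨x, hx, rfl⟩

section PowerFormula

theorem pow_mul_class_two {x y : S} (hy : Commute ⁅y, x⁆ y) (n : ℕ) :
    y ^ n * x = ⁅y, x⁆ ^ n * x * y ^ n := by
  set c := ⁅y, x⁆ with hc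
  have hyx : y * x = c * x * y := by simp only [hc, commutatorElement_def]; group
  induction n with
  | zero => simp
  | succ n ih =>
    calc y ^ (n + 1) * x = y ^ n * (y * x) := by rw [pow_succ, mul_assoc]
      _ = y ^ n * (c * x * y) := by rw [hyx]
      _ = (y ^ n * c) * x * y := by simp only [mul_assoc]
      _ = (c * y ^ n) * x * y := by rw [(hy.pow_right n).eq]
      _ = c * (y ^ n * x) * y := by simp only [mul_assoc]
      _ = c * (c ^ n * x * y ^ n) * y := by rw [ih]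
      _ = c ^ (n + 1) * x * y ^ (n + 1) := by
        rw [pow_succ' c, pow_succ y]; simp only [mul_assoc]

theorem mul_pow_class_two {x y : S} (hx : Commute ⁅y, x⁆ x) (hy : Commute ⁅y, x⁆ y) (n : ℕ) :
    (x * y) ^ n = x ^ n * y ^ n * ⁅y, x⁆ ^ (n.choose 2) := by
  set c := ⁅y, x⁆ with hc
  induction n with
  | zero => simp
  | succ n ih =>
    have hT : Commute (c ^ n.choose 2) (x * y) := (hx.mul_right hy).pow_left _
    have hn : Commute (c ^ n) (x ^ n) := (hx.pow_right n).pow_left n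
    have hn' : Commute (c ^ n) (x ^ (n + 1) * y ^ (n + 1)) :=
      ((hx.pow_right _).mul_right (hy.pow_right _)).pow_left n
    have hch : (n + 1).choose 2 = n + n.choose 2 := by
      rw [Nat.choose_succ_succ', Nat.choose_one_right]
    calc (x * y) ^ (n + 1) = (x * y) ^ n * (x * y) := pow_succ _ _
      _ = x ^ n * y ^ n * c ^ n.choose 2 * (x * y) := by rw [ih]
      _ = x ^ n * y ^ n * (c ^ n.choose 2 * (x * y)) := by simp only [mul_assoc]
      _ = x ^ n * y ^ n * ((x * y) * c ^ n.choose 2) := by rw [hT.eq]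
      _ = x ^ n * (y ^ n * x) * y * c ^ n.choose 2 := by simp only [mul_assoc]
      _ = x ^ n * (c ^ n * x * y ^ n) * y * c ^ n.choose 2 := by rw [pow_mul_class_two hy]
      _ = (x ^ n * c ^ n) * x * y ^ n * y * c ^ n.choose 2 := by simp only [mul_assoc]
      _ = (c ^ n * x ^ n) * x * y ^ n * y * c ^ n.choose 2 := by rw [hn.eq]
      _ = c ^ n * (x ^ (n + 1) * y ^ (n + 1)) * c ^ n.choose 2 := by
        rw [pow_succ x, pow_succ y]; simp only [mul_assoc]
      _ = (x ^ (n + 1) * y ^ (n + 1)) * c ^ n * c ^ n.choose 2 := by rw [hn'.eq]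
      _ = x ^ (n + 1) * y ^ (n + 1) * c ^ (n + 1).choose 2 := by
        rw [hch, pow_add c]; simp only [mul_assoc]

theorem mul_pow_eq_one_of_odd {x y : S} (hx : Commute ⁅y, x⁆ x) (hy : Commute ⁅y, x⁆ y) {e : ℕ}
    (he : Odd e) (hxe : x ^ e = 1) (hye : y ^ e = 1) (hce : ⁅y, x⁆ ^ e = 1) : (x * y) ^ e = 1 := by
  rw [mul_pow_class_two hx hy, hxe, hye, one_mul, one_mul]
  obtain ⟨k, rfl⟩ := he
  have : (2 * k + 1).choose 2 = (2 * k + 1) * k := by
    rw [Nat.choose_two_right]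
    have : (2 * k + 1) * (2 * k + 1 - 1) = (2 * k + 1) * k * 2 := by
      rw [Nat.add_sub_cancel]; ring
    rw [this, Nat.mul_div_cancel _ (by norm_num : 0 < 2)]
  rw [this, pow_mul, hce, one_pow]

end PowerFormula

section Setup

variable {A B : Subgroup S} {β : S}

theorem gen_eq (a β : S) : ⁅a, β⁆ = a * (β * a⁻¹ * β⁻¹) := by
  simp only [commutatorElement_def]; group

theorem gen_mem_normal [B.Normal] (hβ : β ∈ B) (a : S) : ⁅a, β⁆ ∈ B := by
  have h1 : a * β * a⁻¹ ∈ B := Normal.conj_mem inferInstance β hβ a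
  have : ⁅a, β⁆ = (a * β * a⁻¹) * β⁻¹ := by simp only [commutatorElement_def]
  rw [this]; exact B.mul_mem h1 (B.inv_mem hβ)

theorem gen_mem_normal' [B.Normal] (hβ : β ∈ B) (a : S) : ⁅β, a⁆ ∈ B := by
  rw [← commutatorElement_inv]; exact B.inv_mem (gen_mem_normal hβ a)

/-- `A' = A^β ≤ N(A)`. -/
theorem cjA_le_normalizer (hβN : β ∈ normalizer ((normalizer (A : Set S) : Subgroup S) : Set S)) :
    cj β A ≤ normalizer (A : Set S) := by
  have h := cj_mono β (le_normalizer : A ≤ normalizer (A : Set S))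
  rwa [cj_eq_self_of_mem_normalizer hβN] at h

/-- `N(A) ≤ N(A^β)`. -/
theorem normalizer_le_normalizer_cj
    (hβN : β ∈ normalizer ((normalizer (A : Set S) : Subgroup S) : Set S)) :
    normalizer (A : Set S) ≤ normalizer ((cj β A : Subgroup S) : Set S) := by
  rw [← cj_normalizer, cj_eq_self_of_mem_normalizer hβN]

theorem gZ_normal (hβN : β ∈ normalizer ((normalizer (A : Set S) : Subgroup S) : Set S)) :
    normalizer (A : Set S) ≤ normalizer ((gZ A β : Subgroup S) : Set S) := by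
  intro n hn
  rw [mem_normalizer_iff]
  intro x
  have h1 := (mem_normalizer_iff.mp hn) x
  have h2 := (mem_normalizer_iff.mp (normalizer_le_normalizer_cj hβN hn)) x
  rw [mem_inf, mem_inf, h1, h2]

/-- `[A, A^β] ≤ A ∩ A^β`. -/
theorem comm_mem_gZ (hβN : β ∈ normalizer ((normalizer (A : Set S) : Subgroup S) : Set S))
    {a x : S} (ha : a ∈ A) (hx : x ∈ cj β A) : ⁅a, x⁆ ∈ gZ A β := by
  rw [mem_inf]
  constructor
  · have hxN := cjA_le_normalizer hβN hx
    have : ⁅a, x⁆ = a * (x * a⁻¹ * x⁻¹) := by simp only [commutatorElement_def]; group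
    rw [this]
    exact A.mul_mem ha ((mem_normalizer_iff.mp hxN a⁻¹).mp (A.inv_mem ha))
  · have haN := normalizer_le_normalizer_cj hβN (le_normalizer ha)
    have : ⁅a, x⁆ = (a * x * a⁻¹) * x⁻¹ := by simp only [commutatorElement_def]
    rw [this]
    exact (cj β A).mul_mem ((mem_normalizer_iff.mp haN x).mp hx) ((cj β A).inv_mem hx)

/-- `A ∩ B ≤ A ∩ A^β`. -/
theorem inf_le_gZ [B.Normal] (hBA : ⁅B, B⁆ ≤ A) (hβ : β ∈ B) : A ⊓ B ≤ gZ A β := by
  intro x hx
  rw [mem_inf] at hx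
  refine mem_inf.mpr ⟨hx.1, ?_⟩
  rw [mem_cj']
  have e : β⁻¹ * x * β = ⁅β⁻¹, x⁆ * x := by simp only [commutatorElement_def]; group
  rw [e]
  exact A.mul_mem (hBA (commutator_mem_commutator (B.inv_mem hβ) hx.2)) hx.1

theorem derived_le_gZ [B.Normal] (hBA : ⁅B, B⁆ ≤ A) (hβ : β ∈ B) : ⁅B, B⁆ ≤ gZ A β :=
  (le_inf hBA (commutator_le_left B B)).trans (inf_le_gZ hBA hβ)

/-- `β` normalizes `A ∩ A^β`. -/
theorem cj_gZ_le [B.Normal] (hBA : ⁅B, B⁆ ≤ A) (hβ : β ∈ B) : cj β (gZ A β) ≤ gZ A β := by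
  intro y hy
  obtain ⟨x, hx, rfl⟩ := mem_cj.mp hy
  rw [mem_inf] at hx
  refine mem_inf.mpr ⟨?_, conj_mem_cj hx.1⟩
  have ha : β⁻¹ * x * β ∈ A := mem_cj'.mp hx.2
  set a := β⁻¹ * x * β with hadef
  have hxa : x = ⁅β, a⁆ * a := by simp only [hadef, commutatorElement_def]; group
  have htA : ⁅β, a⁆ ∈ A := by
    have : ⁅β, a⁆ = x * a⁻¹ := by simp only [hadef, commutatorElement_def]; group
    rw [this]; exact A.mul_mem hx.1 (A.inv_mem ha)
  have htB : ⁅β, a⁆ ∈ B := gen_mem_normal' hβ a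
  have e : β * x * β⁻¹ = ⁅β, ⁅β, a⁆⁆ * ⁅β, a⁆ * x := by
    simp only [hadef, commutatorElement_def]; group
  rw [e]
  exact A.mul_mem (A.mul_mem (hBA (commutator_mem_commutator hβ htB)) htA) hx.1

theorem cj_gZ_eq [Finite S] [B.Normal] (hBA : ⁅B, B⁆ ≤ A) (hβ : β ∈ B) :
    cj β (gZ A β) = gZ A β :=
  Subgroup.eq_of_le_of_card_ge (cj_gZ_le hBA hβ) (card_cj β _).ge

theorem isMulCommutative_cj (hA : IsMulCommutative A) (g : S) : IsMulCommutative (cj g A) := by
  apply le_centralizer_iff_isMulCommutative.mp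
  rw [← cj_centralizer]
  exact cj_mono g (le_centralizer_iff_isMulCommutative.mpr hA)

/-- `A ∩ A^β` is central in `A A^β`. -/
theorem gZ_le_centralizer (hA : IsMulCommutative A) :
    gZ A β ≤ centralizer ((A ⊔ cj β A : Subgroup S) : Set S) := by
  rw [centralizer_sup]
  exact le_inf (inf_le_left.trans (le_centralizer_iff_isMulCommutative.mpr hA))
    (inf_le_right.trans (le_centralizer_iff_isMulCommutative.mpr (isMulCommutative_cj hA β)))

theorem gen_mem_sup {a : S} (ha : a ∈ A) : ⁅a, β⁆ ∈ A ⊔ cj β A := by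
  rw [gen_eq]
  exact mul_mem (mem_sup_left ha) (mem_sup_right (conj_mem_cj (A.inv_mem ha)))

theorem gX_le_sup : gX A β ≤ A ⊔ cj β A := by
  unfold gX
  rw [closure_le]
  rintro g ⟨a, ha, rfl⟩
  exact gen_mem_sup ha

theorem gX_le_normal [B.Normal] (hβ : β ∈ B) : gX A β ≤ B := by
  unfold gX
  rw [closure_le]
  rintro g ⟨a, ha, rfl⟩
  exact gen_mem_normal hβ a

/-- `[A, A A^β] ≤ A ∩ A^β`. -/
theorem comm_mem_gZ' (hA : IsMulCommutative A)
    (hβN : β ∈ normalizer ((normalizer (A : Set S) : Subgroup S) : Set S))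
    {a h : S} (ha : a ∈ A) (hh : h ∈ A ⊔ cj β A) : ⁅a, h⁆ ∈ gZ A β := by
  have hmem : h ∈ ((A ⊔ cj β A : Subgroup S) : Set S) := hh
  rw [coe_mul_of_left_le_normalizer_right A (cj β A)
    (le_normalizer.trans (normalizer_le_normalizer_cj hβN))] at hmem
  obtain ⟨c, hc, x, hx, rfl⟩ := hmem
  have e : ⁅a, c * x⁆ = c * ⁅a, x⁆ * c⁻¹ := by
    rw [comm_mul_right']
    have : ⁅a, c⁆ = 1 := by
      rw [commutatorElement_def, comm_of_mem' hA ha hc]; group
    rw [this, one_mul]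
  rw [e]
  have hcN := gZ_normal hβN (le_normalizer hc)
  exact (mem_normalizer_iff.mp hcN _).mp (comm_mem_gZ hβN ha hx)

/-- Elements of `Z` commute with elements of `A A^β`. -/
theorem gZ_comm (hA : IsMulCommutative A) {z h : S} (hz : z ∈ gZ A β) (hh : h ∈ A ⊔ cj β A) :
    h * z = z * h :=
  mem_centralizer_iff.mp (gZ_le_centralizer hA hz) h hh

theorem gen_mul (c a β : S) : ⁅c * a, β⁆ = ⁅c, ⁅a, β⁆⁆ * ⁅a, β⁆ * ⁅c, β⁆ := by
  simp only [commutatorElement_def]; group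

/-- The set `{z [a,β]}` as a subgroup. -/
def gM (A : Subgroup S) (β : S) (hA : IsMulCommutative A)
    (hβN : β ∈ normalizer ((normalizer (A : Set S) : Subgroup S) : Set S)) : Subgroup S where
  carrier := {w | ∃ z ∈ gZ A β, ∃ a ∈ A, w = z * ⁅a, β⁆}
  one_mem' := ⟨1, one_mem _, 1, one_mem _, by simp⟩
  mul_mem' := by
    rintro _ _ ⟨z, hz, a, ha, rfl⟩ ⟨z', hz', c, hc, rfl⟩
    have hcz : ⁅c, ⁅a, β⁆⁆ ∈ gZ A β := comm_mem_gZ' hA hβN hc (gen_mem_sup ha)
    refine ⟨z * z' * (⁅c, ⁅a, β⁆⁆)⁻¹, mul_mem (mul_mem hz hz') (inv_mem hcz), c * a,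
      A.mul_mem hc ha, ?_⟩
    rw [gen_mul]
    have e1 : ⁅a, β⁆ * z' = z' * ⁅a, β⁆ := gZ_comm hA hz' (gen_mem_sup ha)
    calc z * ⁅a, β⁆ * (z' * ⁅c, β⁆) = z * (⁅a, β⁆ * z') * ⁅c, β⁆ := by group
      _ = z * (z' * ⁅a, β⁆) * ⁅c, β⁆ := by rw [e1]
      _ = _ := by group
  inv_mem' := by
    rintro _ ⟨z, hz, a, ha, rfl⟩
    have hcz : ⁅a⁻¹, ⁅a, β⁆⁆ ∈ gZ A β := comm_mem_gZ' hA hβN (A.inv_mem ha) (gen_mem_sup ha)
    refine ⟨z⁻¹ * ⁅a⁻¹, ⁅a, β⁆⁆, mul_mem (inv_mem hz) hcz, a⁻¹, A.inv_mem ha, ?_⟩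
    have e0 : ⁅a⁻¹ * a, β⁆ = 1 := by rw [inv_mul_cancel, commutatorElement_one_left]
    rw [gen_mul] at e0
    have e1 : (⁅a, β⁆)⁻¹ * z⁻¹ = z⁻¹ * (⁅a, β⁆)⁻¹ :=
      gZ_comm hA (inv_mem hz) (inv_mem (gen_mem_sup ha))
    have e2 : (⁅a, β⁆)⁻¹ = ⁅a⁻¹, β⁆ * ⁅a⁻¹, ⁅a, β⁆⁆ := by
      have : ⁅a⁻¹, β⁆ * ⁅a⁻¹, ⁅a, β⁆⁆ * ⁅a, β⁆ = 1 := by
        calc ⁅a⁻¹, β⁆ * ⁅a⁻¹, ⁅a, β⁆⁆ * ⁅a, β⁆
            = ⁅a⁻¹, β⁆ * (⁅a⁻¹, ⁅a, β⁆⁆ * ⁅a, β⁆ * ⁅a⁻¹, β⁆) * (⁅a⁻¹, β⁆)⁻¹ := by group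
          _ = 1 := by rw [e0]; group
      exact (eq_inv_of_mul_eq_one_left this).symm ▸ rfl
    have e3 : ⁅a⁻¹, β⁆ * ⁅a⁻¹, ⁅a, β⁆⁆ = ⁅a⁻¹, ⁅a, β⁆⁆ * ⁅a⁻¹, β⁆ :=
      gZ_comm hA hcz (gen_mem_sup (A.inv_mem ha))
    rw [mul_inv_rev, e1, e2, e3]; group

theorem gStar_eq_gM (hA : IsMulCommutative A)
    (hβN : β ∈ normalizer ((normalizer (A : Set S) : Subgroup S) : Set S)) :
    gStar A β = gM A β hA hβN := by
  apply le_antisymm
  · apply sup_le
    · intro z hz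
      exact ⟨z, hz, 1, one_mem _, by simp⟩
    · unfold gX
      rw [closure_le]
      rintro g ⟨a, ha, rfl⟩
      exact ⟨1, one_mem _, a, ha, by simp⟩
  · rintro _ ⟨z, hz, a, ha, rfl⟩
    exact mul_mem (mem_sup_left hz) (mem_sup_right (gen_mem_gX ha))

theorem exists_of_mem_gStar (hA : IsMulCommutative A)
    (hβN : β ∈ normalizer ((normalizer (A : Set S) : Subgroup S) : Set S)) {w : S}
    (hw : w ∈ gStar A β) : ∃ z ∈ gZ A β, ∃ a ∈ A, w = z * ⁅a, β⁆ := by
  rw [gStar_eq_gM hA hβN] at hw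
  exact hw

/-- The kernel of `a ↦ [a,β] Z` is `Z`. -/
theorem gen_mem_gZ_iff [Finite S] [B.Normal] (hBA : ⁅B, B⁆ ≤ A) (hβ : β ∈ B) {d : S} (hd : d ∈ A) :
    ⁅d, β⁆ ∈ gZ A β ↔ d ∈ gZ A β := by
  constructor
  · intro h
    have h1 : β * d⁻¹ * β⁻¹ ∈ A := by
      have : β * d⁻¹ * β⁻¹ = d⁻¹ * ⁅d, β⁆ := by simp only [commutatorElement_def]; group
      rw [this]; exact A.mul_mem (A.inv_mem hd) (mem_inf.mp h).1
    have h2 : β * d⁻¹ * β⁻¹ ∈ gZ A β := mem_inf.mpr ⟨h1, conj_mem_cj (A.inv_mem hd)⟩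
    have : d = ⁅d, β⁆ * (β * d⁻¹ * β⁻¹)⁻¹ := by simp only [commutatorElement_def]; group
    rw [this]; exact mul_mem h (inv_mem h2)
  · intro h
    rw [gen_eq]
    refine mul_mem h ?_
    rw [← cj_gZ_eq hBA hβ]
    exact conj_mem_cj (inv_mem h)

theorem gen_inv_mul_mem_iff [Finite S] [B.Normal] (hA : IsMulCommutative A) (hBA : ⁅B, B⁆ ≤ A)
    (hβ : β ∈ B) {a c : S} (ha : a ∈ A) (hc : c ∈ A) :
    (⁅a, β⁆)⁻¹ * ⁅c, β⁆ ∈ gZ A β ↔ a⁻¹ * c ∈ gZ A β := by
  rw [← gen_mem_gZ_iff hBA hβ (A.mul_mem (A.inv_mem ha) hc)]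
  have e : (⁅a, β⁆)⁻¹ * ⁅c, β⁆ = (⁅a, β⁆)⁻¹ * (a * ⁅a⁻¹ * c, β⁆ * a⁻¹) * ⁅a, β⁆ := by
    simp only [commutatorElement_def]; group
  rw [e]
  set d := ⁅a⁻¹ * c, β⁆ with hd
  set u := ⁅a, β⁆ with hu
  have huH : u ∈ A ⊔ cj β A := gen_mem_sup ha
  have haH : a ∈ A ⊔ cj β A := mem_sup_left ha
  constructor
  · intro h
    have h1 : a * d * a⁻¹ = u⁻¹ * (a * d * a⁻¹) * u := by
      have := gZ_comm hA h huH
      calc a * d * a⁻¹ = (u * (u⁻¹ * (a * d * a⁻¹) * u)) * u⁻¹ := by group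
        _ = ((u⁻¹ * (a * d * a⁻¹) * u) * u) * u⁻¹ := by rw [this]
        _ = _ := by group
    have h2 : a * d * a⁻¹ ∈ gZ A β := h1 ▸ h
    have h3 : d = a * d * a⁻¹ := by
      have := gZ_comm hA h2 haH
      calc d = a⁻¹ * ((a * d * a⁻¹) * a) := by group
        _ = a⁻¹ * (a * (a * d * a⁻¹)) := by rw [← this]
        _ = _ := by group
    rw [h3]; exact h2
  · intro h
    have h1 : a * d * a⁻¹ = d := by
      have := gZ_comm hA h haH
      rw [this]; group
    have h2 : u⁻¹ * (a * d * a⁻¹) * u = d := by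
      rw [h1]
      have := gZ_comm hA h huH
      calc u⁻¹ * d * u = u⁻¹ * (d * u) := by group
        _ = u⁻¹ * (u * d) := by rw [this]
        _ = d := by group
    rw [h2]; exact h

/-- `|A*| = |A|`. -/
theorem card_gStar [Finite S] [B.Normal] (hA : IsMulCommutative A) (hBA : ⁅B, B⁆ ≤ A)
    (hβ : β ∈ B) (hβN : β ∈ normalizer ((normalizer (A : Set S) : Subgroup S) : Set S)) :
    Nat.card (gStar A β) = Nat.card A := by
  classical
  have hZA : gZ A β ≤ A := inf_le_left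
  have hZS : gZ A β ≤ gStar A β := le_sup_left
  have hpos : 0 < Nat.card (gZ A β) := Nat.card_pos
  apply le_antisymm
  · -- choose a representative
    have hex : ∀ w : S, ∃ a : S, w ∈ gStar A β → a ∈ A ∧ ∃ z ∈ gZ A β, w = z * ⁅a, β⁆ := by
      intro w
      by_cases hw : w ∈ gStar A β
      · obtain ⟨z, hz, a, ha, rfl⟩ := exists_of_mem_gStar hA hβN hw
        exact ⟨a, fun _ => ⟨ha, z, hz, rfl⟩⟩
      · exact ⟨1, fun h => absurd h hw⟩
    choose ψ hψ using hex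
    have key := (card_mul_le_of_coset_map' hZS hZA ψ (fun w hw => (hψ w hw).1) (by
      intro w hw w' hw' h
      obtain ⟨ha, z, hz, e⟩ := hψ w hw
      obtain ⟨hc, z', hz', e'⟩ := hψ w' hw'
      have h2 := (gen_inv_mul_mem_iff hA hBA hβ ha hc).mpr h
      have e3 : w⁻¹ * w' = z⁻¹ * z' * ((⁅ψ w, β⁆)⁻¹ * ⁅ψ w', β⁆) := by
        have c1 : (⁅ψ w, β⁆)⁻¹ * (z⁻¹ * z') = (z⁻¹ * z') * (⁅ψ w, β⁆)⁻¹ :=
          gZ_comm hA (mul_mem (inv_mem hz) hz') (inv_mem (gen_mem_sup ha))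
        calc w⁻¹ * w' = (⁅ψ w, β⁆)⁻¹ * (z⁻¹ * z') * ⁅ψ w', β⁆ := by
              conv_lhs => rw [e, e']
              group
          _ = (z⁻¹ * z') * (⁅ψ w, β⁆)⁻¹ * ⁅ψ w', β⁆ := by rw [c1]
          _ = _ := by group
      rw [e3]
      exact mul_mem (mul_mem (inv_mem hz) hz') h2)).1
    rw [mul_comm] at key
    exact Nat.le_of_mul_le_mul_left key hpos
  · have key := (card_mul_le_of_coset_map' hZA hZS (fun a => ⁅a, β⁆)
      (fun a ha => mem_sup_right (gen_mem_gX ha)) (by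
        intro a ha c hc h
        exact (gen_inv_mul_mem_iff hA hBA hβ ha hc).mp h)).1
    rw [mul_comm] at key
    exact Nat.le_of_mul_le_mul_left key hpos

/-- Glauberman's lemma: elements of the derived group of `[A, β]` have square one. -/
theorem derived_gX_sq (hAB : A ≤ normalizer (B : Set S)) (hc : ⁅⁅B, B⁆, A⁆ = ⊥)
    (hA : IsMulCommutative A) (hβ : β ∈ B) (hq : ⁅⁅gX A β, A⁆, A⁆ = ⊥) :
    ∀ w ∈ ⁅gX A β, gX A β⁆, w ^ 2 = 1 := by
  have hKB : ⁅B, A⁆ ≤ B := le_normalizer_iff_commutator_le_left.mp hAB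
  have hXK : gX A β ≤ ⁅B, A⁆ := by
    unfold gX
    rw [closure_le]
    rintro g ⟨a, ha, rfl⟩
    rw [commutator_comm]; exact commutator_mem_commutator ha hβ
  have hcen := derived_commutator_le_center hAB hc
  have hZc : IsMulCommutative ↥(B ⊓ centralizer (B : Set S)) := by
    apply le_centralizer_iff_isMulCommutative.mp
    exact inf_le_right.trans (centralizer_le (by exact_mod_cast inf_le_left))
  have F3 : ∀ t ∈ ⁅gX A β, A⁆, ∀ g ∈ A, g * t = t * g := by
    intro t ht g hg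
    exact mem_centralizer_iff.mp (commutator_eq_bot_iff_le_centralizer.mp hq ht) g hg
  have hle : ⁅gX A β, gX A β⁆ ≤ sqTorsion _ hZc := by
    unfold gX at hXK F3 ⊢
    apply commutator_closure_le_of_central
    · refine ((commutator_mono hXK hXK).trans hcen).trans (inf_le_right.trans ?_)
      exact centralizer_le (by exact_mod_cast hXK.trans hKB)
    · rintro s ⟨c, hcA, rfl⟩ s' ⟨a, ha, rfl⟩
      rw [mem_sqTorsion]
      refine ⟨hcen (commutator_mem_commutator (hXK (subset_closure ⟨c, hcA, rfl⟩))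
        (hXK (subset_closure ⟨a, ha, rfl⟩))), ?_⟩
      apply sq_comm_gen_eq_one hAB hc hβ ha hcA (comm_of_mem' hA ha hcA)
      · intro g hg
        apply F3 _ _ g hg
        rw [commutator_comm]
        exact commutator_mem_commutator ha (subset_closure ⟨c, hcA, rfl⟩)
      · intro g hg
        apply F3 _ _ g hg
        rw [commutator_comm]
        exact commutator_mem_commutator hcA (subset_closure ⟨a, ha, rfl⟩)
  intro w hw
  exact (mem_sqTorsion.mp (hle hw)).2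

theorem eq_one_of_sq_eq_one {p : ℕ} [Fact p.Prime] (hS : IsPGroup p S) (hp : p ≠ 2) {w : S}
    (hw : w ^ 2 = 1) : w = 1 := by
  obtain ⟨k, hk⟩ := hS w
  have h1 : orderOf w ∣ 2 := orderOf_dvd_of_pow_eq_one hw
  have h2 : orderOf w ∣ p ^ k := orderOf_dvd_of_pow_eq_one hk
  have hcop : Nat.Coprime 2 (p ^ k) := by
    apply Nat.Coprime.pow_right
    rw [Nat.coprime_primes Nat.prime_two (Fact.out : p.Prime)]
    exact fun h => hp h.symm
  have h3 : orderOf w ∣ 1 := by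
    have := Nat.dvd_gcd h1 h2
    rwa [hcop.gcd_eq_one] at this
  exact orderOf_eq_one_iff.mp (Nat.dvd_one.mp h3)

/-- `[X, A] ≤ Z`. -/
theorem commutator_gX_le (hA : IsMulCommutative A)
    (hβN : β ∈ normalizer ((normalizer (A : Set S) : Subgroup S) : Set S)) :
    ⁅gX A β, A⁆ ≤ gZ A β := by
  rw [commutator_comm, commutator_le]
  intro a ha x hx
  exact comm_mem_gZ' hA hβN ha (gX_le_sup hx)

/-- `X = [A, β]` is abelian. -/
theorem isMulCommutative_gX {p : ℕ} [Fact p.Prime] (hS : IsPGroup p S) [B.Normal]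
    (hB2 : p = 2 → IsMulCommutative B) (hA : IsMulCommutative A) (hBA : ⁅B, B⁆ ≤ A)
    (hβ : β ∈ B) (hβN : β ∈ normalizer ((normalizer (A : Set S) : Subgroup S) : Set S)) :
    IsMulCommutative (gX A β) := by
  by_cases hp : p = 2
  · apply le_centralizer_iff_isMulCommutative.mp
    have hXB : gX A β ≤ B := gX_le_normal hβ
    exact hXB.trans ((le_centralizer_iff_isMulCommutative.mpr (hB2 hp)).trans (centralizer_le hXB))
  · have hAc : A ≤ centralizer (A : Set S) := le_centralizer_iff_isMulCommutative.mpr hA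
    have hAB : A ≤ normalizer (B : Set S) := by rw [normalizer_eq_top]; exact le_top
    have hc : ⁅⁅B, B⁆, A⁆ = ⊥ := commutator_eq_bot_iff_le_centralizer.mpr (hBA.trans hAc)
    have hq : ⁅⁅gX A β, A⁆, A⁆ = ⊥ :=
      commutator_eq_bot_iff_le_centralizer.mpr
        ((commutator_gX_le hA hβN).trans (inf_le_left.trans hAc))
    have h := derived_gX_sq hAB hc hA hβ hq
    have hbot : ⁅gX A β, gX A β⁆ = ⊥ := by
      rw [eq_bot_iff]
      intro w hw
      exact eq_one_of_sq_eq_one hS hp (h w hw)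
    exact le_centralizer_iff_isMulCommutative.mp (commutator_eq_bot_iff_le_centralizer.mp hbot)

/-- `A*` is abelian. -/
theorem isMulCommutative_gStar {p : ℕ} [Fact p.Prime] (hS : IsPGroup p S) [B.Normal]
    (hB2 : p = 2 → IsMulCommutative B) (hA : IsMulCommutative A) (hBA : ⁅B, B⁆ ≤ A)
    (hβ : β ∈ B) (hβN : β ∈ normalizer ((normalizer (A : Set S) : Subgroup S) : Set S)) :
    IsMulCommutative (gStar A β) := by
  apply isMulCommutative_sup'
  · apply le_centralizer_iff_isMulCommutative.mp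
    exact inf_le_left.trans ((le_centralizer_iff_isMulCommutative.mpr hA).trans
      (centralizer_le (by exact_mod_cast (inf_le_left : gZ A β ≤ A))))
  · exact isMulCommutative_gX hS hB2 hA hBA hβ hβN
  · exact (gZ_le_centralizer hA).trans (centralizer_le (by exact_mod_cast gX_le_sup))

theorem gStar_le_normalizer
    (hβN : β ∈ normalizer ((normalizer (A : Set S) : Subgroup S) : Set S)) :
    gStar A β ≤ normalizer (A : Set S) :=
  sup_le (inf_le_left.trans le_normalizer)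
    (gX_le_sup.trans (sup_le le_normalizer (cjA_le_normalizer hβN)))

theorem mem_normalizer_gStar [Finite S] {g : S} (hZ : cj g (gZ A β) ≤ gStar A β)
    (hX : ∀ a ∈ A, g * ⁅a, β⁆ * g⁻¹ ∈ gStar A β) : g ∈ normalizer ((gStar A β : Subgroup S) : Set S) := by
  apply mem_normalizer_of_cj_le
  rw [cj_sup]
  refine sup_le hZ ?_
  rw [cj_le_iff]
  unfold gX
  rw [closure_le]
  rintro u ⟨a, ha, rfl⟩
  rw [SetLike.mem_coe, mem_cj', inv_inv]
  exact hX a ha

theorem le_normalizer_gStar [Finite S] (hA : IsMulCommutative A)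
    (hβN : β ∈ normalizer ((normalizer (A : Set S) : Subgroup S) : Set S)) :
    A ≤ normalizer ((gStar A β : Subgroup S) : Set S) := by
  intro a ha
  apply mem_normalizer_gStar
  · rw [cj_eq_self_of_mem_normalizer (gZ_normal hβN (le_normalizer ha))]
    exact le_sup_left
  · intro c hc
    rw [conj_eq_comm_mul]
    exact mul_mem (mem_sup_left (comm_mem_gZ' hA hβN ha (gen_mem_sup hc)))
      (mem_sup_right (gen_mem_gX hc))

theorem mem_normalizer_gStar_self [Finite S] [B.Normal] (hBA : ⁅B, B⁆ ≤ A) (hβ : β ∈ B) :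
    β ∈ normalizer ((gStar A β : Subgroup S) : Set S) := by
  apply mem_normalizer_gStar
  · exact (cj_gZ_le hBA hβ).trans le_sup_left
  · intro c hc
    rw [conj_eq_comm_mul]
    exact mul_mem (mem_sup_left (derived_le_gZ hBA hβ
      (commutator_mem_commutator hβ (gen_mem_normal hβ c)))) (mem_sup_right (gen_mem_gX hc))

theorem normalizer_le_normalizer_gStar [Finite S] [B.Normal] (hBA : ⁅B, B⁆ ≤ A) (hβ : β ∈ B)
    (hβN : β ∈ normalizer ((normalizer (A : Set S) : Subgroup S) : Set S)) :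
    normalizer (A : Set S) ≤ normalizer ((gStar A β : Subgroup S) : Set S) := by
  intro n hn
  apply mem_normalizer_gStar
  · rw [cj_eq_self_of_mem_normalizer (gZ_normal hβN hn)]
    exact le_sup_left
  · intro a ha
    rw [conjugate_commutatorElement]
    have hc : n * a * n⁻¹ ∈ A := (mem_normalizer_iff.mp hn a).mp ha
    set c := n * a * n⁻¹ with hcdef
    have hm : ⁅n, β⁆ ∈ normalizer (A : Set S) := by
      rw [gen_eq]
      refine mul_mem hn ?_
      exact (mem_normalizer_iff.mp hβN n⁻¹).mp (inv_mem hn)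
    have hmB : ⁅n, β⁆ ∈ B := gen_mem_normal hβ n
    set m := ⁅n, β⁆ with hmdef
    have e1 : n * β * n⁻¹ = m * β := conj_eq_comm_mul n β
    rw [e1, comm_mul_right', conj_eq_comm_mul]
    have h1 : ⁅c, m⁆ ∈ gZ A β := by
      apply inf_le_gZ hBA hβ
      refine mem_inf.mpr ⟨?_, gen_mem_normal hmB c⟩
      rw [gen_eq]
      exact A.mul_mem hc ((mem_normalizer_iff.mp hm c⁻¹).mp (A.inv_mem hc))
    have h2 : ⁅m, ⁅c, β⁆⁆ ∈ gZ A β :=
      derived_le_gZ hBA hβ (commutator_mem_commutator hmB (gen_mem_normal hβ c))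
    exact mul_mem (mem_sup_left h1) (mul_mem (mem_sup_left h2) (mem_sup_right (gen_mem_gX hc)))

theorem exists_gen_not_mem [Finite S] (hβA : β ∉ normalizer (A : Set S)) :
    ∃ a ∈ A, ⁅a, β⁆ ∉ A := by
  by_contra hcon
  push Not at hcon
  apply hβA
  apply mem_normalizer_of_cj_le
  intro y hy
  obtain ⟨x, hx, rfl⟩ := mem_cj.mp hy
  have h := hcon x⁻¹ (A.inv_mem hx)
  have e : β * x * β⁻¹ = x * ⁅x⁻¹, β⁆ := by simp only [commutatorElement_def]; group
  rw [e]
  exact A.mul_mem hx h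

theorem exponent_gStar_dvd [Finite S] {p : ℕ} [Fact p.Prime] (hS : IsPGroup p S) (hp : p ≠ 2)
    (hA : IsMulCommutative A)
    (hβN : β ∈ normalizer ((normalizer (A : Set S) : Subgroup S) : Set S)) :
    Monoid.exponent (gStar A β) ∣ Monoid.exponent A := by
  set e := Monoid.exponent A with he
  have hodd : Odd e := by
    have h1 : e ∣ Nat.card A := Group.exponent_dvd_nat_card
    have h2 : Nat.card A ∣ Nat.card S := Subgroup.card_subgroup_dvd_card A
    obtain ⟨n, hn⟩ := IsPGroup.iff_card.mp hS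
    rw [hn] at h2
    obtain ⟨k, -, hk⟩ := (Nat.dvd_prime_pow (Fact.out : p.Prime)).mp (h1.trans h2)
    rw [hk]
    exact ((Fact.out : p.Prime).odd_of_ne_two hp).pow
  have hpow : ∀ a ∈ A, a ^ e = 1 := by
    intro a ha
    have := Monoid.pow_exponent_eq_one (⟨a, ha⟩ : A)
    have h2 := congrArg Subtype.val this
    simpa using h2
  apply Monoid.exponent_dvd_of_forall_pow_eq_one
  rintro ⟨w, hw⟩
  apply Subtype.ext
  rw [SubgroupClass.coe_pow, OneMemClass.coe_one]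
  show w ^ e = 1
  obtain ⟨z, hz, a, ha, rfl⟩ := exists_of_mem_gStar hA hβN hw
  have hcz : Commute z ⁅a, β⁆ := (gZ_comm hA hz (gen_mem_sup ha)).symm
  rw [hcz.mul_pow, hpow z (mem_inf.mp hz).1, one_mul, gen_eq]
  have hy : β * a⁻¹ * β⁻¹ ∈ cj β A := conj_mem_cj (A.inv_mem ha)
  have hc : ⁅β * a⁻¹ * β⁻¹, a⁆ ∈ gZ A β := by
    rw [← commutatorElement_inv]
    exact inv_mem (comm_mem_gZ hβN ha hy)
  apply mul_pow_eq_one_of_odd _ _ hodd (hpow a ha) _ (hpow _ (mem_inf.mp hc).1)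
  · exact (gZ_comm hA hc (mem_sup_left ha)).symm
  · exact (gZ_comm hA hc (mem_sup_right hy)).symm
  · rw [conj_pow, hpow _ (A.inv_mem ha)]; group

end Setup

end Cfsg.Agent.Helper51
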