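import Mathlib
import Cfsg.Prelude.Def_PLocal
import Cfsg.Agent.Helper51.NilAct
import Cfsg.Agent.Helper51.Glauberman

set_option autoImplicit false

namespace Cfsg.Agent.Helper51

open Subgroup
open scoped commutatorElement

variable {L : Type*} [Group L]

theorem iterComm_eq_iterCommutator (N G : Subgroup L) (i : ℕ) :
    iterComm N G i = Cfsg.iterCommutator N G i := by
  induction i with
  | zero => rfl
  | succ i ih => show ⁅iterComm N G i, G⁆ = ⁅Cfsg.iterCommutator N G i, G⁆; rw [ih]

/-- A `p`-group acting on a nontrivial `p`-group has `[H, K] ≠ H`. -/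
theorem commutator_ne_of_isPGroup [Finite L] {p : ℕ} [Fact p.Prime] {H K : Subgroup L}
    (hH : IsPGroup p H) (hK : IsPGroup p K) (hKH : K ≤ normalizer (H : Set L)) (hne : H ≠ ⊥) :
    ⁅H, K⁆ ≠ H := by
  intro heq
  obtain ⟨k, hk⟩ := exists_iterComm_eq_bot_of_isPGroup hH hK hKH
  have : ∀ j, iterComm H K j = H := by
    intro j
    induction j with
    | zero => rfl
    | succ j ih => show ⁅iterComm H K j, K⁆ = H; rw [ih, heq]
  exact hne ((this k).symm.trans hk)

theorem eq_or_eq_of_card_eq_prime_mul [Finite L] {p : ℕ} (hp : p.Prime) {A B C : Subgroup L}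
    (hAB : A ≤ B) (hBC : B ≤ C) (hcard : Nat.card C = p * Nat.card A) : B = A ∨ B = C := by
  obtain ⟨m, hm⟩ := Subgroup.card_dvd_of_le hAB
  have h2 : Nat.card B ∣ Nat.card C := Subgroup.card_dvd_of_le hBC
  have hApos : 0 < Nat.card A := Nat.card_pos
  rw [hcard, hm, mul_comm p] at h2
  have h3 : m ∣ p := (Nat.mul_dvd_mul_iff_left hApos).mp h2
  rcases (Nat.dvd_prime hp).mp h3 with h | h
  · left
    rw [h, mul_one] at hm
    exact (Subgroup.eq_of_le_of_card_ge hAB hm.le).symm
  · right
    rw [h] at hm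
    apply Subgroup.eq_of_le_of_card_ge hBC
    rw [hcard, hm, mul_comm]

section Chain

variable [Finite L] {p : ℕ} [Fact p.Prime] {N G : Subgroup L}

theorem iterCommutator_invariant (hGN : G ≤ normalizer (N : Set L)) (i : ℕ) :
    G ≤ normalizer ((Cfsg.iterCommutator N G i : Subgroup L) : Set L) := by
  cases i with
  | zero => exact hGN
  | succ i => exact normalizer_commutator_ge_right _ G

theorem iterCommutator_succ_le (hGN : G ≤ normalizer (N : Set L)) (i : ℕ) :
    Cfsg.iterCommutator N G (i + 1) ≤ Cfsg.iterCommutator N G i :=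
  le_normalizer_iff_commutator_le_left.mp (iterCommutator_invariant hGN i)

theorem iterCommutator_antitone (hGN : G ≤ normalizer (N : Set L)) {i j : ℕ} (hij : i ≤ j) :
    Cfsg.iterCommutator N G j ≤ Cfsg.iterCommutator N G i := by
  induction hij with
  | refl => exact le_rfl
  | step _ ih => exact (iterCommutator_succ_le hGN _).trans ih

theorem iterCommutator_le (hGN : G ≤ normalizer (N : Set L)) (i : ℕ) :
    Cfsg.iterCommutator N G i ≤ N :=
  iterCommutator_antitone hGN (Nat.zero_le i)

section Uni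

variable {n : ℕ}

theorem iterCommutator_eq_bot_of_le (hGN : G ≤ normalizer (N : Set L))
    (hcard : ∀ i ≤ n, Nat.card (Cfsg.iterCommutator N G i) = p ^ (n - i)) {m : ℕ} (hm : n ≤ m) :
    Cfsg.iterCommutator N G m = ⊥ := by
  have h1 : Cfsg.iterCommutator N G n = ⊥ := by
    apply Subgroup.eq_bot_of_card_eq
    rw [hcard n le_rfl, Nat.sub_self, pow_zero]
  exact le_bot_iff.mp (h1 ▸ iterCommutator_antitone hGN hm)

theorem iterCommutator_ne_bot (hcard : ∀ i ≤ n, Nat.card (Cfsg.iterCommutator N G i) = p ^ (n - i))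
    {i : ℕ} (hi : i < n) : Cfsg.iterCommutator N G i ≠ ⊥ := by
  intro h
  have h1 := hcard i hi.le
  rw [h, Subgroup.card_bot] at h1
  have hp : 1 < p := (Fact.out : p.Prime).one_lt
  have : 1 < p ^ (n - i) := Nat.one_lt_pow (Nat.sub_ne_zero_of_lt hi) hp
  omega

theorem card_iterCommutator_succ (hcard : ∀ i ≤ n, Nat.card (Cfsg.iterCommutator N G i) = p ^ (n - i))
    {i : ℕ} (hi : i < n) :
    Nat.card (Cfsg.iterCommutator N G i) = p * Nat.card (Cfsg.iterCommutator N G (i + 1)) := by
  rw [hcard i hi.le, hcard (i + 1) hi, ← pow_succ']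
  congr 1
  omega

/-- The terms of the chain are normal in `N`. -/
theorem iterCommutator_normal (hN : IsPGroup p N) (hG : IsPGroup p G)
    (hGN : G ≤ normalizer (N : Set L))
    (hcard : ∀ i ≤ n, Nat.card (Cfsg.iterCommutator N G i) = p ^ (n - i)) (i : ℕ) :
    N ≤ normalizer ((Cfsg.iterCommutator N G i : Subgroup L) : Set L) := by
  induction i with
  | zero => exact le_normalizer
  | succ i ih =>
    by_cases hi : i < n
    · have hΓ : IsPGroup p ↥(N ⊔ G) := hN.to_sup_of_normal_left' hG hGN
      have hΓn : N ⊔ G ≤ normalizer ((Cfsg.iterCommutator N G i : Subgroup L) : Set L) :=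
        sup_le ih (iterCommutator_invariant hGN i)
      set T := ⁅Cfsg.iterCommutator N G i, N ⊔ G⁆ with hT
      have h1 : T ≤ Cfsg.iterCommutator N G i := le_normalizer_iff_commutator_le_left.mp hΓn
      have h2 : Cfsg.iterCommutator N G (i + 1) ≤ T := commutator_mono le_rfl le_sup_right
      have h3 : T ≠ Cfsg.iterCommutator N G i :=
        commutator_ne_of_isPGroup (hN.to_le (iterCommutator_le hGN i)) hΓ hΓn
          (iterCommutator_ne_bot hcard hi)
      have h4 : T = Cfsg.iterCommutator N G (i + 1) := by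
        rcases eq_or_eq_of_card_eq_prime_mul (Fact.out : p.Prime) h2 h1
          (card_iterCommutator_succ hcard hi) with h | h
        · exact h
        · exact absurd h h3
      rw [← h4]
      exact le_sup_left.trans (normalizer_commutator_ge_right _ (N ⊔ G))
    · have : Cfsg.iterCommutator N G (i + 1) = ⊥ :=
        iterCommutator_eq_bot_of_le hGN hcard (by omega)
      rw [this]
      intro x _
      rw [mem_normalizer_iff]
      intro h
      simp

theorem chain_step (hN : IsPGroup p N) (hG : IsPGroup p G)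
    (hGN : G ≤ normalizer (N : Set L))
    (hcard : ∀ i ≤ n, Nat.card (Cfsg.iterCommutator N G i) = p ^ (n - i)) {K : Subgroup L} {j : ℕ}
    (hK : K ≤ Cfsg.iterCommutator N G j)
    (hcov : Cfsg.iterCommutator N G j ≤ K ⊔ Cfsg.iterCommutator N G (j + 1)) :
    Cfsg.iterCommutator N G (j + 1) ≤ ⁅K, G⁆ ⊔ Cfsg.iterCommutator N G (j + 2) := by
  show ⁅Cfsg.iterCommutator N G j, G⁆ ≤ _
  rw [commutator_le]
  intro x hx g hg
  have hKn : K ≤ normalizer ((Cfsg.iterCommutator N G (j + 1) : Subgroup L) : Set L) :=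
    (hK.trans (iterCommutator_le hGN j)).trans (iterCommutator_normal hN hG hGN hcard (j + 1))
  have hmem : x ∈ ((K ⊔ Cfsg.iterCommutator N G (j + 1) : Subgroup L) : Set L) := hcov hx
  rw [coe_mul_of_left_le_normalizer_right K _ hKn] at hmem
  obtain ⟨k, hk, m, hm, rfl⟩ := hmem
  rw [comm_mul_left']
  have h1 : ⁅m, g⁆ ∈ Cfsg.iterCommutator N G (j + 2) := commutator_mem_commutator hm hg
  have hkN : k ∈ normalizer ((Cfsg.iterCommutator N G (j + 2) : Subgroup L) : Set L) :=
    iterCommutator_normal hN hG hGN hcard (j + 2) (iterCommutator_le hGN j (hK hk))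
  exact mul_mem (mem_sup_right ((mem_normalizer_iff.mp hkN _).mp h1))
    (mem_sup_left (commutator_mem_commutator hk hg))

theorem iterComm_le_iterCommutator {H : Subgroup L} {i : ℕ}
    (hH : H ≤ Cfsg.iterCommutator N G i) (k : ℕ) :
    iterComm H G k ≤ Cfsg.iterCommutator N G (i + k) := by
  induction k with
  | zero => exact hH
  | succ k ih => exact commutator_mono ih le_rfl

theorem chain_cover (hN : IsPGroup p N) (hG : IsPGroup p G)
    (hGN : G ≤ normalizer (N : Set L))
    (hcard : ∀ i ≤ n, Nat.card (Cfsg.iterCommutator N G i) = p ^ (n - i)) {H : Subgroup L} {i : ℕ}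
    (hi : i < n) (hH : H ≤ Cfsg.iterCommutator N G i)
    (hnot : ¬ H ≤ Cfsg.iterCommutator N G (i + 1)) (k : ℕ) :
    Cfsg.iterCommutator N G (i + k) ≤ iterComm H G k ⊔ Cfsg.iterCommutator N G (i + k + 1) := by
  induction k with
  | zero =>
    show Cfsg.iterCommutator N G i ≤ H ⊔ Cfsg.iterCommutator N G (i + 1)
    rcases eq_or_eq_of_card_eq_prime_mul (Fact.out : p.Prime)
      (le_sup_right : Cfsg.iterCommutator N G (i + 1) ≤ H ⊔ Cfsg.iterCommutator N G (i + 1))
      (sup_le hH (iterCommutator_succ_le hGN i)) (card_iterCommutator_succ hcard hi) with h | h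
    · exact absurd (le_sup_left.trans h.le) hnot
    · exact h.ge
  | succ k ih =>
    exact chain_step hN hG hGN hcard (iterComm_le_iterCommutator hH k) ih

theorem iterCommutator_le_of_not_le (hN : IsPGroup p N) (hG : IsPGroup p G)
    (hGN : G ≤ normalizer (N : Set L))
    (hcard : ∀ i ≤ n, Nat.card (Cfsg.iterCommutator N G i) = p ^ (n - i)) {H : Subgroup L} {i : ℕ}
    (hi : i < n) (hH : H ≤ Cfsg.iterCommutator N G i) (hGH : G ≤ normalizer (H : Set L))
    (hnot : ¬ H ≤ Cfsg.iterCommutator N G (i + 1)) : Cfsg.iterCommutator N G i ≤ H := by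
  have key : ∀ d k, i + k + d = n → Cfsg.iterCommutator N G (i + k) ≤ H := by
    intro d
    induction d with
    | zero =>
      intro k hk
      rw [iterCommutator_eq_bot_of_le hGN hcard (by omega : n ≤ i + k)]
      exact bot_le
    | succ d ih =>
      intro k hk
      have h1 : Cfsg.iterCommutator N G (i + (k + 1)) ≤ H := ih (k + 1) (by omega)
      exact (chain_cover hN hG hGN hcard hi hH hnot k).trans (sup_le (iterComm_le' hGH k) h1)
  exact key (n - i) 0 (by omega)

/-- The `G`-invariant subgroups of `N` are the terms of the chain. -/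
theorem invariant_eq_iterCommutator (hN : IsPGroup p N) (hG : IsPGroup p G)
    (hGN : G ≤ normalizer (N : Set L))
    (hcard : ∀ i ≤ n, Nat.card (Cfsg.iterCommutator N G i) = p ^ (n - i)) {H : Subgroup L}
    (hHN : H ≤ N) (hGH : G ≤ normalizer (H : Set L)) :
    ∃ i ≤ n, H = Cfsg.iterCommutator N G i := by
  have key : ∀ d i, i + d = n → H ≤ Cfsg.iterCommutator N G i →
      ∃ j ≤ n, H = Cfsg.iterCommutator N G j := by
    intro d
    induction d with
    | zero =>
      intro i hi hH
      have hin : i = n := by omega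
      subst hin
      refine ⟨i, le_rfl, ?_⟩
      rw [iterCommutator_eq_bot_of_le hGN hcard le_rfl] at hH ⊢
      exact le_bot_iff.mp hH
    | succ d ih =>
      intro i hi hH
      by_cases hle : H ≤ Cfsg.iterCommutator N G (i + 1)
      · exact ih (i + 1) (by omega) hle
      · exact ⟨i, by omega, le_antisymm hH
          (iterCommutator_le_of_not_le hN hG hGN hcard (by omega) hH hGH hle)⟩
  exact key n 0 (by omega) hHN

end Uni

end Chain

end Cfsg.Agent.Helper51
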