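import Mathlib
import Cfsg.Agent.Helper51.GlauRepl
import Cfsg.Agent.Helper51.Uniserial

set_option autoImplicit false

namespace Cfsg.Agent.Helper51

open Subgroup
open scoped commutatorElement

section Abstract

variable {Q : Type*} [Group Q]

theorem mul_pow_of_odd_class_two {x y : Q} (hx : Commute ⁅y, x⁆ x) (hy : Commute ⁅y, x⁆ y) {e : ℕ}
    (he : Odd e) (hce : ⁅y, x⁆ ^ e = 1) : (x * y) ^ e = x ^ e * y ^ e := by
  rw [mul_pow_class_two hx hy]
  obtain ⟨k, rfl⟩ := he
  have : (2 * k + 1).choose 2 = (2 * k + 1) * k := by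
    rw [Nat.choose_two_right]
    have : (2 * k + 1) * (2 * k + 1 - 1) = (2 * k + 1) * k * 2 := by
      rw [Nat.add_sub_cancel]; ring
    rw [this, Nat.mul_div_cancel _ (by norm_num : 0 < 2)]
  rw [this, pow_mul, hce, one_pow, mul_one]

variable [Finite Q] {p : ℕ} [Fact p.Prime]

theorem center_pow_eq_one (hZ : Nat.card (center Q) = p) {z : Q} (hz : z ∈ center Q) : z ^ p = 1 := by
  have h := pow_card_eq_one' (G := center Q) (x := ⟨z, hz⟩)
  rw [hZ] at h
  have h2 := congrArg Subtype.val h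
  simpa using h2

theorem pow_mem_center_of_class_two (hcls : ∀ g h : Q, ⁅g, h⁆ ∈ center Q)
    (hZ : Nat.card (center Q) = p) (g : Q) : g ^ p ∈ center Q := by
  rw [mem_center_iff]
  intro h
  have hc : Commute ⁅g, h⁆ g := (mem_center_iff.mp (hcls g h) g).symm
  have := pow_mul_class_two (x := h) (y := g) hc p
  rw [center_pow_eq_one hZ (hcls g h), one_mul] at this
  exact this.symm

theorem mul_pow_prime_of_class_two (hp : p ≠ 2) (hcls : ∀ g h : Q, ⁅g, h⁆ ∈ center Q)
    (hZ : Nat.card (center Q) = p) (g h : Q) : (g * h) ^ p = g ^ p * h ^ p := by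
  have hodd : Odd p := (Fact.out : p.Prime).odd_of_ne_two hp
  apply mul_pow_of_odd_class_two _ _ hodd (center_pow_eq_one hZ (hcls h g))
  · exact (mem_center_iff.mp (hcls h g) g).symm
  · exact (mem_center_iff.mp (hcls h g) h).symm

/-- The `p`-power homomorphism of an odd class-two group with centre of order `p`. -/
def powHom (hp : p ≠ 2) (hcls : ∀ g h : Q, ⁅g, h⁆ ∈ center Q)
    (hZ : Nat.card (center Q) = p) : Q →* Q where
  toFun g := g ^ p
  map_one' := one_pow p
  map_mul' := mul_pow_prime_of_class_two hp hcls hZ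

theorem mem_ker_powHom (hp : p ≠ 2) (hcls : ∀ g h : Q, ⁅g, h⁆ ∈ center Q)
    (hZ : Nat.card (center Q) = p) {g : Q} : g ∈ (powHom hp hcls hZ).ker ↔ g ^ p = 1 :=
  MonoidHom.mem_ker

theorem range_powHom (hp : p ≠ 2) (hcls : ∀ g h : Q, ⁅g, h⁆ ∈ center Q)
    (hZ : Nat.card (center Q) = p) (hexp : ∃ g : Q, g ^ p ≠ 1) :
    (powHom hp hcls hZ).range = center Q := by
  have hle : (powHom hp hcls hZ).range ≤ center Q := by
    rintro _ ⟨g, rfl⟩
    exact pow_mem_center_of_class_two hcls hZ g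
  have hne : (powHom hp hcls hZ).range ≠ ⊥ := by
    obtain ⟨g, hg⟩ := hexp
    intro h
    have : g ^ p ∈ (powHom hp hcls hZ).range := ⟨g, rfl⟩
    rw [h, mem_bot] at this
    exact hg this
  have hpp : p.Prime := Fact.out
  have hdvd := Subgroup.card_dvd_of_le hle
  rw [hZ] at hdvd
  rcases (Nat.dvd_prime hpp).mp hdvd with h | h
  · exact absurd (Subgroup.eq_bot_of_card_eq _ h) hne
  · exact Subgroup.eq_of_le_of_card_ge hle (by rw [hZ, h])

theorem card_ker_powHom (hp : p ≠ 2) (hcls : ∀ g h : Q, ⁅g, h⁆ ∈ center Q)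
    (hZ : Nat.card (center Q) = p) (hexp : ∃ g : Q, g ^ p ≠ 1) (hcard : Nat.card Q = p ^ 3) :
    Nat.card (powHom hp hcls hZ).ker = p ^ 2 := by
  have h1 := Subgroup.card_mul_index (powHom hp hcls hZ).ker
  rw [Subgroup.index_ker, range_powHom hp hcls hZ hexp, hZ, hcard] at h1
  have hpp : 0 < p := (Fact.out : p.Prime).pos
  have : Nat.card (powHom hp hcls hZ).ker * p = p ^ 2 * p := by rw [h1]; ring
  exact Nat.eq_of_mul_eq_mul_right hpp this

theorem exists_pow_eq_of_mem_center (hp : p ≠ 2) (hcls : ∀ g h : Q, ⁅g, h⁆ ∈ center Q)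
    (hZ : Nat.card (center Q) = p) (hexp : ∃ g : Q, g ^ p ≠ 1) {z : Q} (hz : z ∈ center Q) :
    ∃ g : Q, g ^ p = z := by
  rw [← range_powHom hp hcls hZ hexp] at hz
  exact hz

theorem comm_of_pow_eq_one (hp : p ≠ 2) (hcls : ∀ g h : Q, ⁅g, h⁆ ∈ center Q)
    (hZ : Nat.card (center Q) = p) (hexp : ∃ g : Q, g ^ p ≠ 1) (hcard : Nat.card Q = p ^ 3)
    {a b : Q} (ha : a ^ p = 1) (hb : b ^ p = 1) : a * b = b * a := by
  have hc := card_ker_powHom hp hcls hZ hexp hcard
  have := IsPGroup.isMulCommutative_of_card_eq_prime_sq hc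
  exact comm_of_mem' this ((mem_ker_powHom hp hcls hZ).mpr ha) ((mem_ker_powHom hp hcls hZ).mpr hb)

theorem pow_eq_one_of_comm (hp : p ≠ 2) (hcls : ∀ g h : Q, ⁅g, h⁆ ∈ center Q)
    (hZ : Nat.card (center Q) = p) (hexp : ∃ g : Q, g ^ p ≠ 1) (hcard : Nat.card Q = p ^ 3)
    {u x : Q} (hu : u ^ p = 1) (hun : u ∉ center Q) (hx : x * u = u * x) : x ^ p = 1 := by
  set E := (powHom hp hcls hZ).ker with hE
  have hc := card_ker_powHom hp hcls hZ hexp hcard
  have hEC : E ≤ centralizer ({u} : Set Q) := by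
    intro e he
    rw [mem_centralizer_singleton_iff]
    exact comm_of_pow_eq_one hp hcls hZ hexp hcard ((mem_ker_powHom hp hcls hZ).mp he) hu
  have hcard' : Nat.card (⊤ : Subgroup Q) = p * Nat.card E := by
    rw [Subgroup.card_top, hcard, hc]; ring
  rcases eq_or_eq_of_card_eq_prime_mul (Fact.out : p.Prime) hEC le_top hcard' with h | h
  · have : x ∈ centralizer ({u} : Set Q) := mem_centralizer_singleton_iff.mpr hx
    rw [h] at this
    exact (mem_ker_powHom hp hcls hZ).mp this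
  · exfalso
    apply hun
    rw [mem_center_iff]
    intro g
    have : g ∈ centralizer ({u} : Set Q) := h ▸ mem_top g
    exact mem_centralizer_singleton_iff.mp this

end Abstract

end Cfsg.Agent.Helper51
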