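import Mathlib
import Cfsg.Agent.S0650

set_option autoImplicit false

namespace Cfsg.Agent.Helper51

open Subgroup
open scoped commutatorElement

variable {S : Type*} [Group S]

/-- Normalizers grow: in a finite `p`-group, if `K ≰ N` there is `x ∈ N ⊔ K` normalizing `N`,
not in `N`. -/
theorem exists_mem_normalizer_not_mem [Finite S] {p : ℕ} [Fact p.Prime] (hS : IsPGroup p S)
    {N K : Subgroup S} (h : ¬ K ≤ N) :
    ∃ x ∈ N ⊔ K, x ∈ normalizer (N : Set S) ∧ x ∉ N := by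
  have hp : IsPGroup p ↥(N ⊔ K) := hS.to_subgroup _
  have hnil : Group.IsNilpotent ↥(N ⊔ K) := hp.isNilpotent
  have hnc : NormalizerCondition ↥(N ⊔ K) := Group.normalizerCondition_of_isNilpotent
  have hlt : N.subgroupOf (N ⊔ K) < ⊤ := by
    rw [lt_top_iff_ne_top, Ne, subgroupOf_eq_top]
    exact fun hle => h (le_sup_right.trans hle)
  have h2 := hnc _ hlt
  obtain ⟨x, hxn, hxN⟩ := SetLike.exists_of_lt h2
  refine ⟨x.1, x.2, ?_, fun hx => hxN (mem_subgroupOf.mpr hx)⟩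
  apply mem_normalizer_of_cj_le
  intro y hy
  obtain ⟨n, hn, rfl⟩ := mem_cj.mp hy
  have hn' : (⟨n, le_sup_left (b := K) hn⟩ : ↥(N ⊔ K)) ∈ N.subgroupOf (N ⊔ K) := mem_subgroupOf.mpr hn
  have := (mem_normalizer_iff.mp hxn _).mp hn'
  exact mem_subgroupOf.mp this

/-- Glauberman's replacement theorem for a family of abelian subgroups of `D` closed under
the replacement construction. -/
theorem replacement_family [Finite S] {p : ℕ} [Fact p.Prime] (hS : IsPGroup p S) (hp : p ≠ 2)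
    (D : Subgroup S) [D.Normal] (F : Set (Subgroup S))
    (hF : ∀ A ∈ F, IsMulCommutative A ∧ A ≤ D)
    (hrep : ∀ A ∈ F, ∀ A' : Subgroup S, A' ≤ D → IsMulCommutative A' → Nat.card A' = Nat.card A →
      Monoid.exponent A' ∣ Monoid.exponent A → A' ∈ F)
    (B : Subgroup S) [B.Normal]
    (hU : ∃ U ∈ F, ⁅B, B⁆ ≤ U ∧ ¬ B ≤ U) :
    ∃ A ∈ F, ⁅B, B⁆ ≤ A ∧ ¬ B ≤ A ∧ B ≤ normalizer (A : Set S) := by
  classical
  set T : Set (Subgroup S) := {A | A ∈ F ∧ ⁅B, B⁆ ≤ A ∧ ¬ B ≤ A} with hT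
  have hTne : T.Nonempty := by
    obtain ⟨U, hU1, hU2, hU3⟩ := hU
    exact ⟨U, hU1, hU2, hU3⟩
  obtain ⟨A, ⟨hAF, hBA, hnBA⟩, hmax⟩ :=
    Set.exists_max_image T (fun A => Nat.card ↥(A ⊓ B)) (Set.toFinite T) hTne
  refine ⟨A, hAF, hBA, hnBA, ?_⟩
  by_contra hnot
  obtain ⟨x, hx, hxN, hxn⟩ := exists_mem_normalizer_not_mem hS hnot
  have hx' : x ∈ ((normalizer (A : Set S) ⊔ B : Subgroup S) : Set S) := hx
  rw [mul_normal] at hx'
  obtain ⟨n, hn, β, hβ, rfl⟩ := hx'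
  have hβN : β ∈ normalizer ((normalizer (A : Set S) : Subgroup S) : Set S) := by
    have : β = n⁻¹ * (n * β) := by group
    rw [this]
    exact mul_mem (inv_mem (le_normalizer hn)) hxN
  have hβA : β ∉ normalizer (A : Set S) := by
    intro h
    exact hxn (mul_mem hn h)
  obtain ⟨hAc, hAD⟩ := hF A hAF
  obtain ⟨h1, h2, h3, h4, h5, -, -, -, -, h10⟩ :=
    Cfsg.Agent.S0650.main hS B (fun h => absurd h hp) A hAc hBA β hβ hβN hβA
  have hD : gStar A β ≤ D := by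
    refine sup_le (inf_le_left.trans hAD) (gX_le_sup.trans (sup_le hAD ?_))
    have := cj_mono β hAD
    rwa [cj_eq_self_of_mem_normalizer (H := D) (by rw [normalizer_eq_top]; exact mem_top β)] at this
  have hmem : gStar A β ∈ T := by
    refine ⟨hrep A hAF _ hD h2 h1 (h10 hp), h3, fun hle => ?_⟩
    exact absurd (inf_eq_right.mpr hle) h5.ne
  have hle := hmax _ hmem
  have heq : A ⊓ B = gStar A β ⊓ B := Subgroup.eq_of_le_of_card_ge h4.le hle
  exact h4.ne heq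

end Cfsg.Agent.Helper51
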