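import Cfsg.Agent.Helper1.ReplComm
import Cfsg.Agent.Helper71.PronormalExt

/-!
# Utilities for the weak closure theorem (helper51)
-/

set_option autoImplicit false
set_option linter.unusedSectionVars false

namespace Cfsg.Agent.Helper51.WC

open Subgroup
open Cfsg.Agent.S4269 (cj mem_cj cj_mul cj_of_mem cj_of_mem_normalizer)
open Cfsg.Agent.Helper71
open Cfsg.Agent.Helper1 (Jg)
open Cfsg.Agent.Lib.ZJ (maxGood goodComm intrinsic_comm)

universe u

variable {G : Type u} [Group G]

/-- the abelian subgroups of `T` of largest order -/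
abbrev AA (T : Subgroup G) : Set (Subgroup G) := maxGood (goodComm G) T

/-- the (abelian version) Thompson subgroup of `T`, inside `G` -/
abbrev JJ (T : Subgroup G) : Subgroup G := Jg goodComm T

theorem thompsonSubgroupAOf_eq_JJ (T : Subgroup G) : Cfsg.thompsonSubgroupAOf T = JJ T :=
  Cfsg.Agent.Helper1.thompsonSubgroupAOf_eq_Jg T

theorem mem_cj' {g x : G} {H : Subgroup G} : x ∈ cj g H ↔ g⁻¹ * x * g ∈ H :=
  Cfsg.Agent.Lib.ZJ.mem_cj

/-- `cj (a * b) H = cj a (cj b H)` for the conjugation `cj` of `Helper51/CD.lean` -/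
theorem cj_mul' (a b : G) (H : Subgroup G) :
    Cfsg.Agent.Helper51.cj (a * b) H = Cfsg.Agent.Helper51.cj a (Cfsg.Agent.Helper51.cj b H) :=
  Cfsg.Agent.S4269.cj_mul a b H

theorem cj_normalizer (g : G) (H : Subgroup G) :
    normalizer ((cj g H : Subgroup G) : Set G) = cj g (normalizer (H : Set G)) :=
  (Subgroup.map_equiv_normalizer_eq H (MulAut.conj g)).symm

theorem cj_centralizer_singleton (g x : G) :
    cj g (centralizer ({x} : Set G)) = centralizer ({g * x * g⁻¹} : Set G) := by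
  ext y
  rw [mem_cj', mem_centralizer_singleton_iff, mem_centralizer_singleton_iff]
  constructor
  · intro h
    have : g * (g⁻¹ * y * g * x) * g⁻¹ = g * (x * (g⁻¹ * y * g)) * g⁻¹ := by rw [h]
    calc y * (g * x * g⁻¹) = g * (g⁻¹ * y * g * x) * g⁻¹ := by group
      _ = g * (x * (g⁻¹ * y * g)) * g⁻¹ := this
      _ = g * x * g⁻¹ * y := by group
  · intro h
    calc g⁻¹ * y * g * x = g⁻¹ * (y * (g * x * g⁻¹)) * g := by group
      _ = g⁻¹ * (g * x * g⁻¹ * y) * g := by rw [h]
      _ = x * (g⁻¹ * y * g) := by group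

theorem JJ_cj (g : G) (T : Subgroup G) : JJ (cj g T) = cj g (JJ T) :=
  Cfsg.Agent.Helper1.Jg_map intrinsic_comm (MulAut.conj g).toMonoidHom T
    ((MulAut.conj g).injective.comp T.subtype_injective)

theorem JJ_le (T : Subgroup G) : JJ T ≤ T := Cfsg.Agent.Helper1.Jg_le T

theorem normalizer_le_normalizer_JJ (T : Subgroup G) :
    normalizer (T : Set G) ≤ normalizer (JJ T : Set G) :=
  Cfsg.Agent.Helper1.normalizer_le_normalizer_Jg intrinsic_comm T

theorem mem_AA_iff {T A : Subgroup G} : A ∈ AA T ↔ A ≤ T ∧ IsMulCommutative A ∧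
    ∀ B : Subgroup G, B ≤ T → IsMulCommutative B → Nat.card B ≤ Nat.card A := Iff.rfl

theorem AA_nonempty [Finite G] (T : Subgroup G) : (AA T).Nonempty :=
  Cfsg.Agent.Helper1.maxGood_nonempty intrinsic_comm T

theorem le_JJ {T A : Subgroup G} (hA : A ∈ AA T) : A ≤ JJ T := Cfsg.Agent.Helper1.le_Jg hA

theorem isMulCommutative_of_le {A B : Subgroup G} (hB : IsMulCommutative B) (h : A ≤ B) :
    IsMulCommutative A := by
  apply le_centralizer_iff_isMulCommutative.mp
  exact h.trans ((le_centralizer_iff_isMulCommutative.mpr hB).trans (centralizer_le h))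

theorem isMulCommutative_sup {A B : Subgroup G} (hA : IsMulCommutative A) (hB : IsMulCommutative B)
    (hAB : A ≤ centralizer (B : Set G)) : IsMulCommutative ↥(A ⊔ B) := by
  apply le_centralizer_iff_isMulCommutative.mp
  rw [centralizer_sup]
  refine sup_le (le_inf (le_centralizer_iff_isMulCommutative.mpr hA) hAB)
    (le_inf (le_centralizer_iff.mp hAB) (le_centralizer_iff_isMulCommutative.mpr hB))

theorem isMulCommutative_zpowers (x : G) : IsMulCommutative (zpowers x) := by
  apply le_centralizer_iff_isMulCommutative.mp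
  rw [zpowers_le]
  rw [mem_centralizer_iff]
  intro y hy
  obtain ⟨k, rfl⟩ := mem_zpowers_iff.mp hy
  exact (Commute.zpow_self x k)

/-- an element of `T` commuting with a member of `𝒜(T)` lies in it -/
theorem mem_of_mem_AA_of_commute [Finite G] {T A : Subgroup G} (hA : A ∈ AA T) {y : G} (hyT : y ∈ T)
    (hy : A ≤ centralizer ({y} : Set G)) : y ∈ A := by
  obtain ⟨hAT, hAc, hmax⟩ := hA
  have h1 : A ≤ centralizer ((zpowers y : Subgroup G) : Set G) := by
    intro a ha
    rw [mem_centralizer_iff]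
    intro z hz
    obtain ⟨k, rfl⟩ := mem_zpowers_iff.mp hz
    have := mem_centralizer_singleton_iff.mp (hy ha)
    exact ((Commute.zpow_left (show Commute y a from this.symm) k)).eq
  have h2 : IsMulCommutative ↥(A ⊔ zpowers y) := isMulCommutative_sup hAc (isMulCommutative_zpowers y) h1
  have h3 := hmax _ (sup_le hAT (by rw [zpowers_le]; exact hyT)) h2
  have h4 : A = A ⊔ zpowers y := Subgroup.eq_of_le_of_card_ge le_sup_left h3
  rw [h4]
  exact le_sup_right (a := A) (mem_zpowers y)

/-- central elements of `T` lie in `J(T)` -/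
theorem mem_JJ_of_central [Finite G] {T : Subgroup G} {x : G} (hxT : x ∈ T)
    (hx : T ≤ centralizer ({x} : Set G)) : x ∈ JJ T := by
  obtain ⟨A, hA⟩ := AA_nonempty T
  exact le_JJ hA (mem_of_mem_AA_of_commute hA hxT (hA.1.trans hx))

/-- a subgroup of `T' ≤ T` with the order of a member of `𝒜(T)` is a member of `𝒜(T')` -/
theorem mem_AA_of_card {T T' A B : Subgroup G} (hA : A ∈ AA T) (hT : T' ≤ T) (hB : B ≤ T')
    (hBc : IsMulCommutative B) (hcard : Nat.card A ≤ Nat.card B) : B ∈ AA T' :=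
  ⟨hB, hBc, fun B' hB' hB'c => (hA.2.2 B' (hB'.trans hT) hB'c).trans hcard⟩

section sylow

variable [Finite G] {p : ℕ} [hp : Fact p.Prime]

theorem exists_cj_le_sylow (S : Sylow p G) (Q : Subgroup G) (hQ : IsPGroup p Q) :
    ∃ h : G, cj h Q ≤ (S : Subgroup G) := by
  obtain ⟨Q', hQQ'⟩ := hQ.exists_le_sylow
  obtain ⟨h, hh⟩ := MulAction.exists_smul_eq G Q' S
  refine ⟨h, ?_⟩
  have h1 : ((h • Q' : Sylow p G) : Subgroup G) = cj h (Q' : Subgroup G) := by
    rw [Sylow.coe_subgroup_smul, smul_eq_cj]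
  rw [← hh, h1]
  exact Subgroup.map_mono hQQ'

/-- every `p`-subgroup of `K` lies in a Sylow `p`-subgroup of `K` (ambient form) -/
theorem exists_sylow_between (K T : Subgroup G) (hTK : T ≤ K) (hT : IsPGroup p T) :
    ∃ T' : Subgroup G, T ≤ T' ∧ T' ≤ K ∧ IsPGroup p T' ∧ ¬ p ∣ T'.relIndex K := by
  have hT' : IsPGroup p (T.subgroupOf K) := hT.comap_subtype
  obtain ⟨P, hP⟩ := hT'.exists_le_sylow
  refine ⟨(P : Subgroup K).map K.subtype, ?_, Subgroup.map_subtype_le _, P.isPGroup'.map _, ?_⟩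
  · intro t ht
    exact ⟨⟨t, hTK ht⟩, hP (mem_subgroupOf.mpr ht), rfl⟩
  · rw [Subgroup.relIndex, Subgroup.subgroupOf,
      Subgroup.comap_map_eq_self_of_injective (Subgroup.subtype_injective K)]
    exact P.not_dvd_index

/-- normalizers grow in `p`-groups (ambient form) -/
theorem eq_of_inf_normalizer_le {S H : Subgroup G} (hS : IsPGroup p S) (hHS : H ≤ S)
    (h : S ⊓ normalizer (H : Set G) ≤ H) : H = S := by
  by_contra hne
  have hnil : Group.IsNilpotent ↥S := hS.isNilpotent
  have hnc : NormalizerCondition ↥S := Group.normalizerCondition_of_isNilpotent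
  have hlt : H.subgroupOf S < ⊤ := by
    rw [lt_top_iff_ne_top, Ne, subgroupOf_eq_top]
    exact fun hle => hne (le_antisymm hHS hle)
  obtain ⟨y, hyn, hyH⟩ := SetLike.exists_of_lt (hnc _ hlt)
  apply hyH
  rw [mem_subgroupOf]
  apply h
  refine mem_inf.mpr ⟨y.2, ?_⟩
  rw [mem_normalizer_iff]
  intro z
  constructor
  · intro hz
    have hz' : (⟨z, hHS hz⟩ : ↥S) ∈ H.subgroupOf S := mem_subgroupOf.mpr hz
    exact mem_subgroupOf.mp ((mem_normalizer_iff.mp hyn _).mp hz')
  · intro hz
    have hzS : z ∈ S := by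
      have h1 := hHS hz
      have : z = (y : G)⁻¹ * ((y : G) * z * (y : G)⁻¹) * (y : G) := by group
      rw [this]
      exact S.mul_mem (S.mul_mem (S.inv_mem y.2) h1) y.2
    have hz' : y * (⟨z, hzS⟩ : ↥S) * y⁻¹ ∈ H.subgroupOf S := mem_subgroupOf.mpr hz
    exact mem_subgroupOf.mp ((mem_normalizer_iff.mp hyn _).mpr hz')

/-- a `p`-subgroup has at most the order of a Sylow `p`-subgroup -/
theorem card_le_card_sylow (S : Sylow p G) (Q : Subgroup G) (hQ : IsPGroup p Q) :
    Nat.card Q ≤ Nat.card (S : Subgroup G) := by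
  obtain ⟨h, hh⟩ := exists_cj_le_sylow S Q hQ
  rw [← card_cj h Q]
  exact Subgroup.card_le_of_le hh

/-- members of `𝒜(S)` have the largest order among all abelian `p`-subgroups of `G` -/
theorem card_le_of_mem_AA (S : Sylow p G) {A : Subgroup G} (hA : A ∈ AA (S : Subgroup G))
    (B : Subgroup G) (hB : IsPGroup p B) (hBc : IsMulCommutative B) : Nat.card B ≤ Nat.card A := by
  obtain ⟨h, hh⟩ := exists_cj_le_sylow S B hB
  rw [← card_cj h B]
  refine hA.2.2 _ hh ?_
  exact (intrinsic_comm.map_iff (MulAut.conj h).toMonoidHom (MulAut.conj h).injective B).mpr hBc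

end sylow

end Cfsg.Agent.Helper51.WC
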