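import Mathlib
import Cfsg.Prelude.Def_Classical
import Cfsg.Agent.Helper44.QTypeProd
import Cfsg.Agent.Helper44.StdNondeg

/-!
# Helper51: piece (CT1) of S2362 (helper99): level sets of `x₀² + Σ xᵢ yᵢ`
-/

set_option autoImplicit false

namespace Cfsg.Agent.Helper51.BC

open Module Cfsg Cfsg.Agent.Helper44 Cfsg.Agent.Helper44.QType

section

variable {F : Type*} [Field F] [Fintype F]

/-- fibres of the plus form, multiplied by `q` -/
theorem aux_plus_counts (n : ℕ) :
    (fc (quadFormPlus n F) 0 : ℤ) * (Fintype.card F : ℤ) =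
        (Fintype.card F : ℤ) ^ (2 * n) + ((Fintype.card F : ℤ) ^ (n + 1) - (Fintype.card F : ℤ) ^ n) ∧
      (fc (quadFormPlus n F) 1 : ℤ) * (Fintype.card F : ℤ) =
        (Fintype.card F : ℤ) ^ (2 * n) - (Fintype.card F : ℤ) ^ n := by
  have h1 := hasType_plus (F := F) n
  unfold HasType at h1
  rw [Nat.card_eq_fintype_card, one_mul] at h1
  have hV : finrank F (Fin n ⊕ Fin n → F) = 2 * n := by
    rw [finrank_sum_fun, Fintype.card_fin]; ring
  have h2 := fc_zero_add (plusForm n F) hV
    (fun x hx => (nondegenerate_plusForm (F := F) n).1 x hx)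
  rw [plusForm_coe, Nat.card_eq_fintype_card] at h2
  refine ⟨h1, ?_⟩
  have hq : (2 : ℤ) ≤ (Fintype.card F : ℤ) := by
    have := Fintype.one_lt_card (α := F)
    exact_mod_cast this
  have hq1 : ((Fintype.card F : ℤ) - 1) ≠ 0 := by
    intro h; omega
  apply mul_left_cancel₀ hq1
  set q : ℤ := (Fintype.card F : ℤ)
  set Z : ℤ := (fc (quadFormPlus n F) 0 : ℤ)
  set N : ℤ := (fc (quadFormPlus n F) 1 : ℤ)
  have e1 : q ^ (n + 1) = q * q ^ n := by ring
  have e2 : q ^ (2 * n) = q ^ n * q ^ n := by ring
  rw [e1] at h1
  linear_combination q * h2 - h1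

/-- number of square roots -/
theorem aux_card_sqrt (h2 : (2 : F) ≠ 0) {c : F} (hc : c ≠ 0) [DecidableEq F] :
    (IsSquare c → (Finset.univ.filter fun x : F => x ^ 2 = c).card = 2) ∧
      (¬ IsSquare c → (Finset.univ.filter fun x : F => x ^ 2 = c).card = 0) := by
  constructor
  · rintro ⟨d, rfl⟩
    have hd : d ≠ 0 := by
      rintro rfl
      exact hc (by simp)
    have hne : d ≠ -d := by
      intro h
      have : (2 : F) * d = 0 := by linear_combination h
      rcases mul_eq_zero.mp this with h | h
      · exact h2 h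
      · exact hd h
    have : (Finset.univ.filter fun x : F => x ^ 2 = d * d) = {d, -d} := by
      ext x
      simp only [Finset.mem_filter, Finset.mem_univ, true_and, Finset.mem_insert,
        Finset.mem_singleton]
      constructor
      · intro h
        have : (x - d) * (x + d) = 0 := by linear_combination h
        rcases mul_eq_zero.mp this with h | h
        · left; linear_combination h
        · right; linear_combination h
      · rintro (rfl | rfl) <;> ring
    rw [this, Finset.card_pair hne]
  · intro hns
    rw [Finset.card_eq_zero, Finset.filter_eq_empty_iff]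
    intro x _ hx
    exact hns ⟨x, by rw [← hx, pow_two]⟩

/-- the level set as a sum over the first coordinate -/
theorem aux_card_levelSet (n : ℕ) (c : F) :
    Nat.card {x : Unit ⊕ (Fin n ⊕ Fin n) → F // Cfsg.quadFormOdd n F x = c} =
      ∑ x₀ : F, fc (quadFormPlus n F) (c - x₀ ^ 2) := by
  unfold fc
  rw [← Nat.card_sigma]
  apply Nat.card_congr
  exact
    { toFun := fun x => ⟨x.1 (Sum.inl ()), ⟨fun j => x.1 (Sum.inr j), by
        have := x.2
        unfold Cfsg.quadFormOdd at this
        unfold Cfsg.quadFormPlus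
        linear_combination this⟩⟩
      invFun := fun p => ⟨Sum.elim (fun _ => p.1) p.2.1, by
        have := p.2.2
        unfold Cfsg.quadFormPlus at this
        unfold Cfsg.quadFormOdd
        simp only [Sum.elim_inl, Sum.elim_inr]
        linear_combination this⟩
      left_inv := fun x => by
        apply Subtype.ext
        funext i
        rcases i with ⟨⟩ | i <;> rfl
      right_inv := fun p => by
        rcases p with ⟨x₀, x', h⟩
        rfl }

end

/-- (CT1) level sets of `x₀² + Σ xᵢ yᵢ` -/
theorem card_levelSet_quadFormOdd {F : Type*} [Field F] [Fintype F] (n : ℕ) (h2 : (2 : F) ≠ 0)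
    {c : F} (hc : c ≠ 0) :
    (IsSquare c → Nat.card {x : Unit ⊕ (Fin n ⊕ Fin n) → F // Cfsg.quadFormOdd n F x = c} =
      Fintype.card F ^ (2 * n) + Fintype.card F ^ n) ∧
    (¬ IsSquare c → Nat.card {x : Unit ⊕ (Fin n ⊕ Fin n) → F // Cfsg.quadFormOdd n F x = c} =
      Fintype.card F ^ (2 * n) - Fintype.card F ^ n) := by
  classical
  obtain ⟨hZ, hN⟩ := aux_plus_counts (F := F) n
  obtain ⟨hs2, hs0⟩ := aux_card_sqrt h2 hc
  have hV : finrank F (Fin n ⊕ Fin n → F) = 2 * n := by
    rw [finrank_sum_fun, Fintype.card_fin]; ring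
  have hnd : ∀ x : Fin n ⊕ Fin n → F, (∀ y, QuadraticMap.polar (plusForm n F) x y = 0) → x = 0 :=
    fun x hx => (nondegenerate_plusForm (F := F) n).1 x hx
  -- the sum over the first coordinate
  have hsum : ∑ x₀ : F, fc (quadFormPlus n F) (c - x₀ ^ 2) =
      (Finset.univ.filter fun x : F => x ^ 2 = c).card * fc (quadFormPlus n F) 0 +
        (Fintype.card F - (Finset.univ.filter fun x : F => x ^ 2 = c).card) *
          fc (quadFormPlus n F) 1 := by
    rw [← Finset.sum_filter_add_sum_filter_not Finset.univ (fun x : F => x ^ 2 = c)]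
    congr 1
    · rw [Finset.sum_congr rfl (g := fun _ => fc (quadFormPlus n F) 0), Finset.sum_const,
        smul_eq_mul]
      intro x hx
      rw [(Finset.mem_filter.mp hx).2, sub_self]
    · rw [Finset.sum_congr rfl (g := fun _ => fc (quadFormPlus n F) 1), Finset.sum_const,
        smul_eq_mul]
      · congr 1
        rw [Finset.filter_not, Finset.card_sdiff_of_subset (Finset.filter_subset _ _),
          Finset.card_univ]
      · intro x hx
        have hne : c - x ^ 2 ≠ 0 := by
          intro h
          exact (Finset.mem_filter.mp hx).2 (by linear_combination -h)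
        have := fc_eq_fc_one (plusForm n F) hV hnd _ hne
        rw [plusForm_coe] at this
        exact this
  have hq : (2 : ℤ) ≤ (Fintype.card F : ℤ) := by
    have := Fintype.one_lt_card (α := F)
    exact_mod_cast this
  have hq0 : (Fintype.card F : ℤ) ≠ 0 := by intro h; omega
  have hpow : Fintype.card F ^ n ≤ Fintype.card F ^ (2 * n) :=
    Nat.pow_le_pow_right Fintype.card_pos (by omega)
  constructor
  · intro hsq
    rw [aux_card_levelSet, hsum, hs2 hsq]
    have h2q : 2 ≤ Fintype.card F := by exact_mod_cast hq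
    zify [h2q]
    apply mul_right_cancel₀ hq0
    set q : ℤ := (Fintype.card F : ℤ)
    have e1 : q ^ (n + 1) = q * q ^ n := by ring
    rw [e1] at hZ
    linear_combination 2 * hZ + (q - 2) * hN
  · intro hsq
    rw [aux_card_levelSet, hsum, hs0 hsq]
    zify [hpow]
    apply mul_right_cancel₀ hq0
    set q : ℤ := (Fintype.card F : ℤ)
    simp only [zero_mul, zero_add, Nat.sub_zero]
    linear_combination q * hN

end Cfsg.Agent.Helper51.BC
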