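import Mathlib
import Cfsg.Prelude.Def_Classical
import Cfsg.Agent.Helper44.OrthOddA
import Cfsg.Agent.Helper51.BCCT1

/-!
# Helper51: piece (CT2) of S2362 (helper99): level sets of a non-degenerate ternary quadratic form
-/

set_option autoImplicit false

namespace Cfsg.Agent.Helper51.BC

open Module Cfsg Cfsg.Agent.Helper44 Cfsg.Agent.Helper44.QType

/-- (CT2) level sets of a non-degenerate ternary quadratic form -/
theorem card_levelSet_three {F : Type*} [Field F] [Fintype F] {U : Type*} [AddCommGroup U]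
    [Module F U] [FiniteDimensional F U] (Q : QuadraticForm F U) (hU : finrank F U = 3)
    (h2 : (2 : F) ≠ 0) (hnd : ∀ x : U, (∀ y, QuadraticMap.polar Q x y = 0) → x = 0)
    {c : F} (hc : c ≠ 0) :
    Nat.card {x : U // Q x = c} = Fintype.card F ^ 2 + Fintype.card F ∨
    Nat.card {x : U // Q x = c} = Fintype.card F ^ 2 - Fintype.card F := by
  obtain ⟨a, g, ha, hg⟩ := exists_similarity_odd Q (m := 1) (by rw [hU]) hnd
  have hc' : a⁻¹ * c ≠ 0 := mul_ne_zero (inv_ne_zero ha) hc
  have hcard : Nat.card {x : U // Q x = c} =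
      Nat.card {y : Unit ⊕ (Fin 1 ⊕ Fin 1) → F // Cfsg.quadFormOdd 1 F y = a⁻¹ * c} := by
    apply Nat.card_congr
    refine g.toEquiv.subtypeEquiv ?_
    intro v
    simp only [LinearEquiv.coe_toEquiv]
    rw [← hg v]
    constructor
    · intro h
      rw [← h, ← mul_assoc, inv_mul_cancel₀ ha, one_mul]
    · intro h
      rw [h, ← mul_assoc, mul_inv_cancel₀ ha, one_mul]
  obtain ⟨h1, h0⟩ := card_levelSet_quadFormOdd (F := F) 1 h2 hc'
  rw [hcard]
  by_cases hsq : IsSquare (a⁻¹ * c)
  · left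
    rw [h1 hsq]
    norm_num
  · right
    rw [h0 hsq]
    norm_num

end Cfsg.Agent.Helper51.BC
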