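import Mathlib
import Cfsg.Agent.Helper99.BCDefs

/-!
# Helper51: piece (LA8) of S2362 (helper99): a commuting operator fixes all or nothing of the moving space

(with private-use copies `aux_*` of (LA2), (LA3), (LA6), proved independently)
-/

set_option autoImplicit false

namespace Cfsg.Agent.Helper51.BC

open Module Cfsg.Agent.Helper99.BC

variable {F : Type*} [Field F] {V : Type*} [AddCommGroup V] [Module F V]

/-- as (LA2a) -/
theorem aux_map_mem_fixS {A T : Module.End F V} (h : Commute T A) {x : V} (hx : x ∈ fixS A) :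
    T x ∈ fixS A := by
  rw [mem_fixS] at hx ⊢
  have : A (T x) = T (A x) := by
    have := congrArg (fun f : Module.End F V => f x) h.eq
    simpa using this.symm
  rw [this, hx]

theorem aux_pow_apply_comm {A T : Module.End F V} (h : Commute T A) (i : ℕ) (x : V) :
    (A ^ i) (T x) = T ((A ^ i) x) := by
  have := congrArg (fun f : Module.End F V => f x) (h.pow_right i).eq
  simpa using this.symm

/-- as (LA2b) -/
theorem aux_map_mem_movS {A T : Module.End F V} (h : Commute T A) {r : ℕ} {x : V}
    (hx : x ∈ movS A r) : T x ∈ movS A r := by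
  rw [mem_movS] at hx ⊢
  simp only [aux_pow_apply_comm h]
  rw [← map_sum, hx, map_zero]

/-- a fixed vector in the moving space vanishes -/
theorem aux_eq_zero_of_mem_fixS_movS {A : Module.End F V} {r : ℕ} (hr : (r : F) ≠ 0) {x : V}
    (hx : x ∈ fixS A) (hx' : x ∈ movS A r) : x = 0 := by
  rw [mem_fixS] at hx
  rw [mem_movS] at hx'
  have h1 : ∀ i : ℕ, (A ^ i) x = x := by
    intro i
    induction i with
    | zero => simp
    | succ i ih => rw [pow_succ, Module.End.mul_apply, hx, ih]
  simp only [h1, Finset.sum_const, Finset.card_range] at hx'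
  rw [← Nat.cast_smul_eq_nsmul F] at hx'
  exact (smul_eq_zero.mp hx').resolve_left hr

/-- as (LA3): orbit counting: `⟨A⟩` acts without fixed points on `W' \ {0}` -/
theorem aux_prime_dvd_card_pow_sub_one [Fintype F] [FiniteDimensional F V] (A : Module.End F V)
    (r : ℕ) (hrp : r.Prime) (hA : A ^ r = 1) (hr : (r : F) ≠ 0) (W' : Submodule F V)
    (hW' : W' ≤ movS A r) (hinv : ∀ x ∈ W', A x ∈ W') :
    r ∣ Fintype.card F ^ finrank F W' - 1 := by
  classical
  have : Fact r.Prime := ⟨hrp⟩
  have : Finite V := Module.finite_of_finite F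
  let _ : Fintype W' := Fintype.ofFinite _
  have hpow : ∀ (i : ℕ) (x : V), x ∈ W' → (A ^ i) x ∈ W' := by
    intro i
    induction i with
    | zero => intro x hx; simpa using hx
    | succ i ih =>
      intro x hx
      rw [pow_succ, Module.End.mul_apply]
      exact ih _ (hinv x hx)
  let σ : Function.End W' := fun x => ⟨A x.1, hinv _ x.2⟩
  have hσpow : ∀ (i : ℕ) (x : W'), ((σ ^ i) x : V) = (A ^ i) x.1 := by
    intro i
    induction i with
    | zero => intro x; rw [pow_zero, pow_zero]; rfl
    | succ i ih =>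
      intro x
      rw [pow_succ, pow_succ, Module.End.mul_apply]
      exact ih (σ x)
  have hσr : σ ^ r ^ 1 = 1 := by
    rw [pow_one]
    funext x
    apply Subtype.ext
    rw [hσpow, hA]
    rfl
  have h1 := Equiv.Perm.card_fixedPoints_modEq (p := r) (n := 1) hσr
  have hfix : Fintype.card (Function.fixedPoints σ) = 1 := by
    rw [Fintype.card_eq_one_iff]
    refine ⟨⟨0, ?_⟩, ?_⟩
    · show σ 0 = 0
      apply Subtype.ext
      show A 0 = 0
      exact map_zero A
    · rintro ⟨x, hx⟩
      apply Subtype.ext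
      apply Subtype.ext
      show (x : V) = 0
      have hx2 : A x.1 = x.1 := congrArg Subtype.val hx
      exact aux_eq_zero_of_mem_fixS_movS hr (mem_fixS.mpr hx2) (hW' x.2)
  rw [hfix] at h1
  have hcard : Fintype.card W' = Fintype.card F ^ finrank F W' := by
    rw [← Nat.card_eq_fintype_card, ← Nat.card_eq_fintype_card]
    exact Module.natCard_eq_pow_finrank
  rw [hcard] at h1
  exact (Nat.modEq_iff_dvd' (Nat.one_le_pow _ _ Fintype.card_pos)).mp h1.symm

/-- as (LA6): the moving space is irreducible -/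
theorem aux_eq_bot_or_eq_movS [Fintype F] [FiniteDimensional F V] (A : Module.End F V)
    (r : ℕ) (hrp : r.Prime) (hA : A ^ r = 1) (hr : (r : F) ≠ 0) (k : ℕ) (_hk : 1 ≤ k)
    (hW : finrank F (movS A r) = 2 * k)
    (hppd : ∀ j : ℕ, 0 < j → r ∣ Fintype.card F ^ j - 1 → 2 * k ∣ j)
    (W' : Submodule F V) (hW' : W' ≤ movS A r) (hinv : ∀ x ∈ W', A x ∈ W') :
    W' = ⊥ ∨ W' = movS A r := by
  by_cases h0 : finrank F W' = 0
  · left
    exact Submodule.finrank_eq_zero.mp h0
  · right
    have h1 := aux_prime_dvd_card_pow_sub_one A r hrp hA hr W' hW' hinv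
    have h2 := hppd _ (Nat.pos_of_ne_zero h0) h1
    have h3 : finrank F W' ≤ finrank F (movS A r) := Submodule.finrank_mono hW'
    have h4 : 2 * k ≤ finrank F W' := Nat.le_of_dvd (Nat.pos_of_ne_zero h0) h2
    apply Submodule.eq_of_le_of_finrank_eq hW'
    omega

/-- (LA8) a commuting operator fixes all or nothing of the moving space -/
theorem fix_all_or_none [Fintype F] [FiniteDimensional F V] (A : Module.End F V)
    (r : ℕ) (hrp : r.Prime) (hA : A ^ r = 1) (hr : (r : F) ≠ 0) (k : ℕ) (hk : 1 ≤ k)
    (hW : finrank F (movS A r) = 2 * k)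
    (hppd : ∀ j : ℕ, 0 < j → r ∣ Fintype.card F ^ j - 1 → 2 * k ∣ j)
    (T : Module.End F V) (hTA : Commute T A) :
    (∀ w ∈ movS A r, T w = w) ∨ (∀ w ∈ movS A r, T w = w → w = 0) := by
  let W' : Submodule F V := fixS T ⊓ movS A r
  have hW' : W' ≤ movS A r := inf_le_right
  have hinv : ∀ x ∈ W', A x ∈ W' := by
    intro x hx
    exact ⟨aux_map_mem_fixS hTA.symm hx.1, aux_map_mem_movS (Commute.refl A) hx.2⟩
  rcases aux_eq_bot_or_eq_movS A r hrp hA hr k hk hW hppd W' hW' hinv with h | h
  · right
    intro w hw hTw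
    have : w ∈ W' := ⟨mem_fixS.mpr hTw, hw⟩
    rw [h] at this
    exact (Submodule.mem_bot F).mp this
  · left
    intro w hw
    have : w ∈ W' := by rw [h]; exact hw
    exact mem_fixS.mp this.1

end Cfsg.Agent.Helper51.BC
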