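import Mathlib
import Cfsg.Agent.Helper99.BCDefs
import Cfsg.Agent.Helper51.BCLA8

/-!
# Helper51: piece (LA7) of S2362 (helper99): a commuting unipotent operator is trivial on the moving space
-/

set_option autoImplicit false

namespace Cfsg.Agent.Helper51.BC

open Module Cfsg.Agent.Helper99.BC

variable {F : Type*} [Field F] {V : Type*} [AddCommGroup V] [Module F V]

/-- a nilpotent operator kills a non-zero vector of every non-zero invariant subspace -/
theorem aux_exists_ker_of_nilpotent (N : Module.End F V) (n : ℕ) (hN : N ^ n = 0)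
    (W : Submodule F V) (hinv : ∀ x ∈ W, N x ∈ W) {w : V} (hw : w ∈ W) (hw0 : w ≠ 0) :
    ∃ v ∈ W, v ≠ 0 ∧ N v = 0 := by
  classical
  have hex : ∃ j : ℕ, (N ^ j) w = 0 := ⟨n, by rw [hN]; rfl⟩
  have hj0 : Nat.find hex ≠ 0 := by
    intro h0
    have := Nat.find_spec hex
    rw [h0, pow_zero] at this
    exact hw0 this
  obtain ⟨j, hj⟩ := Nat.exists_eq_succ_of_ne_zero hj0
  have hpow : ∀ (i : ℕ), (N ^ i) w ∈ W := by
    intro i
    induction i with
    | zero => simpa using hw
    | succ i ih =>
      rw [pow_succ', Module.End.mul_apply]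
      exact hinv _ ih
  refine ⟨(N ^ j) w, hpow j, ?_, ?_⟩
  · exact Nat.find_min hex (by omega)
  · have := Nat.find_spec hex
    rw [hj, Nat.succ_eq_add_one, pow_succ', Module.End.mul_apply] at this
    exact this

/-- (LA7) a commuting unipotent operator is trivial on the moving space -/
theorem unipotent_trivial_on_movS [Fintype F] [FiniteDimensional F V] (p : ℕ) [Fact p.Prime]
    [CharP F p] (A : Module.End F V)
    (r : ℕ) (hrp : r.Prime) (hA : A ^ r = 1) (hr : (r : F) ≠ 0) (k : ℕ) (hk : 1 ≤ k)
    (hW : finrank F (movS A r) = 2 * k)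
    (hppd : ∀ j : ℕ, 0 < j → r ∣ Fintype.card F ^ j - 1 → 2 * k ∣ j)
    (Y : Module.End F V) (hYA : Commute Y A) (hYp : Y ^ p = 1) :
    ∀ w ∈ movS A r, Y w = w := by
  rcases fix_all_or_none A r hrp hA hr k hk hW hppd Y hYA with h | h
  · exact h
  · exfalso
    have : CharP (Module.End F V) p := by
      by_cases hV : Nontrivial V
      · exact charP_of_injective_algebraMap (algebraMap F (Module.End F V)).injective p
      · -- the zero space: the moving space would be zero
        exfalso
        rw [not_nontrivial_iff_subsingleton] at hV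
        have : finrank F (movS A r) = 0 := by
          rw [Submodule.finrank_eq_zero]
          exact Subsingleton.elim _ _
        omega
    have hN : (Y - 1) ^ p = 0 := by
      rw [sub_pow_char_of_commute p (Commute.one_right Y), hYp, one_pow, sub_self]
    -- a non-zero vector of the moving space
    have hne : movS A r ≠ ⊥ := by
      intro hbot
      rw [hbot, finrank_bot] at hW
      omega
    obtain ⟨w, hw, hw0⟩ := Submodule.exists_mem_ne_zero_of_ne_bot hne
    have hinv : ∀ x ∈ movS A r, (Y - 1) x ∈ movS A r := by
      intro x hx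
      rw [LinearMap.sub_apply, Module.End.one_apply]
      exact (movS A r).sub_mem (aux_map_mem_movS hYA hx) hx
    obtain ⟨v, hv, hv0, hNv⟩ := aux_exists_ker_of_nilpotent (Y - 1) p hN (movS A r) hinv hw hw0
    apply hv0
    apply h v hv
    rw [LinearMap.sub_apply, Module.End.one_apply, sub_eq_zero] at hNv
    exact hNv

end Cfsg.Agent.Helper51.BC
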