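import Mathlib

/-!
# Helper51: groups in which every square lies in the derived subgroup (tools for S4625)

`SqComm H` says `x ^ 2 ∈ commutator H` for all `x : H`, that is, `H / H'` is an elementary
abelian `2`-group.  Basic closure properties, the criterion "generated by elements whose squares
lie in the derived subgroup", and transport between the Sylow subgroups of a finite group.
-/

set_option autoImplicit false

namespace Cfsg.Agent.Helper51.SQ

/-- every square lies in the derived subgroup -/
def SqComm (H : Type*) [Group H] : Prop := ∀ x : H, x ^ 2 ∈ commutator H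

section basic
variable {H K : Type*} [Group H] [Group K]

theorem SqComm.of_surjective (f : H →* K) (hf : Function.Surjective f) (h : SqComm H) :
    SqComm K := by
  intro y
  obtain ⟨x, rfl⟩ := hf y
  rw [← map_pow]
  have h1 : f (x ^ 2) ∈ (commutator H).map f := Subgroup.mem_map_of_mem f (h x)
  rw [commutator_def, Subgroup.map_commutator] at h1
  rw [commutator_def]
  exact Subgroup.commutator_mono le_top le_top h1

theorem SqComm.of_mulEquiv (e : H ≃* K) (h : SqComm H) : SqComm K :=
  h.of_surjective e.toMonoidHom e.surjective

/-- the elements whose square lies in the derived subgroup form a subgroup -/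
def sqSub (H : Type*) [Group H] : Subgroup H :=
  ((powMonoidHom 2 : Abelianization H →* Abelianization H).ker).comap Abelianization.of

theorem mem_sqSub {x : H} : x ∈ sqSub H ↔ x ^ 2 ∈ commutator H := by
  unfold sqSub
  rw [Subgroup.mem_comap, MonoidHom.mem_ker, powMonoidHom_apply, ← map_pow,
    ← MonoidHom.mem_ker, Abelianization.ker_of]

/-- a group generated by elements whose squares lie in the derived subgroup -/
theorem SqComm.of_closure (Y : Set H) (hY : Subgroup.closure Y = ⊤)
    (hsq : ∀ y ∈ Y, y ^ 2 ∈ commutator H) : SqComm H := by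
  intro x
  rw [← mem_sqSub]
  have h1 : Subgroup.closure Y ≤ sqSub H := by
    rw [Subgroup.closure_le]
    intro y hy
    exact mem_sqSub.mpr (hsq y hy)
  rw [hY] at h1
  exact h1 (Subgroup.mem_top x)

/-- a group generated by involutions -/
theorem SqComm.of_closure_involutions (Y : Set H) (hY : Subgroup.closure Y = ⊤)
    (hsq : ∀ y ∈ Y, y ^ 2 = 1) : SqComm H :=
  SqComm.of_closure Y hY fun y hy => by rw [hsq y hy]; exact one_mem _

end basic

section subgroup
variable {G : Type*} [Group G]

/-- for a subgroup: the squares lie in `⁅U, U⁆` -/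
theorem sqComm_subgroup_iff (U : Subgroup G) : SqComm U ↔ ∀ x ∈ U, x ^ 2 ∈ ⁅U, U⁆ := by
  constructor
  · intro h x hx
    have h1 := h ⟨x, hx⟩
    have h2 : U.subtype (⟨x, hx⟩ ^ 2) ∈ (commutator U).map U.subtype :=
      Subgroup.mem_map_of_mem _ h1
    rw [Subgroup.map_subtype_commutator] at h2
    simpa using h2
  · intro h x
    have h1 := h x.1 x.2
    rw [← Subgroup.map_subtype_commutator] at h1
    obtain ⟨y, hy, hyx⟩ := h1
    have : y = x ^ 2 := Subtype.ext (by simpa using hyx)
    rw [← this]
    exact hy

/-- a subgroup generated by a set of elements whose squares lie in its derived subgroup -/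
theorem sqComm_of_closure (U : Subgroup G) (Y : Set G) (hY : Subgroup.closure Y = U)
    (hsq : ∀ y ∈ Y, y ^ 2 ∈ ⁅U, U⁆) : SqComm U := by
  have hYU : Y ⊆ U := by rw [← hY]; exact Subgroup.subset_closure
  refine SqComm.of_closure (U.subtype ⁻¹' Y) ?_ ?_
  · have h1 : (Subgroup.closure (U.subtype ⁻¹' Y)).map U.subtype = U := by
      rw [MonoidHom.map_closure, Set.image_preimage_eq_of_subset]
      · exact hY
      · rw [Subgroup.coe_subtype, Subtype.range_coe]
        exact hYU
    apply Subgroup.map_injective U.subtype_injective
    rw [h1, ← MonoidHom.range_eq_map, Subgroup.range_subtype]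
  · intro y hy
    have h1 := hsq y.1 hy
    rw [← Subgroup.map_subtype_commutator] at h1
    obtain ⟨z, hz, hzy⟩ := h1
    have : z = y ^ 2 := Subtype.ext (by simpa using hzy)
    rw [← this]
    exact hz

/-- a subgroup generated by involutions -/
theorem sqComm_of_closure_involutions (U : Subgroup G) (Y : Set G)
    (hY : Subgroup.closure Y = U) (hsq : ∀ y ∈ Y, y ^ 2 = 1) : SqComm U :=
  sqComm_of_closure U Y hY fun y hy => by rw [hsq y hy]; exact one_mem _

/-- equal subgroups -/
theorem sqComm_congr {U V : Subgroup G} (h : U = V) (hU : SqComm U) : SqComm V := by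
  subst h; exact hU

end subgroup

section sylow
variable {G G' : Type*} [Group G] [Group G'] {p : ℕ} [Fact p.Prime]

/-- if one Sylow subgroup has the property then all do -/
theorem sylow_all_of_one [Finite G] (P₀ : Sylow p G) (h : SqComm (P₀ : Subgroup G))
    (P : Sylow p G) : SqComm (P : Subgroup G) := by
  obtain ⟨g, rfl⟩ := MulAction.exists_smul_eq G P₀ P
  exact h.of_mulEquiv (P₀.equivSMul g)

/-- a `p`-subgroup of the right order with the property: then all Sylow subgroups have it -/
theorem sylow_all_of_card [Finite G] (U : Subgroup G)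
    (hcard : Nat.card U = p ^ (Nat.card G).factorization p) (h : SqComm U) (P : Sylow p G) :
    SqComm (P : Subgroup G) :=
  sylow_all_of_one (Sylow.ofCard U hcard) h P

/-- a `p`-subgroup of index prime to `p` with the property: then all Sylow subgroups have it -/
theorem sylow_all_of_index [Finite G] (U : Subgroup G) (hU : IsPGroup p U) (hidx : ¬ p ∣ U.index)
    (h : SqComm U) (P : Sylow p G) : SqComm (P : Subgroup G) :=
  sylow_all_of_one (hU.toSylow hidx) (by rw [IsPGroup.toSylow_coe]; exact h) P

/-- the property passes to the Sylow subgroups of a homomorphic image -/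
theorem sylow_all_of_surjective [Finite G] (f : G →* G') (hf : Function.Surjective f)
    (h : ∀ P : Sylow p G, SqComm (P : Subgroup G)) (P' : Sylow p G') :
    SqComm (P' : Subgroup G') := by
  obtain ⟨P, rfl⟩ := Sylow.mapSurjective_surjective hf p P'
  rw [Sylow.coe_mapSurjective]
  have hs : Function.Surjective ((f.subgroupMap (P : Subgroup G))) :=
    f.subgroupMap_surjective _
  exact (h P).of_surjective _ hs

/-- the property for the Sylow subgroups passes along an isomorphism -/
theorem sylow_all_of_mulEquiv [Finite G'] (e : G ≃* G')
    (h : ∀ P' : Sylow p G', SqComm (P' : Subgroup G')) (P : Sylow p G) :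
    SqComm (P : Subgroup G) :=
  sylow_all_of_surjective e.symm.toMonoidHom e.symm.surjective h P

end sylow

end Cfsg.Agent.Helper51.SQ
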