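-- helper51: counting lemmas for `cnt (vec3 ..)` (shared by my pieces (D1),(D2a),(D2b),(D2c) of helper13's S5965).
import Mathlib
import Cfsg.Agent.Helper13.SubOddDefs

set_option autoImplicit false
set_option linter.unnecessarySeqFocus false

namespace Cfsg.Agent.Helper51.SubOddCnt

open Cfsg.Agent.Helper13.SubOdd

theorem cnt_eq_sum {n r : ℕ} (a : Fin n → ZMod r) (j : ZMod r) :
    cnt a j = ∑ i : Fin n, if a i = j then 1 else 0 := by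
  unfold cnt
  rw [Finset.card_filter]

theorem vec3_zero (m r : ℕ) (v₀ v₁ v₂ : ZMod r) : vec3 (m + 3) r v₀ v₁ v₂ 0 = v₀ := by
  unfold vec3
  simp

theorem vec3_one (m r : ℕ) (v₀ v₁ v₂ : ZMod r) :
    vec3 (m + 3) r v₀ v₁ v₂ (Fin.succ 0) = v₁ := by
  unfold vec3
  simp

theorem vec3_two (m r : ℕ) (v₀ v₁ v₂ : ZMod r) :
    vec3 (m + 3) r v₀ v₁ v₂ (Fin.succ (Fin.succ 0)) = v₂ := by
  unfold vec3
  have h : ((Fin.succ (Fin.succ (0 : Fin (m + 1))) : Fin (m + 3)) : ℕ) = 2 := rfl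
  simp only [h]
  norm_num

theorem vec3_rest (m r : ℕ) (v₀ v₁ v₂ : ZMod r) (i : Fin m) :
    vec3 (m + 3) r v₀ v₁ v₂ (Fin.succ (Fin.succ (Fin.succ i))) = 0 := by
  unfold vec3
  simp

/-- the counting function of `(v₀, v₁, v₂, 0, …, 0)` -/
theorem cnt_vec3 {n : ℕ} (hn : 3 ≤ n) (r : ℕ) (v₀ v₁ v₂ j : ZMod r) :
    cnt (vec3 n r v₀ v₁ v₂) j = (if v₀ = j then 1 else 0) + (if v₁ = j then 1 else 0) +
      (if v₂ = j then 1 else 0) + (if (0 : ZMod r) = j then n - 3 else 0) := by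
  obtain ⟨m, rfl⟩ : ∃ m, n = m + 3 := ⟨n - 3, by omega⟩
  rw [cnt_eq_sum, Fin.sum_univ_succ, Fin.sum_univ_succ, Fin.sum_univ_succ]
  simp only [vec3_zero, vec3_one, vec3_two, vec3_rest]
  rw [Finset.sum_const, Finset.card_univ, Fintype.card_fin, smul_eq_mul, Nat.add_sub_cancel]
  split_ifs <;> simp <;> omega

/-- the counting function of `(v₀, v₁, 0, …, 0)` -/
theorem cnt_vec3_two {n : ℕ} (hn : 2 ≤ n) (r : ℕ) (v₀ v₁ j : ZMod r) :
    cnt (vec3 n r v₀ v₁ 0) j = (if v₀ = j then 1 else 0) + (if v₁ = j then 1 else 0) +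
      (if (0 : ZMod r) = j then n - 2 else 0) := by
  obtain ⟨m, rfl⟩ : ∃ m, n = m + 2 := ⟨n - 2, by omega⟩
  rw [cnt_eq_sum, Fin.sum_univ_succ, Fin.sum_univ_succ]
  have h0 : vec3 (m + 2) r v₀ v₁ 0 0 = v₀ := by
    unfold vec3
    simp
  have h1 : vec3 (m + 2) r v₀ v₁ 0 (Fin.succ 0) = v₁ := by
    unfold vec3
    simp
  have h2 : ∀ i : Fin m, vec3 (m + 2) r v₀ v₁ 0 (Fin.succ (Fin.succ i)) = 0 := by
    intro i
    unfold vec3
    simp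
  simp only [h0, h1, h2]
  rw [Finset.sum_const, Finset.card_univ, Fintype.card_fin, smul_eq_mul, Nat.add_sub_cancel]
  split_ifs <;> simp <;> omega

theorem sum_vec3 {n : ℕ} (hn : 3 ≤ n) (r : ℕ) (v₀ v₁ v₂ : ZMod r) :
    ∑ i, vec3 n r v₀ v₁ v₂ i = v₀ + v₁ + v₂ := by
  obtain ⟨m, rfl⟩ : ∃ m, n = m + 3 := ⟨n - 3, by omega⟩
  rw [Fin.sum_univ_succ, Fin.sum_univ_succ, Fin.sum_univ_succ]
  simp only [vec3_zero, vec3_one, vec3_two, vec3_rest]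
  rw [Finset.sum_const_zero]
  ring

theorem sum_vec3_two {n : ℕ} (hn : 2 ≤ n) (r : ℕ) (v₀ v₁ : ZMod r) :
    ∑ i, vec3 n r v₀ v₁ 0 i = v₀ + v₁ := by
  obtain ⟨m, rfl⟩ : ∃ m, n = m + 2 := ⟨n - 2, by omega⟩
  rw [Fin.sum_univ_succ, Fin.sum_univ_succ]
  have h0 : vec3 (m + 2) r v₀ v₁ 0 0 = v₀ := by
    unfold vec3
    simp
  have h1 : vec3 (m + 2) r v₀ v₁ 0 (Fin.succ 0) = v₁ := by
    unfold vec3
    simp
  have h2 : ∀ i : Fin m, vec3 (m + 2) r v₀ v₁ 0 (Fin.succ (Fin.succ i)) = 0 := by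
    intro i
    unfold vec3
    simp
  simp only [h0, h1, h2]
  rw [Finset.sum_const_zero]
  ring

theorem two_ne_zero_of_prime (r : ℕ) [Fact r.Prime] (hr2 : r ≠ 2) : (2 : ZMod r) ≠ 0 := by
  intro h
  have h' : ((2 : ℕ) : ZMod r) = 0 := by exact_mod_cast h
  rw [ZMod.natCast_eq_zero_iff] at h'
  exact hr2 ((Nat.prime_dvd_prime_iff_eq Fact.out Nat.prime_two).1 h')

theorem three_ne_zero_of_prime (r : ℕ) [Fact r.Prime] (hr3 : r ≠ 3) : (3 : ZMod r) ≠ 0 := by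
  intro h
  have h' : ((3 : ℕ) : ZMod r) = 0 := by exact_mod_cast h
  rw [ZMod.natCast_eq_zero_iff] at h'
  exact hr3 ((Nat.prime_dvd_prime_iff_eq Fact.out Nat.prime_three).1 h')

theorem one_ne_zero_of_prime (r : ℕ) [Fact r.Prime] : (1 : ZMod r) ≠ 0 := one_ne_zero

end Cfsg.Agent.Helper51.SubOddCnt
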