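-- helper51: piece (D1) of helper13's S5965.
import Mathlib
import Cfsg.Agent.Helper13.SubOddDefs
import Cfsg.Agent.Helper51.SubOddCnt

set_option autoImplicit false

namespace Cfsg.Agent.Helper51.SubOddD1

open Cfsg.Agent.Helper13.SubOdd Cfsg.Agent.Helper51.SubOddCnt

variable {n : ℕ}

theorem zmod_two_aux : ∀ e : ZMod 2, e ≠ 1 → e ≠ 0 → False := by decide

/-- (D1) -/
theorem cnt_vec3_D1 (hn : 2 ≤ n) (r : ℕ) [Fact r.Prime] (k : ℕ) (hk : Odd k) (e : ZMod r)
    (he1 : e ≠ 1) (hek : e ^ k = 1) :
    ¬ ∃ c : ZMod r, ∀ j, cnt (vec3 n r 1 (-1) 0) (e * j + c) = cnt (vec3 n r 1 (-1) 0) j := by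
  rintro ⟨c, hc⟩
  have hk0 : k ≠ 0 := by
    rintro rfl
    exact absurd hk (by decide)
  have he0 : e ≠ 0 := by
    rintro rfl
    rw [zero_pow hk0] at hek
    exact zero_ne_one hek
  have hem1 : e ≠ -1 := by
    rintro rfl
    rw [Odd.neg_one_pow hk] at hek
    exact he1 hek
  have h2 : (2 : ZMod r) ≠ 0 := by
    by_cases hr2 : r = 2
    · subst hr2
      exfalso
      exact zmod_two_aux e he1 he0
    · exact two_ne_zero_of_prime r hr2
  have h2e : (2 : ZMod r) * e ≠ 0 := mul_ne_zero h2 he0
  -- the support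
  have hmem : ∀ x : ZMod r, 1 ≤ cnt (vec3 n r 1 (-1) 0) x → x = 1 ∨ x = -1 ∨ x = 0 := by
    intro x hx
    rw [cnt_vec3_two hn] at hx
    by_contra hne
    rw [not_or, not_or] at hne
    rw [if_neg (Ne.symm hne.1), if_neg (Ne.symm hne.2.1), if_neg (Ne.symm hne.2.2)] at hx
    omega
  have hpos1 : 1 ≤ cnt (vec3 n r 1 (-1) 0) 1 := by
    rw [cnt_vec3_two hn, if_pos rfl]
    omega
  have hposm1 : 1 ≤ cnt (vec3 n r 1 (-1) 0) (-1) := by
    rw [cnt_vec3_two hn, if_pos rfl]
    omega
  have hA : e + c = 1 ∨ e + c = -1 ∨ e + c = 0 := by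
    apply hmem
    have := hc 1
    rw [mul_one] at this
    rw [this]
    exact hpos1
  have hB : -e + c = 1 ∨ -e + c = -1 ∨ -e + c = 0 := by
    apply hmem
    have := hc (-1)
    rw [mul_neg, mul_one] at this
    rw [this]
    exact hposm1
  -- if `0` is hit, then `c` is in the support
  have hC : (e + c = 0 ∨ -e + c = 0) → (c = 1 ∨ c = -1 ∨ c = 0) := by
    intro h0
    apply hmem
    have h := hc 0
    rw [mul_zero, zero_add] at h
    rw [h]
    rcases h0 with h0 | h0
    · have := hc 1
      rw [mul_one, h0] at this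
      rw [this]
      exact hpos1
    · have := hc (-1)
      rw [mul_neg, mul_one, h0] at this
      rw [this]
      exact hposm1
  rcases hA with hA | hA | hA <;> rcases hB with hB | hB | hB
  · exact h2e (by linear_combination hA - hB)
  · exact he1 (mul_left_cancel₀ h2 (by linear_combination hA - hB))
  · have hce : c = e := by linear_combination hB
    rcases hC (Or.inr hB) with h | h | h
    · exact he1 (hce ▸ h)
    · exact hem1 (hce ▸ h)
    · exact he0 (hce ▸ h)
  · exact hem1 (mul_left_cancel₀ h2 (by linear_combination hA - hB))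
  · exact h2e (by linear_combination hA - hB)
  · have hce : c = e := by linear_combination hB
    rcases hC (Or.inr hB) with h | h | h
    · exact he1 (hce ▸ h)
    · exact hem1 (hce ▸ h)
    · exact he0 (hce ▸ h)
  · have hce : e = -c := by linear_combination hA
    rcases hC (Or.inl hA) with h | h | h
    · exact hem1 (by rw [hce, h])
    · exact he1 (by rw [hce, h, neg_neg])
    · exact he0 (by rw [hce, h, neg_zero])
  · have hce : e = -c := by linear_combination hA
    rcases hC (Or.inl hA) with h | h | h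
    · exact hem1 (by rw [hce, h])
    · exact he1 (by rw [hce, h, neg_neg])
    · exact he0 (by rw [hce, h, neg_zero])
  · exact h2e (by linear_combination hA - hB)

end Cfsg.Agent.Helper51.SubOddD1
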