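-- helper51: piece (D2a) + (VEC) of helper13's S5965.
import Mathlib
import Cfsg.Agent.Helper13.SubOddDefs
import Cfsg.Agent.Helper51.SubOddCnt

set_option autoImplicit false

namespace Cfsg.Agent.Helper51.SubOddD2a

open Cfsg.Agent.Helper13.SubOdd Cfsg.Agent.Helper51.SubOddCnt

variable {n : ℕ}

/-- (VEC) -/
theorem sum_vec3 (hn : 3 ≤ n) (r : ℕ) (v₀ v₁ v₂ : ZMod r) :
    ∑ i, vec3 n r v₀ v₁ v₂ i = v₀ + v₁ + v₂ :=
  Cfsg.Agent.Helper51.SubOddCnt.sum_vec3 hn r v₀ v₁ v₂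

theorem sum_vec3_two (hn : 2 ≤ n) (r : ℕ) (v₀ v₁ : ZMod r) :
    ∑ i, vec3 n r v₀ v₁ 0 i = v₀ + v₁ :=
  Cfsg.Agent.Helper51.SubOddCnt.sum_vec3_two hn r v₀ v₁

/-- (D2a) -/
theorem cnt_vec3_D2a (hn : 3 ≤ n) (r : ℕ) [Fact r.Prime] (hr2 : r ≠ 2) :
    ¬ ∃ c : ZMod r, ∀ j, cnt (vec3 n r 1 0 0) (-1 * j + c) = cnt (vec3 n r 1 0 0) j := by
  rintro ⟨c, hc⟩
  have h10 : (1 : ZMod r) ≠ 0 := one_ne_zero
  have h2 := two_ne_zero_of_prime r hr2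
  have hm1 : (-1 : ZMod r) ≠ 1 := by
    intro h
    apply h2
    linear_combination -h
  have hm0 : (-1 : ZMod r) ≠ 0 := neg_ne_zero.2 h10
  -- `c = 0`
  have hc0 : c = 0 := by
    have h := hc 0
    rw [cnt_vec3 hn, cnt_vec3 hn] at h
    simp only [mul_zero, zero_add, if_neg h10, if_true] at h
    by_contra hne
    rw [if_neg (Ne.symm hne)] at h
    split_ifs at h <;> omega
  subst hc0
  have h := hc 1
  rw [cnt_vec3 hn, cnt_vec3 hn] at h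
  simp only [mul_one, add_zero, if_true, if_neg (Ne.symm hm1), if_neg (Ne.symm hm0),
    if_neg (Ne.symm h10)] at h
  omega

end Cfsg.Agent.Helper51.SubOddD2a
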