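-- helper51: piece (D2b) of helper13's S5965.
import Mathlib
import Cfsg.Agent.Helper13.SubOddDefs
import Cfsg.Agent.Helper51.SubOddCnt

set_option autoImplicit false

namespace Cfsg.Agent.Helper51.SubOddD2b

open Cfsg.Agent.Helper13.SubOdd Cfsg.Agent.Helper51.SubOddCnt

variable {n : ℕ}

/-- (D2b) -/
theorem cnt_vec3_D2b (hn : 7 ≤ n) (r : ℕ) [Fact r.Prime] (hr5 : 5 ≤ r) :
    ¬ ∃ c : ZMod r, ∀ j, cnt (vec3 n r 1 2 (-3)) (-1 * j + c) = cnt (vec3 n r 1 2 (-3)) j := by
  rintro ⟨c, hc⟩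
  have hn3 : 3 ≤ n := by omega
  have h10 : (1 : ZMod r) ≠ 0 := one_ne_zero
  have h2 : (2 : ZMod r) ≠ 0 := two_ne_zero_of_prime r (by omega)
  have h3 : (3 : ZMod r) ≠ 0 := three_ne_zero_of_prime r (by omega)
  have hm30 : (-3 : ZMod r) ≠ 0 := neg_ne_zero.2 h3
  -- `c = 0`
  have hc0 : c = 0 := by
    have h := hc 0
    rw [cnt_vec3 hn3, cnt_vec3 hn3] at h
    simp only [mul_zero, zero_add, if_neg h10, if_neg h2, if_neg hm30, if_true] at h
    by_contra hne
    rw [if_neg (Ne.symm hne)] at h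
    split_ifs at h <;> omega
  subst hc0
  have h := hc 1
  rw [cnt_vec3 hn3, cnt_vec3 hn3] at h
  have e1 : ¬ (1 : ZMod r) = -1 * 1 + 0 := by
    intro h'
    apply h2
    linear_combination h'
  have e2 : ¬ (2 : ZMod r) = -1 * 1 + 0 := by
    intro h'
    apply h3
    linear_combination h'
  have e3 : ¬ (-3 : ZMod r) = -1 * 1 + 0 := by
    intro h'
    apply h2
    linear_combination -h'
  have e4 : ¬ (0 : ZMod r) = -1 * 1 + 0 := by
    intro h'
    apply h10
    linear_combination h'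
  simp only [if_neg e1, if_neg e2, if_neg e3, if_neg e4, if_true, if_neg (Ne.symm h10)] at h
  split_ifs at h <;> omega

end Cfsg.Agent.Helper51.SubOddD2b
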