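-- helper51: piece (D2c) of helper13's S5965.
import Mathlib
import Cfsg.Agent.Helper13.SubOddDefs
import Cfsg.Agent.Helper51.SubOddCnt

set_option autoImplicit false

namespace Cfsg.Agent.Helper51.SubOddD2c

open Cfsg.Agent.Helper13.SubOdd Cfsg.Agent.Helper51.SubOddCnt

variable {n : ℕ}

/-- (D2c) -/
theorem cnt_vec3_D2c (hn : 7 ≤ n) :
    ¬ ∃ c : ZMod 3, ∀ j, cnt (vec3 n 3 1 1 1) (-1 * j + c) = cnt (vec3 n 3 1 1 1) j := by
  rintro ⟨c, hc⟩
  have hn3 : 3 ≤ n := by omega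
  have h0 := hc 0
  have h1 := hc 1
  rw [cnt_vec3 hn3, cnt_vec3 hn3] at h0 h1
  have hall : ∀ c : ZMod 3, c = 0 ∨ c = 1 ∨ c = 2 := by decide
  have hcases := hall c
  rcases hcases with rfl | rfl | rfl
  · have e1 : ¬ (1 : ZMod 3) = -1 * 1 + 0 := by decide
    have e2 : ¬ (0 : ZMod 3) = -1 * 1 + 0 := by decide
    have e3 : ¬ (0 : ZMod 3) = 1 := by decide
    simp only [if_neg e1, if_neg e2, if_neg e3, if_true] at h1
    omega
  · have e1 : (1 : ZMod 3) = -1 * 0 + 1 := by decide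
    have e2 : ¬ (0 : ZMod 3) = -1 * 0 + 1 := by decide
    have e3 : ¬ (1 : ZMod 3) = 0 := by decide
    simp only [if_pos e1, if_neg e2, if_neg e3, if_true] at h0
    omega
  · have e1 : ¬ (1 : ZMod 3) = -1 * 0 + 2 := by decide
    have e2 : ¬ (0 : ZMod 3) = -1 * 0 + 2 := by decide
    have e3 : ¬ (1 : ZMod 3) = 0 := by decide
    simp only [if_neg e1, if_neg e2, if_neg e3, if_true] at h0
    omega

end Cfsg.Agent.Helper51.SubOddD2c
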