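import Mathlib
import Cfsg.Agent.Helper2.CS2Defs

/-!
Helper51: piece (P0b) of helper2's S4284 plan (class sizes `{1, m, mn}`): Sylow counting lemmas.
-/

set_option autoImplicit false
set_option linter.unusedVariables false

namespace Cfsg.Agent.Helper51.CS2

open Cfsg.Agent.Helper2.CS2 Subgroup

variable {G : Type*} [Group G] {m n : ℕ}

/-- `idx x = 1` iff `x` is central -/
theorem idx_eq_one_iff' (x : G) : idx x = 1 ↔ x ∈ center G := by
  unfold idx
  rw [Subgroup.index_eq_one, Subgroup.mem_center_iff]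
  constructor
  · intro h g
    have : g ∈ centralizer ({x} : Set G) := by rw [h]; exact mem_top g
    exact (mem_centralizer_singleton_iff.mp this)
  · intro h
    rw [eq_top_iff]
    intro g _
    exact mem_centralizer_singleton_iff.mpr (h g)

/-- the `t`-adic valuation of `|G|` splits along a subgroup -/
theorem factorization_card_eq [Finite G] (K : Subgroup G) (t : ℕ) :
    (Nat.card G).factorization t = (Nat.card K).factorization t + K.index.factorization t := by
  have h0 : Nat.card K ≠ 0 := Nat.card_pos.ne'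
  have h1 : K.index ≠ 0 := Subgroup.index_ne_zero_of_finite
  rw [← K.card_mul_index, Nat.factorization_mul h0 h1]
  rfl

theorem card_sylow_Cn [Finite G] {t : ℕ} [Fact t.Prime] (y : G) (Q : Sylow t (Cn y)) (T : Sylow t G) :
    Nat.card Q * t ^ (idx y).factorization t = Nat.card T := by
  rw [Sylow.card_eq_multiplicity, Sylow.card_eq_multiplicity, ← pow_add,
    factorization_card_eq (Cn y) t]

/-- if a subgroup `K` contains a Sylow `t`-subgroup then `t` does not divide its index -/
theorem not_dvd_index_of_sylow_le [Finite G] {t : ℕ} [Fact t.Prime] (T : Sylow t G) (K : Subgroup G)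
    (h : (T : Subgroup G) ≤ K) : ¬ t ∣ K.index := by
  have hp : t.Prime := Fact.out
  have h1 : Nat.card T ∣ Nat.card K := Subgroup.card_dvd_of_le h
  rw [Sylow.card_eq_multiplicity] at h1
  have h0 : Nat.card K ≠ 0 := Nat.card_pos.ne'
  have h2 : (Nat.card G).factorization t ≤ (Nat.card K).factorization t :=
    (hp.pow_dvd_iff_le_factorization h0).mp h1
  have h3 := factorization_card_eq K t
  have h4 : K.index.factorization t = 0 := by omega
  intro hdvd
  have h5 : 1 ≤ K.index.factorization t :=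
    (hp.dvd_iff_one_le_factorization Subgroup.index_ne_zero_of_finite).mp hdvd
  omega

/-- `Z(T) ≤ Z(G)` for a Sylow `t`-subgroup, `t ∣ m` -/
theorem Hyp.sylow_center_le [Finite G] (h : Hyp G m n) {t : ℕ} [Fact t.Prime] (ht : t ∣ m) (T : Sylow t G)
    {z : G} (hz : z ∈ (T : Subgroup G)) (hc : ∀ τ ∈ (T : Subgroup G), τ * z = z * τ) :
    z ∈ center G := by
  have hle : (T : Subgroup G) ≤ Cn z := fun τ hτ => mem_centralizer_singleton_iff.mpr (hc τ hτ)
  have hnd : ¬ t ∣ idx z := not_dvd_index_of_sylow_le T (Cn z) hle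
  rcases h.cases z with h1 | h1 | h1
  · exact (idx_eq_one_iff' z).mp h1
  · exact absurd (h1 ▸ ht) hnd
  · exact absurd (h1 ▸ Dvd.dvd.mul_right ht n) hnd

/-- `m` divides the index of the center -/
theorem Hyp.m_dvd_index_center (h : Hyp G m n) : m ∣ (center G).index := by
  obtain ⟨x, hx⟩ := h.ex_m
  have hle : center G ≤ Cn x := Subgroup.center_le_centralizer _
  have := Subgroup.index_dvd_of_le hle
  rwa [show (Cn x).index = idx x from rfl, hx] at this

theorem Hyp.sq_mul_card_dvd [Finite G] (h : Hyp G m n) {t : ℕ} [Fact t.Prime] (ht : t ∣ m) (T : Sylow t G) :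
    t ^ 2 * Nat.card ((T : Subgroup G) ⊓ center G : Subgroup G) ∣ Nat.card T := by
  classical
  have hp : t.Prime := Fact.out
  set Zt : Subgroup (T : Subgroup G) := (center G).subgroupOf (T : Subgroup G) with hZt
  -- `|Zt| = |T ⊓ Z|`
  have hcardZ : Nat.card Zt = Nat.card ((T : Subgroup G) ⊓ center G : Subgroup G) := by
    rw [hZt, ← Subgroup.inf_subgroupOf_left]
    exact Nat.card_congr (Subgroup.subgroupOfEquivOfLe inf_le_left).toEquiv
  have hmul : Nat.card Zt * Zt.index = Nat.card T := Zt.card_mul_index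
  -- the index is a power of `t`
  obtain ⟨k, hk⟩ : ∃ k : ℕ, Zt.index = t ^ k := by
    have h1 : Zt.index ∣ Nat.card T := Subgroup.index_dvd_card Zt
    rw [Sylow.card_eq_multiplicity] at h1
    obtain ⟨k, -, hk⟩ := (Nat.dvd_prime_pow hp).mp h1
    exact ⟨k, hk⟩
  by_cases hk2 : 2 ≤ k
  · rw [← hmul, ← hcardZ, hk, mul_comm]
    exact Nat.mul_dvd_mul_left _ (pow_dvd_pow t hk2)
  · exfalso
    -- the quotient `T / Zt` is cyclic, so `T` is abelian
    have hcyc : IsCyclic ((T : Subgroup G) ⧸ Zt) := by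
      have hc : Nat.card ((T : Subgroup G) ⧸ Zt) = t ^ k := by rw [← hk]; rfl
      interval_cases k
      · rw [pow_zero] at hc
        have : Subsingleton ((T : Subgroup G) ⧸ Zt) := (Nat.card_eq_one_iff_unique.mp hc).1
        exact isCyclic_of_subsingleton
      · rw [pow_one] at hc
        exact isCyclic_of_prime_card hc
    have hker : (QuotientGroup.mk' Zt).ker ≤ center (T : Subgroup G) := by
      rw [QuotientGroup.ker_mk']
      intro z hz
      rw [hZt, Subgroup.mem_subgroupOf] at hz
      rw [Subgroup.mem_center_iff]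
      intro g
      apply Subtype.ext
      simp only [Subgroup.coe_mul]
      exact Subgroup.mem_center_iff.mp hz g
    have hab : ∀ a b : (T : Subgroup G), a * b = b * a := fun a b =>
      ((QuotientGroup.mk' Zt).isMulCommutative_of_isCyclic_of_ker_le_center hker).is_comm.comm a b
    -- hence `T ≤ Z(G)`
    have hTZ : (T : Subgroup G) ≤ center G := by
      intro z hz
      refine Hyp.sylow_center_le h ht T hz (fun τ hτ => ?_)
      have := hab ⟨τ, hτ⟩ ⟨z, hz⟩
      exact congrArg Subtype.val this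
    exact not_dvd_index_of_sylow_le T (center G) hTZ (dvd_trans ht (Hyp.m_dvd_index_center h))

/-- a subgroup whose Sylow t-subgroup is bigger than the Sylow t-subgroup of Z contains a
noncentral t-element -/
theorem exists_pElt_of_card_lt [Finite G] {t : ℕ} [Fact t.Prime] (K : Subgroup G) (Q : Sylow t K)
    (T : Sylow t G)
    (hlt : Nat.card ((T : Subgroup G) ⊓ center G : Subgroup G) < Nat.card Q) :
    ∃ y ∈ K, IsPElt t y ∧ y ∉ center G := by
  by_contra hcon
  push Not at hcon
  -- the image of `Q` in `G`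
  set Q' : Subgroup G := (Q : Subgroup K).map K.subtype with hQ'
  have hQ'p : IsPGroup t Q' := Q.2.map K.subtype
  have hQ'Z : Q' ≤ center G := by
    rintro _ ⟨y, hy, rfl⟩
    apply hcon (y : G) y.2
    obtain ⟨k, hk⟩ := (IsPGroup.iff_orderOf.mp Q.2) ⟨y, hy⟩
    refine ⟨k, ?_⟩
    rw [← hk]
    rw [Subgroup.orderOf_coe]
    exact (Subgroup.orderOf_mk y hy).symm
  -- `Q'` is a normal `t`-subgroup, hence lies in `T`
  have hQ'n : Q'.Normal := by
    refine ⟨fun z hz g => ?_⟩
    have : g * z * g⁻¹ = z := by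
      have := Subgroup.mem_center_iff.mp (hQ'Z hz) g
      rw [this, mul_inv_cancel_right]
    rw [this]; exact hz
  have hQ'T : Q' ≤ (T : Subgroup G) := IsPGroup.le_sylow_of_normal hQ'p T
  have hle : Q' ≤ (T : Subgroup G) ⊓ center G := le_inf hQ'T hQ'Z
  have h1 : Nat.card Q' ≤ Nat.card ((T : Subgroup G) ⊓ center G : Subgroup G) :=
    Nat.le_of_dvd Nat.card_pos (Subgroup.card_dvd_of_le hle)
  have h2 : Nat.card Q' = Nat.card Q :=
    Subgroup.card_map_of_injective K.subtype_injective
  omega

/-- every t-element of a subgroup `K` lies in a Sylow t-subgroup `Q` of `K`, and `Q` (mapped to G)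
lies in a Sylow t-subgroup of `G` -/
theorem exists_sylow_ge [Finite G] {t : ℕ} [Fact t.Prime] (K : Subgroup G) {y : G} (hy : y ∈ K)
    (hyt : IsPElt t y) : ∃ (Q : Sylow t K) (T : Sylow t G),
      y ∈ (Q : Subgroup K).map K.subtype ∧ (Q : Subgroup K).map K.subtype ≤ (T : Subgroup G) := by
  obtain ⟨k, hk⟩ := hyt
  have hz : IsPGroup t (Subgroup.zpowers (⟨y, hy⟩ : K)) := by
    rw [IsPGroup.iff_card, Nat.card_zpowers, Subgroup.orderOf_mk, hk]
    exact ⟨k, rfl⟩
  obtain ⟨Q, hQ⟩ := hz.exists_le_sylow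
  obtain ⟨T, hT⟩ := (Q.2.map K.subtype).exists_le_sylow
  exact ⟨Q, T, ⟨⟨y, hy⟩, hQ (Subgroup.mem_zpowers _), rfl⟩, hT⟩

end Cfsg.Agent.Helper51.CS2
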