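/-
helper51: a generic chain lemma for a subsystem `E ≤ F` of a saturated fusion system.
* `guardSub`, `maps_of_big`: Alperin's theorem with a threshold: if the automorphisms of `S` and of
  the essential subgroups of order `> t` lie in `E`, then every map of `F` on a subgroup of order
  `> t` lies in `E`.
* `BadE F E Q`: a transportable witness that `N_F(Q) ⊄ E`: an automorphism of `F`, not in `E`, of a
  subgroup `M` with `Q ≤ M ≤ N_S(Q)`, carrying `Q` into itself.
* `chain`: climbing `R ↦ W (N_S(R'))` (`R'` a fully normalized conjugate of `R`).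
-/
import Mathlib
import Cfsg.Prelude.Def_FusionSystem
import Cfsg.Agent.S5082
import Cfsg.Agent.S5079
import Cfsg.Agent.Helper87.FusionFrobenius
import Cfsg.Agent.Helper87.FusionRS
import Cfsg.Agent.Helper2.FusGT1

set_option autoImplicit false

namespace Cfsg.Agent.Helper51.FusChain

open Cfsg Cfsg.FusionSystem Cfsg.Agent.Helper87

variable {Ω : Type*} [Group Ω] {S : Subgroup Ω}

/-- The guarded subsystem: all maps of `F` on subgroups of order `≤ t`, and the maps of `E ≤ F` on
subgroups of order `> t`. -/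
def guardSub [Finite S] (F E : FusionSystem S) (hEF : E ≤ F) (t : ℕ) : FusionSystem S where
  Hom P := {φ | φ ∈ F.Hom P ∧ (t < Nat.card P → φ ∈ E.Hom P)}
  le_of_mem h := F.le_of_mem h.1
  injective_of_mem h := F.injective_of_mem h.1
  conj_mem := by
    intro P g hP hg
    exact ⟨F.conj_mem hP hg, fun _ => E.conj_mem hP hg⟩
  comp_mem := by
    intro P Q φ ψ hφ hψ h
    refine ⟨F.comp_mem hφ.1 hψ.1 h, fun ht => ?_⟩
    have hQS : Q ≤ S := (F.le_of_mem hψ.1).1
    have : Finite Q := finite_of_le hQS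
    have hcard : Nat.card P ≤ Nat.card Q := by
      refine Nat.card_le_card_of_injective (φ.codRestrict Q h) ?_
      intro a b hab
      exact F.injective_of_mem hφ.1 (congrArg Subtype.val hab)
    exact E.comp_mem (hφ.2 ht) (hψ.2 (lt_of_lt_of_le ht hcard)) h
  inv_mem := by
    intro P φ hφ
    by_cases ht : t < Nat.card P
    · obtain ⟨ψ, hψ, hinv⟩ := E.inv_mem (hφ.2 ht)
      exact ⟨ψ, ⟨hEF _ hψ, fun _ => hψ⟩, hinv⟩
    · obtain ⟨ψ, hψ, hinv⟩ := F.inv_mem hφ.1
      refine ⟨ψ, ⟨hψ, fun ht' => ?_⟩, hinv⟩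
      exfalso
      apply ht
      have : Nat.card φ.range = Nat.card P :=
        (Nat.card_congr (MonoidHom.ofInjective (F.injective_of_mem hφ.1)).toEquiv).symm
      omega

/-- **Alperin's theorem with a threshold.** -/
theorem maps_of_big [Finite S] {p : ℕ} [Fact p.Prime] (hS : IsPGroup p S) (F : FusionSystem S)
    (hF : F.IsSaturated p) (E : FusionSystem S) (hEF : E ≤ F) (t : ℕ)
    (h : ∀ P : Subgroup Ω, (P = S ∨ F.IsEssential p P) → t < Nat.card P →
      ∀ α : MulAut P, IsIso F (α : P ≃* P) → IsIso E (α : P ≃* P)) :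
    ∀ (Q : Subgroup Ω) (φ : Q →* Ω), φ ∈ F.Hom Q → t < Nat.card Q → φ ∈ E.Hom Q := by
  have hle : F ≤ guardSub F E hEF t := by
    apply Cfsg.Agent.S5082.result p hS F hF
    intro P hP
    unfold autGroup
    apply Subgroup.closure_mono
    intro α hα
    have hαF : P.subtype.comp α.toMonoidHom ∈ F.Hom P := hα
    exact ⟨hαF, fun ht => h P hP ht α hαF⟩
  intro Q φ hφ ht
  exact (hle Q hφ).2 ht

/-- A witness that `N_F(Q) ⊄ E`. -/
def BadE (F E : FusionSystem S) (Q : Subgroup Ω) : Prop :=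
  ∃ (M : Subgroup Ω) (β : MulAut M), Q ≤ M ∧ M ≤ normalizerIn S Q ∧ IsIso F (β : M ≃* M) ∧
    (∀ x : M, (x : Ω) ∈ Q → ((β x : M) : Ω) ∈ Q) ∧ ¬ IsIso E (β : M ≃* M)

/-- Transport of a bad automorphism along a map of `E` defined on a subgroup containing `N_S(Q)`. -/
theorem BadE.transport (F E : FusionSystem S) (hEF : E ≤ F) {Q Q' X : Subgroup Ω} (hb : BadE F E Q)
    (hX : normalizerIn S Q ≤ X) {χ : X →* Ω} (hχ : χ ∈ E.Hom X) (hχN : ∀ x, χ x ∈ normalizerIn S Q')
    (hχQ : (Q.subgroupOf X).map χ = Q') : BadE F E Q' := by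
  obtain ⟨M, β, hQM, hMN, hβ, hβQ, hbad⟩ := hb
  have hMX : M ≤ X := hMN.trans hX
  have hχF : χ ∈ F.Hom X := hEF _ hχ
  have hχM : χ.comp (Subgroup.inclusion hMX) ∈ F.Hom M := restrict_mem F hχF hMX
  have hχME : χ.comp (Subgroup.inclusion hMX) ∈ E.Hom M := restrict_mem E hχ hMX
  set M' := (χ.comp (Subgroup.inclusion hMX)).range with hM'
  let e : M ≃* M' := isoOfRange F hχM rfl
  have he : IsIso F e := isIso_isoOfRange F hχM rfl
  have heE : IsIso E e := by
    unfold IsIso
    exact mem_of_eq E hχME (fun x => rfl)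
  have hex : ∀ m : M, ((e m : M') : Ω) = χ (Subgroup.inclusion hMX m) := fun m => rfl
  refine ⟨M', MulAut.congr e β, ?_, ?_, ?_, ?_, ?_⟩
  · rw [← hχQ]
    rintro _ ⟨x, hx, rfl⟩
    exact ⟨⟨x, hQM (Subgroup.mem_subgroupOf.mp hx)⟩, rfl⟩
  · rintro _ ⟨m, rfl⟩
    exact hχN _
  · exact he.symm.trans (hβ.trans he)
  · intro y hy
    rw [← hχQ] at hy
    obtain ⟨x, hx, hxy⟩ := hy
    have hxQ : (x : Ω) ∈ Q := Subgroup.mem_subgroupOf.mp hx
    have h1 : e.symm y = ⟨x, hQM hxQ⟩ := by
      apply e.injective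
      rw [MulEquiv.apply_symm_apply]
      apply Subtype.ext
      rw [hex, ← hxy]
      rfl
    show ((e (β (e.symm y)) : M') : Ω) ∈ Q'
    rw [h1, hex, ← hχQ]
    refine ⟨Subgroup.inclusion hMX (β ⟨x, hQM hxQ⟩), ?_, rfl⟩
    show _ ∈ Q.subgroupOf X
    rw [Subgroup.mem_subgroupOf]
    exact hβQ _ hxQ
  · intro hcon
    apply hbad
    have h1 : IsIso E (e.trans ((MulAut.congr e β : M' ≃* M').trans e.symm)) :=
      heE.trans (hcon.trans heE.symm)
    unfold IsIso at h1 ⊢
    refine mem_of_eq E h1 (fun x => ?_)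
    show ((β x : M) : Ω) = ((e.symm (e (β (e.symm (e x)))) : M) : Ω)
    rw [MulEquiv.symm_apply_apply, MulEquiv.symm_apply_apply]

/-- Moving a bad automorphism to a fully normalized conjugate, when the maps of `F` on the subgroups
of order `> t` lie in `E` and `|N_S(R)| > t`. -/
theorem BadE.transport_fn [Finite S] {p : ℕ} [Fact p.Prime] (hS : IsPGroup p S) (F : FusionSystem S)
    (hF : F.IsSaturated p) (E : FusionSystem S) (hEF : E ≤ F) {t : ℕ}
    (hbig : ∀ (Q : Subgroup Ω) (φ : Q →* Ω), φ ∈ F.Hom Q → t < Nat.card Q → φ ∈ E.Hom Q)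
    {R : Subgroup Ω} (hRS : R ≤ S) (hR1 : R ≠ ⊥) (hb : BadE F E R)
    (ht : t < Nat.card (normalizerIn S R)) :
    ∃ R' : Subgroup Ω, R' ≠ ⊥ ∧ F.IsFullyNormalized R' ∧ BadE F E R' ∧
      Nat.card (normalizerIn S R) ≤ Nat.card (normalizerIn S R') := by
  obtain ⟨R', hconj, hR'a, hR'r⟩ := hF _ hRS
  obtain ⟨χ, hχ, hχN, hχR⟩ := Cfsg.Agent.S5079.result p hS F R' _ hR'a hR'r hconj
  have hχE : χ ∈ E.Hom (normalizerIn S R) := hbig _ χ hχ ht
  have hbad' : BadE F E R' := hb.transport F E hEF le_rfl hχE hχN hχR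
  have hR'n := Cfsg.Agent.Helper2.FusGT.isFullyNormalized_of_automized_receptive hS F hR'a hR'r
  have hR'1 : R' ≠ ⊥ := by
    intro hR'
    apply hR1
    rw [hR', Subgroup.map_eq_bot_iff_of_injective _ (F.injective_of_mem hχ),
      Subgroup.subgroupOf_eq_bot] at hχR
    exact hχR.eq_bot_of_le (le_normalizerIn_self hRS)
  refine ⟨R', hR'1, hR'n, hbad', ?_⟩
  have : Finite (normalizerIn S R') := finite_of_le inf_le_left
  apply Nat.card_le_card_of_injective (fun x => (⟨χ x, hχN x⟩ : normalizerIn S R'))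
  intro a b hab
  exact F.injective_of_mem hχ (congrArg Subtype.val hab)

/-- **The chain lemma.** `W` assigns to subgroups `T ≤ S` subgroups `W T ≤ T`, nontrivial when `T`
is, normalized by `N_S(T)`.  If the maps of `F` on the subgroups of order `> t` lie in `E`, a bad
automorphism for a nontrivial fully normalized `R'` yields one for `W (N_S(R'))`, and there is none
for `W S`, then there is no bad automorphism for any nontrivial `R` with `|N_S(R)| > t`. -/
theorem chain [Finite S] {p : ℕ} [Fact p.Prime] (hS : IsPGroup p S) (F : FusionSystem S)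
    (hF : F.IsSaturated p) (E : FusionSystem S) (hEF : E ≤ F) (W : Subgroup Ω → Subgroup Ω)
    (hWle : ∀ T : Subgroup Ω, T ≤ S → W T ≤ T)
    (hWn : ∀ T : Subgroup Ω, T ≤ S → normalizerIn S T ≤ normalizerIn S (W T))
    (hW1 : ∀ T : Subgroup Ω, T ≤ S → T ≠ ⊥ → W T ≠ ⊥)
    (hstep : ∀ R' : Subgroup Ω, R' ≠ ⊥ → F.IsFullyNormalized R' → BadE F E R' →
      BadE F E (W (normalizerIn S R')))
    (htop : ¬ BadE F E (W S)) {t : ℕ}
    (hbig : ∀ (Q : Subgroup Ω) (φ : Q →* Ω), φ ∈ F.Hom Q → t < Nat.card Q → φ ∈ E.Hom Q) :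
    ∀ R : Subgroup Ω, R ≤ S → R ≠ ⊥ → t < Nat.card (normalizerIn S R) → ¬ BadE F E R := by
  have key : ∀ (d : ℕ) (R : Subgroup Ω), R ≤ S → R ≠ ⊥ → t < Nat.card (normalizerIn S R) →
      Nat.card S - Nat.card (normalizerIn S R) = d → ¬ BadE F E R := by
    intro d
    induction d using Nat.strong_induction_on with
    | _ d ih =>
    intro R hRS hR1 ht hd hb
    obtain ⟨R', hR'1, hR'n, hb', hcard⟩ := BadE.transport_fn hS F hF E hEF hbig hRS hR1 hb ht
    have hb2 := hstep R' hR'1 hR'n hb'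
    set T := normalizerIn S R' with hT
    have hTS : T ≤ S := inf_le_left
    have hR'T : R' ≤ T := le_normalizerIn_self hR'n.1
    have hT1 : T ≠ ⊥ := fun h => hR'1 (le_bot_iff.1 (h ▸ hR'T))
    by_cases hTeq : T = S
    · rw [hTeq] at hb2
      exact htop hb2
    · have hlt : T < S := lt_of_le_of_ne hTS hTeq
      have hfin1 : Finite (normalizerIn S T) := finite_of_le inf_le_left
      have hfin2 : Finite (normalizerIn S (W T)) := finite_of_le inf_le_left
      have hfin3 : Finite (normalizerIn S R) := finite_of_le inf_le_left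
      have hfin4 : Finite T := finite_of_le hTS
      have h1 : Nat.card T < Nat.card (normalizerIn S T) := card_lt_card_of_lt (lt_normalizerIn hS hlt)
      have h2 : Nat.card (normalizerIn S T) ≤ Nat.card (normalizerIn S (W T)) :=
        Subgroup.card_le_of_le (hWn T hTS)
      have h3 : Nat.card (normalizerIn S (W T)) ≤ Nat.card S := Subgroup.card_le_of_le inf_le_left
      have h4 : Nat.card (normalizerIn S R) ≤ Nat.card S := Subgroup.card_le_of_le inf_le_left
      refine ih (Nat.card S - Nat.card (normalizerIn S (W T))) (by omega) (W T)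
        ((hWle T hTS).trans hTS) (hW1 T hTS hT1) (by omega) rfl hb2
  intro R hRS hR1 ht
  exact key _ R hRS hR1 ht rfl

end Cfsg.Agent.Helper51.FusChain
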