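import Cfsg.Agent.Helper95.Hig.Basic
import Cfsg.Prelude.Def_Transfer
import Cfsg.Prelude.Def_BaumannBlocks

/-!
Helper51, piece (CMG) of the HIG farm (S3050, architect helper95, board #14698), second wave:
`cmg_of` is the statement of (CMG) with the verbatim statements of (TWI), (LMA), (FQ) as explicit
hypotheses (dependency rule of #14696).
-/

set_option autoImplicit false

namespace Cfsg.Agent.Helper51.Hig

open Cfsg.Agent.Helper40.SL2Hom
open Cfsg.Agent.Helper95.Hig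
open scoped commutatorElement

universe u v

section grp

/-- `D ≤ Q`, `Q` nilpotent, `D ≤ ⁅D, Q⁆` gives `D = ⊥` -/
theorem cmg_nilp' {G : Type v} [Group G] (Q D : Subgroup G) [hP : Group.IsNilpotent ↥Q]
    (hDQ : D ≤ Q) (hD : D ≤ ⁅D, Q⁆) : D = ⊥ := by
  have hall : ∀ n : ℕ, D ≤ Q.lowerCentralSeries n := by
    intro n
    induction n with
    | zero => rw [Subgroup.lowerCentralSeries_zero]; exact hDQ
    | succ n ih =>
      refine hD.trans ?_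
      rw [Subgroup.lowerCentralSeries_succ]
      exact Subgroup.commutator_mono ih le_rfl
  obtain ⟨n, hn⟩ := (Subgroup.isNilpotent_iff_lowerCentralSeries Q).mp hP
  rw [eq_bot_iff, ← hn]
  exact hall n

variable {G : Type v} [Group G]

theorem cmg_mem_map (Q M : Subgroup G) [M.Normal] (hMQ : M ≤ Q) (y : G) :
    (QuotientGroup.mk y : G ⧸ M) ∈ Q.map (QuotientGroup.mk' M) ↔ y ∈ Q := by
  constructor
  · rintro ⟨q, hq, hqy⟩
    have h1 : q⁻¹ * y ∈ M := by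
      rw [← QuotientGroup.eq]
      exact hqy
    have : y = q * (q⁻¹ * y) := by group
    rw [this]
    exact Q.mul_mem hq (hMQ h1)
  · intro hy
    exact ⟨y, hy, rfl⟩

/-- (CMG) with (TWI), (LMA), (FQ) as explicit hypotheses -/
theorem cmg_of
    (htwi : ∀ {G : Type v} [Group G] [Finite G] (Q : Subgroup G) [Q.Normal] (_ : IsPGroup 2 ↥Q)
      (_ : ∀ a ∈ Q, ∀ b ∈ Q, ∀ c ∈ Q, cm (cm a b) c = 1)
      (_ : ∀ g : G, orderOf g = 3 → ∀ y ∈ Q, g * y * g⁻¹ = y → y = 1)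
      (σ : G) (_ : orderOf σ = 3),
      ∀ y ∈ Q, ∀ z ∈ Q, cm (σ * y * σ⁻¹) z = σ⁻¹ * cm y z * σ)
    (hlma : ∀ {G : Type v} [Group G] [Finite G] (Q : Subgroup G) [Q.Normal]
      (_ : ∀ a ∈ Q, ∀ b ∈ Q, ∀ c ∈ Q, cm (cm a b) c = 1)
      (_ : ∀ g : G, orderOf g = 3 → ∀ y ∈ Q, g * y * g⁻¹ = y → y = 1)
      (_ : ∀ σ : G, orderOf σ = 3 → ∀ y ∈ Q, ∀ z ∈ Q, cm (σ * y * σ⁻¹) z = σ⁻¹ * cm y z * σ)
      (_ : IsSimpleGroup (G ⧸ Q))
      (x : G) (_ : orderOf x = 3) (_ : x ∉ Q) (t : G) (_ : t ∉ Q) (_ : t * t ∈ Q),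
      ∀ a ∈ Q, ∀ b ∈ Q, a * b = b * a)
    (hfq : ∀ {G : Type v} [Group G] [Finite G] (Q M : Subgroup G) [Q.Normal] [M.Normal] (_ : M ≤ Q)
      (_ : IsPGroup 2 ↥Q)
      (_ : ∀ g : G, orderOf g = 3 → ∀ y ∈ Q, g * y * g⁻¹ = y → y = 1),
      ∀ g : G ⧸ M, orderOf g = 3 → ∀ y ∈ Q.map (QuotientGroup.mk' M), g * y * g⁻¹ = y → y = 1)
    [Finite G] (Q : Subgroup G) [hn : Q.Normal] (hQ : IsPGroup 2 ↥Q)
    (hfpf : ∀ g : G, orderOf g = 3 → ∀ y ∈ Q, g * y * g⁻¹ = y → y = 1)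
    (hsimple : IsSimpleGroup (G ⧸ Q))
    (x : G) (hx : orderOf x = 3) (t : G) (htQ : t ∉ Q) (ht2 : t * t ∈ Q) :
    ∀ a ∈ Q, ∀ b ∈ Q, a * b = b * a := by
  classical
  -- `D = ⁅Q,Q⁆`, `M = ⁅D,Q⁆`
  set D : Subgroup G := ⁅Q, Q⁆ with hD
  set M : Subgroup G := ⁅D, Q⁆ with hM
  have hDn : D.Normal := Subgroup.commutator_normal Q Q
  have hMn : M.Normal := Subgroup.commutator_normal D Q
  have hDQ : D ≤ Q := Subgroup.commutator_le_right Q Q
  have hMD : M ≤ D := Subgroup.commutator_le_left D Q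
  have hMQ : M ≤ Q := hMD.trans hDQ
  -- `x ∉ Q`
  have hxQ : x ∉ Q := by
    intro hxq
    obtain ⟨k, hk⟩ := hQ ⟨x, hxq⟩
    have hk' : x ^ 2 ^ k = 1 := by
      have := congrArg (fun z : ↥Q => (z : G)) hk
      simpa using this
    have hdvd : 3 ∣ 2 ^ k := by
      rw [← hx]; exact orderOf_dvd_of_pow_eq_one hk'
    have h32 : (3 : ℕ) ∣ 2 := Nat.Prime.dvd_of_dvd_pow (by norm_num) hdvd
    omega
  -- the quotient
  set Qb : Subgroup (G ⧸ M) := Q.map (QuotientGroup.mk' M) with hQb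
  have hQbn : Qb.Normal := Subgroup.Normal.map hn _ (QuotientGroup.mk'_surjective M)
  have hQbp : IsPGroup 2 ↥Qb := IsPGroup.map hQ _
  have hmemb : ∀ y : G, (QuotientGroup.mk y : G ⧸ M) ∈ Qb ↔ y ∈ Q := cmg_mem_map Q M hMQ
  have hcm_mk : ∀ a b : G, cm (QuotientGroup.mk a : G ⧸ M) (QuotientGroup.mk b) =
      QuotientGroup.mk (cm a b) := by
    intro a b
    simp only [cm_def, QuotientGroup.mk_mul, QuotientGroup.mk_inv]
  -- class ≤ 2
  have hclb : ∀ a ∈ Qb, ∀ b ∈ Qb, ∀ c ∈ Qb, cm (cm a b) c = 1 := by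
    rintro _ ⟨a, ha, rfl⟩ _ ⟨b, hb, rfl⟩ _ ⟨c, hc, rfl⟩
    show cm (cm (QuotientGroup.mk a : G ⧸ M) (QuotientGroup.mk b)) (QuotientGroup.mk c) = 1
    rw [hcm_mk, hcm_mk, QuotientGroup.eq_one_iff]
    have h1 : cm a b ∈ D := by
      rw [cm_def, ← commutatorElement_def]
      exact Subgroup.commutator_mem_commutator ha hb
    rw [cm_def, ← commutatorElement_def]
    exact Subgroup.commutator_mem_commutator h1 hc
  have hfpfb := hfq Q M hMQ hQ hfpf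
  have htwib : ∀ σ : G ⧸ M, orderOf σ = 3 → ∀ y ∈ Qb, ∀ z ∈ Qb,
      cm (σ * y * σ⁻¹) z = σ⁻¹ * cm y z * σ := fun σ hσ => htwi Qb hQbp hclb hfpfb σ hσ
  have hsimpleb : IsSimpleGroup ((G ⧸ M) ⧸ Qb) :=
    (QuotientGroup.quotientQuotientEquivQuotient M Q hMQ).isSimpleGroup
  have hxb : (QuotientGroup.mk x : G ⧸ M) ∉ Qb := fun h => hxQ ((hmemb x).mp h)
  have hxb3 : orderOf (QuotientGroup.mk x : G ⧸ M) = 3 := by
    have hprime : Nat.Prime 3 := by norm_num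
    have : Fact (Nat.Prime 3) := ⟨hprime⟩
    apply orderOf_eq_prime
    · rw [← QuotientGroup.mk_pow, ← hx, pow_orderOf_eq_one, QuotientGroup.mk_one]
    · intro h1
      apply hxb
      rw [h1]
      exact Qb.one_mem
  have htb : (QuotientGroup.mk t : G ⧸ M) ∉ Qb := fun h => htQ ((hmemb t).mp h)
  have htb2 : (QuotientGroup.mk t : G ⧸ M) * QuotientGroup.mk t ∈ Qb := by
    rw [← QuotientGroup.mk_mul]
    exact (hmemb _).mpr ht2
  have hab := hlma Qb hclb hfpfb htwib hsimpleb _ hxb3 hxb _ htb htb2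
  -- `D ≤ M`
  have hDM : D ≤ M := by
    rw [hD, Subgroup.commutator_le]
    intro a ha b hb
    rw [commutatorElement_def, ← cm_def, ← QuotientGroup.eq_one_iff, ← hcm_mk, cm_def]
    have := hab _ ((hmemb a).mpr ha) _ ((hmemb b).mpr hb)
    rw [this]
    group
  -- nilpotency
  have : Fact (Nat.Prime 2) := ⟨Nat.prime_two⟩
  have : Group.IsNilpotent ↥Q := hQ.isNilpotent
  have hDbot : D = ⊥ := cmg_nilp' Q D hDQ hDM
  intro a ha b hb
  have h1 : ⁅a, b⁆ ∈ D := Subgroup.commutator_mem_commutator ha hb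
  rw [hDbot, Subgroup.mem_bot, commutatorElement_eq_one_iff_mul_comm] at h1
  exact h1

end grp

end Cfsg.Agent.Helper51.Hig
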