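import Cfsg.Agent.Helper95.Hig.Basic
import Cfsg.Prelude.Def_Transfer
import Cfsg.Prelude.Def_BaumannBlocks

/-! Helper51, piece (REP) of the HIG farm (S3050, architect helper95, board #14698). -/

set_option autoImplicit false

namespace Cfsg.Agent.Helper51.Hig

open Cfsg.Agent.Helper40.SL2Hom
open Cfsg.Agent.Helper95.Hig

universe u v

section grp
variable {G : Type v} [Group G]
variable {K : Type u} [Field K]

/-- conjugation action of `G` on the commutative copy `A` of the normal subgroup `Q` -/
noncomputable def rep_conj (Q : Subgroup G) [hn : Q.Normal] (A : Type v) [CommGroup A] (j : A ≃* ↥Q) :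
    G →* MulAut A :=
  (MulAut.congr j.symm).toMonoidHom.comp (MulAut.conjNormal (H := Q))

theorem rep_conj_apply (Q : Subgroup G) [hn : Q.Normal] (A : Type v) [CommGroup A] (j : A ≃* ↥Q)
    (g : G) (a : A) :
    rep_conj Q A j g a = j.symm (⟨g * (j a : G) * g⁻¹, hn.conj_mem _ (j a).2 g⟩ : ↥Q) := by
  unfold rep_conj
  simp only [MonoidHom.coe_comp, MulEquiv.coe_toMonoidHom, Function.comp_apply]
  show j.symm (MulAut.conjNormal g (j.symm.symm a)) = _
  congr 1

theorem rep_conj_ker (Q : Subgroup G) [hn : Q.Normal] (A : Type v) [CommGroup A] (j : A ≃* ↥Q)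
    (q : G) (hq : q ∈ Q) : rep_conj Q A j q = 1 := by
  ext a
  rw [rep_conj_apply, MulAut.one_apply]
  apply j.injective
  rw [MulEquiv.apply_symm_apply]
  -- `Q` is commutative
  have hcomm : ∀ x y : ↥Q, x * y = y * x := by
    intro x y
    have := mul_comm (j.symm x) (j.symm y)
    rw [← map_mul, ← map_mul] at this
    exact j.symm.injective this
  apply Subtype.ext
  have h := congrArg (fun z : ↥Q => (z : G)) (hcomm ⟨q, hq⟩ (j a))
  simp only [Subgroup.coe_mul] at h
  show q * (j a : G) * q⁻¹ = (j a : G)
  rw [h, mul_inv_cancel_right]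

/-- the additive endomorphism attached to an automorphism of `A` -/
noncomputable def rep_lin (A : Type v) [CommGroup A] (f : MulAut A) : Module.End ℤ (Additive A) :=
  (MulEquiv.toAdditive f).toAddMonoidHom.toIntLinearMap

theorem rep_lin_apply (A : Type v) [CommGroup A] (f : MulAut A) (a : A) :
    rep_lin A f (Additive.ofMul a) = Additive.ofMul (f a) := rfl

theorem rep (Q : Subgroup G) [hn : Q.Normal] (A : Type v) [CommGroup A] (j : A ≃* ↥Q)
    (e : G ⧸ Q ≃* SL2 K) :
    ∃ ρ : Representation ℤ (SL2 K) (Additive A), ∀ (g : G) (a : A),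
      ρ (e (QuotientGroup.mk g)) (Additive.ofMul a)
        = Additive.ofMul (j.symm (⟨g * (j a : G) * g⁻¹, hn.conj_mem _ (j a).2 g⟩ : ↥Q)) := by
  let c : G ⧸ Q →* MulAut A := QuotientGroup.lift Q (rep_conj Q A j) (rep_conj_ker Q A j)
  let f : SL2 K →* MulAut A := c.comp e.symm.toMonoidHom
  refine ⟨{ toFun := fun s => rep_lin A (f s)
            map_one' := ?_
            map_mul' := ?_ }, ?_⟩
  · rw [map_one]
    apply LinearMap.ext
    intro x
    induction x using Additive.rec with
    | ofMul a => rw [rep_lin_apply]; rfl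
  · intro s t
    rw [map_mul]
    apply LinearMap.ext
    intro x
    induction x using Additive.rec with
    | ofMul a =>
      rw [Module.End.mul_apply, rep_lin_apply, rep_lin_apply, rep_lin_apply]
      rfl
  · intro g a
    show rep_lin A (f (e (QuotientGroup.mk g))) (Additive.ofMul a) = _
    rw [rep_lin_apply]
    have : f (e (QuotientGroup.mk g)) = rep_conj Q A j g := by
      show c (e.symm (e (QuotientGroup.mk g))) = _
      rw [MulEquiv.symm_apply_apply]
      rfl
    rw [this, rep_conj_apply]

end grp

end Cfsg.Agent.Helper51.Hig
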