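-- helper51: piece (K2a) of helper21's S3341: three norm-2 integer vectors with pairwise inner product 1,
-- orthogonal to a positive vector, form a star.
import Mathlib
import Cfsg.Agent.Helper21.A6Defs

set_option autoImplicit false

namespace Cfsg.Agent.Helper51.A6K2a

open Cfsg.Agent.Helper21.A6

variable {ι : Type*} [Fintype ι]

theorem entry_of_norm_two (v : ι → ℤ) (h : ∑ i, v i ^ 2 = 2) (x : ι) :
    v x = 0 ∨ v x = 1 ∨ v x = -1 := by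
  have h1 : v x ^ 2 ≤ ∑ i, v i ^ 2 :=
    Finset.single_le_sum (f := fun i => v i ^ 2) (fun i _ => sq_nonneg (v i)) (Finset.mem_univ x)
  rw [h] at h1
  have h2 : -1 ≤ v x ∧ v x ≤ 1 := by
    constructor <;> nlinarith
  omega

theorem shape_at (h2 : Shape2Stmt ι) (v : ι → ℤ) (h : ∑ i, v i ^ 2 = 2) (a : ι) (ha : v a ≠ 0) :
    ∃ c, c ≠ a ∧ (v c = 1 ∨ v c = -1) ∧ ∀ l, l ≠ a → l ≠ c → v l = 0 := by
  obtain ⟨i, j, hij, hi, hj, hrest⟩ := h2 v h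
  by_cases hai : a = i
  · subst hai
    exact ⟨j, fun h' => hij h'.symm, hj, hrest⟩
  · by_cases haj : a = j
    · subst haj
      exact ⟨i, hij, hi, fun l hl hl' => hrest l hl' hl⟩
    · exact absurd (hrest a hai haj) ha

theorem sum_two (f : ι → ℤ) (a b : ι) (hab : a ≠ b) (h : ∀ l, l ≠ a → l ≠ b → f l = 0) :
    ∑ i, f i = f a + f b := by
  classical
  exact Fintype.sum_eq_add a b hab (fun x hx => h x hx.1 hx.2)

theorem pair_arith (α β x y : ℤ) (hα : α = 1 ∨ α = -1) (hβ : β = 1 ∨ β = -1)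
    (hx : x = 0 ∨ x = 1 ∨ x = -1) (hy : y = 0 ∨ y = 1 ∨ y = -1) (h : α * x + β * y = 1) :
    (x = α ∧ y = 0) ∨ (x = 0 ∧ y = β) := by
  rcases hα with rfl | rfl <;> rcases hβ with rfl | rfl <;> rcases hx with rfl | rfl | rfl <;>
    rcases hy with rfl | rfl | rfl <;> omega

/-- orthogonality to a positive vector for `α e_a + β e_b` -/
theorem orth_arith (da db : ℕ) (α β : ℤ) (hda : 0 < da) (hdb : 0 < db) (hα : α = 1 ∨ α = -1)
    (hβ : β = 1 ∨ β = -1) (h : (da : ℤ) * α + (db : ℤ) * β = 0) : β = -α ∧ db = da := by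
  rcases hα with rfl | rfl <;> rcases hβ with rfl | rfl <;> refine ⟨?_, ?_⟩ <;> omega

theorem star_core (h2 : Shape2Stmt ι) (d : ι → ℕ) (u₁ u₂ u₃ : ι → ℤ) (hd : ∀ i, 0 < d i)
    (a b : ι) (hab : a ≠ b) (α β : ℤ) (hα : α = 1 ∨ α = -1) (hβ : β = 1 ∨ β = -1)
    (h1a : u₁ a = α) (h1b : u₁ b = β) (h1r : ∀ l, l ≠ a → l ≠ b → u₁ l = 0)
    (hn2 : ∑ i, u₂ i ^ 2 = 2) (hn3 : ∑ i, u₃ i ^ 2 = 2)
    (h2a : u₂ a = α) (h2b : u₂ b = 0) (h3a : u₃ a = α) (h3b : u₃ b = 0)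
    (h23 : ∑ i, u₂ i * u₃ i = 1)
    (hd1 : ∑ i, (d i : ℤ) * u₁ i = 0) (hd2 : ∑ i, (d i : ℤ) * u₂ i = 0)
    (hd3 : ∑ i, (d i : ℤ) * u₃ i = 0) :
    ∃ (a b₁ b₂ b₃ : ι) (ε : ℤ), [a, b₁, b₂, b₃].Nodup ∧ (ε = 1 ∨ ε = -1) ∧
      d b₁ = d a ∧ d b₂ = d a ∧ d b₃ = d a ∧
      u₁ a = ε ∧ u₁ b₁ = -ε ∧ (∀ l, l ≠ a → l ≠ b₁ → u₁ l = 0) ∧
      u₂ a = ε ∧ u₂ b₂ = -ε ∧ (∀ l, l ≠ a → l ≠ b₂ → u₂ l = 0) ∧
      u₃ a = ε ∧ u₃ b₃ = -ε ∧ (∀ l, l ≠ a → l ≠ b₃ → u₃ l = 0) := by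
  have hα0 : α ≠ 0 := by rcases hα with rfl | rfl <;> decide
  obtain ⟨c, hca, hc, hcr⟩ := shape_at h2 u₂ hn2 a (by rw [h2a]; exact hα0)
  obtain ⟨e, hea, he, her⟩ := shape_at h2 u₃ hn3 a (by rw [h3a]; exact hα0)
  have hc0 : u₂ c ≠ 0 := by rcases hc with h | h <;> rw [h] <;> decide
  have he0 : u₃ e ≠ 0 := by rcases he with h | h <;> rw [h] <;> decide
  have hcb : c ≠ b := by
    rintro rfl
    exact hc0 h2b
  have heb : e ≠ b := by
    rintro rfl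
    exact he0 h3b
  -- inner product of `u₂` and `u₃`
  have hs23 := sum_two (fun i => u₂ i * u₃ i) a c (Ne.symm hca) (fun l hl hl' => by
    show u₂ l * u₃ l = 0
    rw [hcr l hl hl', zero_mul])
  rw [h23] at hs23
  simp only [h2a, h3a] at hs23
  have hαα : α * α = 1 := by rcases hα with rfl | rfl <;> norm_num
  have h3c : u₃ c = 0 := by
    have : u₂ c * u₃ c = 0 := by linarith
    rcases mul_eq_zero.1 this with h | h
    · exact absurd h hc0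
    · exact h
  have hce : c ≠ e := by
    rintro rfl
    exact he0 h3c
  -- orthogonality to `d`
  have hs1 := sum_two (fun i => (d i : ℤ) * u₁ i) a b hab (fun l hl hl' => by
    show (d l : ℤ) * u₁ l = 0
    rw [h1r l hl hl', mul_zero])
  rw [hd1] at hs1
  simp only [h1a, h1b] at hs1
  have hs2 := sum_two (fun i => (d i : ℤ) * u₂ i) a c (Ne.symm hca) (fun l hl hl' => by
    show (d l : ℤ) * u₂ l = 0
    rw [hcr l hl hl', mul_zero])
  rw [hd2] at hs2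
  simp only [h2a] at hs2
  have hs3 := sum_two (fun i => (d i : ℤ) * u₃ i) a e (Ne.symm hea) (fun l hl hl' => by
    show (d l : ℤ) * u₃ l = 0
    rw [her l hl hl', mul_zero])
  rw [hd3] at hs3
  simp only [h3a] at hs3
  obtain ⟨hβ', hdb⟩ := orth_arith (d a) (d b) α β (hd a) (hd b) hα hβ hs1.symm
  obtain ⟨hγ', hdc⟩ := orth_arith (d a) (d c) α (u₂ c) (hd a) (hd c) hα hc hs2.symm
  obtain ⟨hδ', hde⟩ := orth_arith (d a) (d e) α (u₃ e) (hd a) (hd e) hα he hs3.symm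
  refine ⟨a, b, c, e, α, ?_, hα, hdb, hdc, hde, h1a, ?_, h1r, h2a, hγ', hcr, h3a, hδ', her⟩
  · simp only [List.nodup_cons, List.mem_cons, List.not_mem_nil, or_false, not_or,
      List.nodup_nil, and_true, not_false_eq_true]
    exact ⟨⟨hab, Ne.symm hca, Ne.symm hea⟩, ⟨Ne.symm hcb, Ne.symm heb⟩, hce⟩
  · rw [h1b, hβ']

theorem triangle_core (h2 : Shape2Stmt ι) (d : ι → ℕ) (u₁ u₂ u₃ : ι → ℤ) (hd : ∀ i, 0 < d i)
    (a b : ι) (hab : a ≠ b) (α β : ℤ) (hα : α = 1 ∨ α = -1) (hβ : β = 1 ∨ β = -1)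
    (h1a : u₁ a = α) (h1b : u₁ b = β) (h1r : ∀ l, l ≠ a → l ≠ b → u₁ l = 0)
    (hn2 : ∑ i, u₂ i ^ 2 = 2) (hn3 : ∑ i, u₃ i ^ 2 = 2)
    (h2a : u₂ a = α) (h2b : u₂ b = 0) (h3a : u₃ a = 0) (h3b : u₃ b = β)
    (h23 : ∑ i, u₂ i * u₃ i = 1)
    (hd1 : ∑ i, (d i : ℤ) * u₁ i = 0) (hd2 : ∑ i, (d i : ℤ) * u₂ i = 0)
    (hd3 : ∑ i, (d i : ℤ) * u₃ i = 0) : False := by
  have hα0 : α ≠ 0 := by rcases hα with rfl | rfl <;> decide
  have hβ0 : β ≠ 0 := by rcases hβ with rfl | rfl <;> decide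
  obtain ⟨c, hca, hc, hcr⟩ := shape_at h2 u₂ hn2 a (by rw [h2a]; exact hα0)
  obtain ⟨e, heb, he, her⟩ := shape_at h2 u₃ hn3 b (by rw [h3b]; exact hβ0)
  have hc0 : u₂ c ≠ 0 := by rcases hc with h | h <;> rw [h] <;> decide
  have hcb : c ≠ b := by
    rintro rfl
    exact hc0 h2b
  have hs23 := sum_two (fun i => u₂ i * u₃ i) a c (Ne.symm hca) (fun l hl hl' => by
    show u₂ l * u₃ l = 0
    rw [hcr l hl hl', zero_mul])
  rw [h23] at hs23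
  simp only [h2a, h3a, mul_zero, zero_add] at hs23
  have hce : c = e := by
    by_contra hne
    rw [her c hcb hne, mul_zero] at hs23
    exact one_ne_zero hs23
  subst hce
  have hs1 := sum_two (fun i => (d i : ℤ) * u₁ i) a b hab (fun l hl hl' => by
    show (d l : ℤ) * u₁ l = 0
    rw [h1r l hl hl', mul_zero])
  rw [hd1] at hs1
  simp only [h1a, h1b] at hs1
  have hs2 := sum_two (fun i => (d i : ℤ) * u₂ i) a c (Ne.symm hca) (fun l hl hl' => by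
    show (d l : ℤ) * u₂ l = 0
    rw [hcr l hl hl', mul_zero])
  rw [hd2] at hs2
  simp only [h2a] at hs2
  have hs3 := sum_two (fun i => (d i : ℤ) * u₃ i) b c (Ne.symm heb) (fun l hl hl' => by
    show (d l : ℤ) * u₃ l = 0
    rw [her l hl hl', mul_zero])
  rw [hd3] at hs3
  simp only [h3b] at hs3
  have hda := hd a
  have hγδ : u₂ c = u₃ c := by
    rcases hc with h | h <;> rcases he with h' | h' <;> rw [h, h'] at hs23 <;> rw [h, h'] <;>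
      norm_num at hs23
  rw [hγδ] at hs2
  have : (d a : ℤ) * α = 0 := by linarith
  rcases mul_eq_zero.1 this with h | h
  · have : d a = 0 := by exact_mod_cast h
    omega
  · exact hα0 h

/-- (K2a) -/
theorem star_of (h2 : Shape2Stmt ι) : StarStmt ι := by
  intro d u₁ u₂ u₃ hd hn1 hn2 hn3 h12 h13 h23 hd1 hd2 hd3
  obtain ⟨a, b, hab, ha, hb, h1r⟩ := h2 u₁ hn1
  have hs12 := sum_two (fun i => u₁ i * u₂ i) a b hab (fun l hl hl' => by
    show u₁ l * u₂ l = 0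
    rw [h1r l hl hl', zero_mul])
  rw [h12] at hs12
  have hs13 := sum_two (fun i => u₁ i * u₃ i) a b hab (fun l hl hl' => by
    show u₁ l * u₃ l = 0
    rw [h1r l hl hl', zero_mul])
  rw [h13] at hs13
  have hP2 := pair_arith (u₁ a) (u₁ b) (u₂ a) (u₂ b) ha hb (entry_of_norm_two u₂ hn2 a)
    (entry_of_norm_two u₂ hn2 b) hs12.symm
  have hP3 := pair_arith (u₁ a) (u₁ b) (u₃ a) (u₃ b) ha hb (entry_of_norm_two u₃ hn3 a)
    (entry_of_norm_two u₃ hn3 b) hs13.symm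
  rcases hP2 with ⟨h2a, h2b⟩ | ⟨h2a, h2b⟩ <;> rcases hP3 with ⟨h3a, h3b⟩ | ⟨h3a, h3b⟩
  · exact star_core h2 d u₁ u₂ u₃ hd a b hab (u₁ a) (u₁ b) ha hb rfl rfl h1r hn2 hn3 h2a h2b h3a h3b
      h23 hd1 hd2 hd3
  · exact (triangle_core h2 d u₁ u₂ u₃ hd a b hab (u₁ a) (u₁ b) ha hb rfl rfl h1r hn2 hn3 h2a h2b
      h3a h3b h23 hd1 hd2 hd3).elim
  · have h32 : ∑ i, u₃ i * u₂ i = 1 := by
      rw [← h23]
      exact Finset.sum_congr rfl (fun i _ => mul_comm _ _)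
    exact (triangle_core h2 d u₁ u₃ u₂ hd a b hab (u₁ a) (u₁ b) ha hb rfl rfl h1r hn3 hn2 h3a h3b
      h2a h2b h32 hd1 hd3 hd2).elim
  · exact star_core h2 d u₁ u₂ u₃ hd b a (Ne.symm hab) (u₁ b) (u₁ a) hb ha rfl rfl
      (fun l hl hl' => h1r l hl' hl) hn2 hn3 h2b h2a h3b h3a h23 hd1 hd2 hd3

end Cfsg.Agent.Helper51.A6K2a
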