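-- helper51: piece (K4a) of helper21's S3341: the character-table fragment in the `C₄` case.
import Mathlib
import Cfsg.Agent.Helper21.A6Defs
import Cfsg.Agent.Helper51.A6_K2a

set_option autoImplicit false

namespace Cfsg.Agent.Helper51.A6K4a

open Cfsg.Agent.Helper21.A6 Cfsg.Agent.Helper51.A6K2a

variable {ι : Type*} [Fintype ι]

/-- the oriented core: `c i = 1`, `c j = -1` -/
theorem struct4_core (h3 : Shape3Stmt ι) (o : ι) (d : ι → ℕ) (X Z c : ι → ℤ)
    (hXo : X o = 1) (hZo : Z o = 1) (hc : ∀ l, X l - Z l = 3 * c l)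
    (hXX : ∑ l, X l ^ 2 = 9) (hZZ : ∑ l, Z l ^ 2 = 9) (hXZ : ∑ l, X l * Z l = 0)
    (i j : ι) (hij : i ≠ j) (hci : c i = 1) (hcj : c j = -1)
    (hcr : ∀ l, l ≠ i → l ≠ j → c l = 0) (hdji : d j = d i) :
    ∃ (i j k₁ k₂ k₃ : ι) (σ : ℤ), [o, i, j, k₁, k₂, k₃].Nodup ∧ (σ = 1 ∨ σ = -1) ∧
      d j = d i ∧ X i + Z i = -σ ∧ X j + Z j = -σ ∧
      X i * Z i * X i + X j * Z j * X j = 2 * σ ∧
      (X k₁ = 1 ∨ X k₁ = -1) ∧ Z k₁ = X k₁ ∧
      (X k₂ = 1 ∨ X k₂ = -1) ∧ Z k₂ = X k₂ ∧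
      (X k₃ = 1 ∨ X k₃ = -1) ∧ Z k₃ = X k₃ ∧
      ∀ l, l ≠ o → l ≠ i → l ≠ j → l ≠ k₁ → l ≠ k₂ → l ≠ k₃ → X l = 0 ∧ Z l = 0 := by
  classical
  have hco : c o = 0 := by
    have := hc o
    rw [hXo, hZo] at this
    omega
  have hoi : o ≠ i := by
    rintro rfl
    rw [hci] at hco
    exact one_ne_zero hco
  have hoj : o ≠ j := by
    rintro rfl
    rw [hcj] at hco
    omega
  have hXZr : ∀ l, l ≠ i → l ≠ j → Z l = X l := by
    intro l hl hl'
    have := hc l
    rw [hcr l hl hl'] at this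
    omega
  -- `Σ X c = 3`, `Σ Z c = -3`
  have hXc : ∑ l, X l * c l = 3 := by
    have h9 : 3 * ∑ l, X l * c l = 9 := by
      rw [Finset.mul_sum]
      have : ∀ l, 3 * (X l * c l) = X l ^ 2 - X l * Z l := by
        intro l
        have := hc l
        calc 3 * (X l * c l) = X l * (3 * c l) := by ring
          _ = X l * (X l - Z l) := by rw [this]
          _ = X l ^ 2 - X l * Z l := by ring
      simp only [this]
      rw [Finset.sum_sub_distrib, hXX, hXZ]
      norm_num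
    omega
  have hZc : ∑ l, Z l * c l = -3 := by
    have h9 : 3 * ∑ l, Z l * c l = -9 := by
      rw [Finset.mul_sum]
      have : ∀ l, 3 * (Z l * c l) = X l * Z l - Z l ^ 2 := by
        intro l
        have := hc l
        calc 3 * (Z l * c l) = Z l * (3 * c l) := by ring
          _ = Z l * (X l - Z l) := by rw [this]
          _ = X l * Z l - Z l ^ 2 := by ring
      simp only [this]
      rw [Finset.sum_sub_distrib, hZZ, hXZ]
      norm_num
    omega
  have hsX := sum_two (fun l => X l * c l) i j hij (fun l hl hl' => by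
    show X l * c l = 0
    rw [hcr l hl hl', mul_zero])
  rw [hXc, hci, hcj] at hsX
  have hsZ := sum_two (fun l => Z l * c l) i j hij (fun l hl hl' => by
    show Z l * c l = 0
    rw [hcr l hl hl', mul_zero])
  rw [hZc, hci, hcj] at hsZ
  have hi3 := hc i
  rw [hci] at hi3
  have hj3 := hc j
  rw [hcj] at hj3
  -- with `a := X i`: `Z i = a - 3`, `X j = a - 3`, `Z j = a`
  have hZi : Z i = X i - 3 := by omega
  have hXj : X j = X i - 3 := by omega
  have hZj : Z j = X i := by omega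
  -- the remaining part of `X`
  set f : ι → ℤ := fun l => if l = o ∨ l = i ∨ l = j then 0 else X l with hf
  have hdecomp : ∀ l, X l ^ 2 = f l ^ 2 + (if l = o then X l ^ 2 else 0) +
      (if l = i then X l ^ 2 else 0) + (if l = j then X l ^ 2 else 0) := by
    intro l
    rw [hf]
    by_cases h1 : l = o
    · subst h1
      simp [hoi, hoj]
    · by_cases h2 : l = i
      · subst h2
        simp [h1, hij]
      · by_cases h3' : l = j
        · subst h3'
          simp [h1, h2]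
        · simp [h1, h2, h3']
  have hsum : (9 : ℤ) = ∑ l, f l ^ 2 + X o ^ 2 + X i ^ 2 + X j ^ 2 := by
    rw [← hXX]
    calc ∑ l, X l ^ 2 = ∑ l, (f l ^ 2 + (if l = o then X l ^ 2 else 0) +
          (if l = i then X l ^ 2 else 0) + (if l = j then X l ^ 2 else 0)) :=
          Finset.sum_congr rfl (fun l _ => hdecomp l)
      _ = ∑ l, f l ^ 2 + X o ^ 2 + X i ^ 2 + X j ^ 2 := by
          rw [Finset.sum_add_distrib, Finset.sum_add_distrib, Finset.sum_add_distrib,
            Finset.sum_ite_eq', Finset.sum_ite_eq', Finset.sum_ite_eq']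
          simp
  have hfnn : 0 ≤ ∑ l, f l ^ 2 := Finset.sum_nonneg (fun l _ => sq_nonneg (f l))
  rw [hXo, hXj] at hsum
  have ha : X i = 1 ∨ X i = 2 := by
    have h1 : 0 ≤ X i := by nlinarith
    have h2 : X i ≤ 3 := by nlinarith
    have h3' : X i ≠ 0 := by
      intro h
      rw [h] at hsum
      linarith
    have h4 : X i ≠ 3 := by
      intro h
      rw [h] at hsum
      linarith
    omega
  have hf3 : ∑ l, f l ^ 2 = 3 := by
    rcases ha with h | h <;> rw [h] at hsum <;> linarith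
  obtain ⟨k₁, k₂, k₃, h12, h13, h23, hk1, hk2, hk3, hkr⟩ := h3 f hf3
  have hfk : ∀ k, (f k = 1 ∨ f k = -1) → (k ≠ o ∧ k ≠ i ∧ k ≠ j) ∧ X k = f k := by
    intro k hk
    have hne : ¬ (k = o ∨ k = i ∨ k = j) := by
      intro h
      have : f k = 0 := by
        rw [hf]
        exact if_pos h
      rw [this] at hk
      omega
    refine ⟨⟨fun h => hne (Or.inl h), fun h => hne (Or.inr (Or.inl h)),
      fun h => hne (Or.inr (Or.inr h))⟩, ?_⟩
    exact (if_neg hne).symm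
  obtain ⟨⟨h1o, h1i, h1j⟩, hX1⟩ := hfk k₁ hk1
  obtain ⟨⟨h2o, h2i, h2j⟩, hX2⟩ := hfk k₂ hk2
  obtain ⟨⟨h3o, h3i, h3j⟩, hX3⟩ := hfk k₃ hk3
  have hσ : ∃ σ : ℤ, (σ = 1 ∨ σ = -1) ∧ X i + Z i = -σ ∧ X j + Z j = -σ ∧
      X i * Z i * X i + X j * Z j * X j = 2 * σ := by
    rw [hZi, hXj, hZj]
    rcases ha with h | h
    · refine ⟨1, Or.inl rfl, ?_, ?_, ?_⟩ <;> rw [h] <;> norm_num
    · refine ⟨-1, Or.inr rfl, ?_, ?_, ?_⟩ <;> rw [h] <;> norm_num
  obtain ⟨σ, hσ1, hσ2, hσ3, hσ4⟩ := hσ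
  refine ⟨i, j, k₁, k₂, k₃, σ, ?_, hσ1, hdji, hσ2, hσ3, hσ4, ?_, hXZr k₁ h1i h1j, ?_,
    hXZr k₂ h2i h2j, ?_, hXZr k₃ h3i h3j, ?_⟩
  · simp only [List.nodup_cons, List.mem_cons, List.not_mem_nil, or_false, not_or,
      List.nodup_nil, and_true, not_false_eq_true]
    exact ⟨⟨hoi, hoj, Ne.symm h1o, Ne.symm h2o, Ne.symm h3o⟩,
      ⟨hij, Ne.symm h1i, Ne.symm h2i, Ne.symm h3i⟩, ⟨Ne.symm h1j, Ne.symm h2j, Ne.symm h3j⟩,
      ⟨h12, h13⟩, h23⟩
  · rw [hX1]
    exact hk1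
  · rw [hX2]
    exact hk2
  · rw [hX3]
    exact hk3
  · intro l hlo hli hlj hl1 hl2 hl3
    have h0 := hkr l hl1 hl2 hl3
    have hne : ¬ (l = o ∨ l = i ∨ l = j) := by
      rintro (h | h | h)
      · exact hlo h
      · exact hli h
      · exact hlj h
    have hfl : f l = X l := if_neg hne
    have hXl : X l = 0 := by
      rw [← hfl]
      exact h0
    exact ⟨hXl, by rw [hXZr l hli hlj, hXl]⟩

/-- (K4a) -/
theorem struct4_of (h2 : Shape2Stmt ι) (h3 : Shape3Stmt ι) : Struct4Stmt ι := by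
  intro o d X Z hd hXo hZo hmX hmZ hXX hZZ hXZ hdX hdZ
  choose mX hmX using hmX
  choose mZ hmZ using hmZ
  set c : ι → ℤ := fun l => mZ l - mX l with hcdef
  have hc : ∀ l, X l - Z l = 3 * c l := by
    intro l
    rw [hcdef, hmX l, hmZ l]
    ring
  have hcc : ∑ l, c l ^ 2 = 2 := by
    have h9 : 9 * ∑ l, c l ^ 2 = 18 := by
      rw [Finset.mul_sum]
      have : ∀ l, 9 * c l ^ 2 = X l ^ 2 + Z l ^ 2 - 2 * (X l * Z l) := by
        intro l
        have := hc l
        calc 9 * c l ^ 2 = (3 * c l) ^ 2 := by ring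
          _ = (X l - Z l) ^ 2 := by rw [this]
          _ = X l ^ 2 + Z l ^ 2 - 2 * (X l * Z l) := by ring
      simp only [this]
      rw [Finset.sum_sub_distrib, Finset.sum_add_distrib, ← Finset.mul_sum, hXX, hZZ, hXZ]
      norm_num
    omega
  have hdc : ∑ l, (d l : ℤ) * c l = 0 := by
    have h3' : 3 * ∑ l, (d l : ℤ) * c l = 0 := by
      rw [Finset.mul_sum]
      have : ∀ l, 3 * ((d l : ℤ) * c l) = (d l : ℤ) * X l - (d l : ℤ) * Z l := by
        intro l
        have := hc l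
        calc 3 * ((d l : ℤ) * c l) = (d l : ℤ) * (3 * c l) := by ring
          _ = (d l : ℤ) * (X l - Z l) := by rw [this]
          _ = (d l : ℤ) * X l - (d l : ℤ) * Z l := by ring
      simp only [this]
      rw [Finset.sum_sub_distrib, hdX, hdZ]
      norm_num
    omega
  obtain ⟨i, j, hij, hi, hj, hcr⟩ := h2 c hcc
  have hs := sum_two (fun l => (d l : ℤ) * c l) i j hij (fun l hl hl' => by
    show (d l : ℤ) * c l = 0
    rw [hcr l hl hl', mul_zero])
  rw [hdc] at hs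
  obtain ⟨hcj, hdji⟩ := orth_arith (d i) (d j) (c i) (c j) (hd i) (hd j) hi hj hs.symm
  rcases hi with hi | hi
  · exact struct4_core h3 o d X Z c hXo hZo hc hXX hZZ hXZ i j hij hi (by rw [hcj, hi]) hcr hdji
  · exact struct4_core h3 o d X Z c hXo hZo hc hXX hZZ hXZ j i (Ne.symm hij)
      (by rw [hcj, hi]; norm_num) hi (fun l hl hl' => hcr l hl' hl) hdji.symm

end Cfsg.Agent.Helper51.A6K4a
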