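import Mathlib
import Cfsg.Agent.Helper51.GTS
import Cfsg.Agent.Helper11.StableW
import Cfsg.Agent.S0622
import Cfsg.Agent.S0624

set_option autoImplicit false

namespace Cfsg.Agent.Helper51

open Subgroup
open scoped commutatorElement

universe u

section Series

variable {G : Type*} [Group G] [Finite G] {p : ℕ} [hp : Fact p.Prime]

/-- A normal series `H ≤ M ≤ G` with `H` a `p`-group, `M/H` an abelian `p'`-group and `G/M` a
`p`-group. -/
structure PSeries (p : ℕ) (H M : Subgroup G) : Prop where
  isPGroup : IsPGroup p H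
  le : H ≤ M
  comm : ⁅M, M⁆ ≤ H
  coprime : (H.relIndex M).Coprime p
  index : ∃ k : ℕ, M.index = p ^ k

theorem PSeries.isPStableOn {H M : Subgroup G} [H.Normal] [M.Normal] (hs : PSeries p H M)
    (hp2 : p ≠ 2) (V : Subgroup G) [V.Normal] (hV : IsPGroup p V) : Cfsg.IsPStableOn p V := by
  obtain ⟨k, hk⟩ := hs.index
  exact Cfsg.Agent.Helper64.isPStableOn_of_series hp2 H M hs.isPGroup hs.comm hs.coprime hk V hV

theorem PSeries.map {H M : Subgroup G} (hs : PSeries p H M) {G' : Type*} [Group G']
    (f : G →* G') (hf : Function.Surjective f) (hker : f.ker ≤ H) :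
    PSeries p (H.map f) (M.map f) where
  isPGroup := hs.isPGroup.map f
  le := Subgroup.map_mono hs.le
  comm := by
    rw [← Subgroup.map_commutator]
    exact Subgroup.map_mono hs.comm
  coprime := by
    rw [Subgroup.relIndex_map_map, sup_eq_left.mpr hker, sup_eq_left.mpr (hker.trans hs.le)]
    exact hs.coprime
  index := by
    obtain ⟨k, hk⟩ := hs.index
    have := Subgroup.index_map_dvd M hf
    rw [hk] at this
    exact ((Nat.dvd_prime_pow hp.out).mp this).imp fun _ h => h.2

theorem PSeries.subgroupOf {H M : Subgroup G} [hHn : H.Normal] [hMn : M.Normal]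
    (hs : PSeries p H M) (X : Subgroup G) :
    PSeries p (H.subgroupOf X) (M.subgroupOf X) where
  isPGroup := hs.isPGroup.comap_subtype
  le := by
    intro x hx
    exact mem_subgroupOf.mpr (hs.le (mem_subgroupOf.mp hx))
  comm := by
    rw [Subgroup.commutator_le]
    intro x hx y hy
    rw [mem_subgroupOf]
    have := hs.comm (Subgroup.commutator_mem_commutator (mem_subgroupOf.mp hx) (mem_subgroupOf.mp hy))
    simpa [commutatorElement_def] using this
  coprime := by
    have h1 : M.subgroupOf X = (M ⊓ X).subgroupOf X := by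
      rw [Subgroup.inf_subgroupOf_right]
    rw [h1, Subgroup.relIndex_subgroupOf inf_le_right]
    -- `H.relIndex (M ⊓ X)` divides `H.relIndex M`
    have h2 : H.relIndex ((M ⊓ X) ⊔ H) = H.relIndex (M ⊓ X) := Subgroup.relIndex_sup_right _ _
    have h3 : (M ⊓ X) ⊔ H ≤ M := sup_le inf_le_left hs.le
    have h4 : H.relIndex ((M ⊓ X) ⊔ H) * ((M ⊓ X) ⊔ H).relIndex M = H.relIndex M :=
      Subgroup.relIndex_mul_relIndex _ _ _ le_sup_right h3
    rw [← h2]
    exact Nat.Coprime.coprime_dvd_left (Dvd.intro _ h4) hs.coprime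
  index := by
    obtain ⟨k, hk⟩ := hs.index
    have : (M.subgroupOf X).index ∣ M.index := Subgroup.relIndex_dvd_index_of_normal M X
    rw [hk] at this
    exact ((Nat.dvd_prime_pow hp.out).mp this).imp fun _ h => h.2

theorem pCore_normal' (p : ℕ) (X : Type*) [Group X] : (Cfsg.pCore p X).Normal := by
  have := Cfsg.Agent.Lib.pCore_characteristic (G := X) p
  infer_instance

/-- `p`-stability on a section `K / N` with `N ≤ H`, from the series. -/
theorem PSeries.isPStableOnSection {H M : Subgroup G} [H.Normal] [M.Normal] (hs : PSeries p H M)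
    (hp2 : p ≠ 2) (K N : Subgroup G) [K.Normal] [N.Normal] (hK : IsPGroup p K) (hNH : N ≤ H) :
    Cfsg.IsPStableOnSection p K N := by
  intro a ha
  set f := QuotientGroup.mk' N with hf'
  have hf : Function.Surjective f := QuotientGroup.mk'_surjective N
  have hker : f.ker = N := QuotientGroup.ker_mk' N
  have h1n : (H.map f).Normal := Subgroup.Normal.map inferInstance f hf
  have h2n : (M.map f).Normal := Subgroup.Normal.map inferInstance f hf
  have h3n : (K.map f).Normal := Subgroup.Normal.map inferInstance f hf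
  have hs' : PSeries p (H.map f) (M.map f) := hs.map f hf (hker.le.trans hNH)
  have hq : ⁅⁅K.map f, zpowers (f a)⁆, zpowers (f a)⁆ = ⊥ := by
    rw [← MonoidHom.map_zpowers, ← Subgroup.map_commutator, ← Subgroup.map_commutator, eq_bot_iff,
      Subgroup.map_le_iff_le_comap]
    intro x hx
    rw [Subgroup.mem_comap, Subgroup.mem_bot, ← MonoidHom.mem_ker, hker]
    exact ha hx
  have h1 := hs'.isPStableOn hp2 (K.map f) (hK.map f) (f a) hq
  set Cb := centralizer ((K.map f : Subgroup (G ⧸ N)) : Set (G ⧸ N)) with hCb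
  set g := QuotientGroup.mk' Cb with hg'
  have hg : Function.Surjective g := QuotientGroup.mk'_surjective Cb
  have hkerg : g.ker = Cb := QuotientGroup.ker_mk' Cb
  have hPn : (Cfsg.pCore p ((G ⧸ N) ⧸ Cb)).Normal := pCore_normal' p _
  have hPp : IsPGroup p (Cfsg.pCore p ((G ⧸ N) ⧸ Cb)) := Cfsg.Agent.Lib.isPGroup_pCore p
  refine ⟨((Cfsg.pCore p ((G ⧸ N) ⧸ Cb)).comap g).comap f, ?_, ?_, ?_, h1⟩
  · exact (hPn.comap g).comap f
  · unfold Cfsg.sectionKernel
    apply Subgroup.comap_mono
    exact le_trans (le_of_eq hkerg.symm) (MonoidHom.ker_le_comap g _)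
  · obtain ⟨k, hk⟩ := IsPGroup.iff_card.mp hPp
    refine ⟨k, ?_⟩
    unfold Cfsg.sectionKernel
    rw [Subgroup.relIndex_comap, Subgroup.map_comap_eq_self_of_surjective hf]
    have h5 : g.ker.relIndex ((Cfsg.pCore p ((G ⧸ N) ⧸ Cb)).comap g) = p ^ k := by
      rw [Subgroup.relIndex_ker, Subgroup.map_comap_eq_self_of_surjective hg, hk]
    rw [hkerg] at h5
    exact h5

/-- A group with such a series over `H = O_p(G)` is `p`-stable in the action sense (`p` odd). -/
theorem PSeries.isActionPStable {H M : Subgroup G} [H.Normal] [M.Normal] (hs : PSeries p H M)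
    (hp2 : p ≠ 2) (hH : H = Cfsg.pCore p G) : Cfsg.IsActionPStable p G := by
  refine ⟨?_, ?_, ?_⟩
  · intro V _ hV
    apply hs.isPStableOn hp2 V
    intro v
    refine ⟨1, ?_⟩
    apply Subtype.ext
    rw [pow_one, SubgroupClass.coe_pow]
    exact hV.2 v v.2
  · subst hH
    have hKp : IsPGroup p (Cfsg.pCore p G) := Cfsg.Agent.Lib.isPGroup_pCore p
    apply hs.isPStableOnSection hp2 _ _ hKp
    rintro _ ⟨x, -, rfl⟩
    exact x.2
  · intro S V hVn hV
    have hs' := hs.subgroupOf (normalizer (Cfsg.thompsonSubgroupOf p (S : Subgroup G) : Set G))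
    apply hs'.isPStableOn hp2 V
    -- `V` is a `p`-group
    intro v
    obtain ⟨s, -, hsv⟩ := hV (Subgroup.mem_map_of_mem _ v.2)
    obtain ⟨k, hk⟩ := S.2 s
    refine ⟨k, ?_⟩
    apply Subtype.ext
    apply Subtype.ext
    have h1 : ((s : G)) ^ p ^ k = 1 := by
      have := congrArg Subtype.val hk
      simpa using this
    have h2 : ((s : ↥(S : Subgroup G)) : G) =
        ((v : ↥(normalizer (Cfsg.thompsonSubgroupOf p (S : Subgroup G) : Set G))) : G) := hsv
    rw [h2] at h1
    simpa using h1

end Series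

section Functor

variable {p : ℕ} [hp : Fact p.Prime]

/-- `W(S)`, the stable normal closure, as a functor on subgroups. -/
def wFun (p : ℕ) : ∀ (K : Type u) [Group K], Subgroup K → Subgroup K :=
  fun _ _ S => (Cfsg.stableNormalClosure p ↥S).map S.subtype

theorem gtFunctorS_wFun (hp2 : p ≠ 2) : GTFunctorS.{u} p (wFun p) where
  le := fun _ _ S => Subgroup.map_subtype_le _
  ne_bot := by
    intro K _ _ S hS hS1
    have hnt : Nontrivial ↥S := by
      rw [← not_subsingleton_iff_nontrivial]
      intro hsub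
      apply hS1
      rw [eq_bot_iff]
      intro x hx
      rw [Subgroup.mem_bot]
      have := Subsingleton.elim (⟨x, hx⟩ : ↥S) 1
      exact congrArg Subtype.val this
    have h := (Cfsg.Agent.S0622.result (p := p) hS).2.2.2.1 hnt
    intro hbot
    apply h
    unfold wFun at hbot
    rwa [Subgroup.map_eq_bot_iff_of_injective _ S.subtype_injective] at hbot
  map := by
    intro K K' _ _ _ _ f S hinj
    unfold wFun
    set η : ↥S ≃* ↥(S.map f) := MulEquiv.ofBijective (f.subgroupMap S)
      ⟨by
        intro x y hxy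
        apply hinj
        have := congrArg Subtype.val hxy
        simpa using this, f.subgroupMap_surjective S⟩ with hη
    rw [← Cfsg.Agent.Helper11.stableNormalClosure_map_equiv p η, Subgroup.map_map, Subgroup.map_map]
    congr 1
  normal := by
    intro K _ _ H M _ _ hH hc hHM hMH hMp hMi S
    have hs : PSeries p H M :=
      ⟨hH ▸ Cfsg.Agent.Lib.isPGroup_pCore p, hHM, hMH, hMp, hMi⟩
    have hst := hs.isActionPStable hp2 hH
    exact Cfsg.Agent.S0624.result hst (hH ▸ hc) S

/-- Thompson's normal `p`-complement theorem with `W(S)`. -/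
theorem hasNormalPComplement_of_normalizer_w {G : Type u} [Group G] [Finite G] (hp2 : p ≠ 2)
    (S : Sylow p G)
    (hN : Cfsg.HasNormalPComplement p ↥(normalizer
      (((Cfsg.stableNormalClosure p ↥(S : Subgroup G)).map (S : Subgroup G).subtype) : Set G))) :
    Cfsg.HasNormalPComplement p G :=
  hasNormalPComplement_of_gtFunctorS hp2 (gtFunctorS_wFun hp2) G S hN

end Functor

end Cfsg.Agent.Helper51
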