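import Mathlib
import Cfsg.Agent.Helper3.E27Defs
import Cfsg.Agent.Helper89.S3S3G2

/-!
Helper51: pieces (A4) `fusion` and (A5) `card_centralizer` of helper3's S3701 plan (`3³ : 2²`),
in "primed" form: the Sylow statement of (A2) is an explicit hypothesis `hP`.
-/

set_option autoImplicit false
set_option linter.unusedVariables false
set_option linter.unusedSectionVars false

namespace Cfsg.Agent.Helper51.E27

open Cfsg.Agent.Helper3.E27

universe u

variable {G : Type u} [Group G] {T : Subgroup G} {τ : Vec → G} {a b : G}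

theorem tau_zero (h : HCfg T τ a b) : τ 0 = 1 := by
  have h1 := h.τ_add 0 0
  rw [add_zero] at h1
  exact (left_eq_mul.1 h1 : τ 0 = 1)

theorem tau_ne_one (h : HCfg T τ a b) {v : Vec} (hv : v ≠ 0) : τ v ≠ 1 := by
  intro h1
  rw [← tau_zero h] at h1
  exact hv (h.τ_inj h1)

theorem tau_comm (h : HCfg T τ a b) (u w : Vec) : τ u * τ w = τ w * τ u := by
  rw [← h.τ_add, ← h.τ_add, add_comm]

theorem commT (h : HCfg T τ a b) : ∀ s ∈ T, ∀ t ∈ T, s * t = t * s := by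
  intro s hs t ht
  obtain ⟨u, rfl⟩ := h.memT s hs
  obtain ⟨w, rfl⟩ := h.memT t ht
  exact tau_comm h u w

theorem conj_tau (h : HCfg T τ a b) (u w : Vec) : τ u * τ w * (τ u)⁻¹ = τ w := by
  rw [tau_comm h u w, mul_inv_cancel_right]

theorem mem_Vs {σ : Vec} : σ ∈ Vs ↔ σ = 1 ∨ σ = sa ∨ σ = sb ∨ σ = sa * sb := by
  simp [Vs]

/-- the representative of the sign vector `σ` in `N_G(T)` -/
def nrep (a b : G) (σ : Vec) : G :=
  if σ = 1 then 1 else if σ = sa then a else if σ = sb then b else a * b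

theorem nrep_one (a b : G) : nrep a b 1 = 1 := by simp [nrep]

theorem nrep_sa (a b : G) : nrep a b sa = a := by
  have h1 : sa ≠ 1 := by decide
  simp [nrep, h1]

theorem nrep_sb (a b : G) : nrep a b sb = b := by
  have h1 : sb ≠ 1 := by decide
  have h2 : sb ≠ sa := by decide
  simp [nrep, h1, h2]

theorem nrep_sab (a b : G) : nrep a b (sa * sb) = a * b := by
  have h1 : sa * sb ≠ 1 := by decide
  have h2 : sa * sb ≠ sa := by decide
  have h3 : sa * sb ≠ sb := by decide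
  simp [nrep, h1, h2, h3]

theorem nrep_conj (h : HCfg T τ a b) {σ : Vec} (hσ : σ ∈ Vs) (w : Vec) :
    nrep a b σ * τ w * (nrep a b σ)⁻¹ = τ (σ * w) := by
  rcases mem_Vs.1 hσ with rfl | rfl | rfl | rfl
  · rw [nrep_one, one_mul, inv_one, mul_one, one_mul]
  · rw [nrep_sa, h.τ_a]
  · rw [nrep_sb, h.τ_b]
  · rw [nrep_sab]
    have : a * b * τ w * (a * b)⁻¹ = a * (b * τ w * b⁻¹) * a⁻¹ := by group
    rw [this, h.τ_b, h.τ_a, mul_assoc]

theorem nrep_mem (h : HCfg T τ a b) {σ : Vec} (hσ : σ ∈ Vs) :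
    nrep a b σ ∈ Subgroup.normalizer (T : Set G) := by
  rcases mem_Vs.1 hσ with rfl | rfl | rfl | rfl
  · rw [nrep_one]; exact Subgroup.one_mem _
  · rw [nrep_sa]; exact h.aN
  · rw [nrep_sb]; exact h.bN
  · rw [nrep_sab]; exact Subgroup.mul_mem _ h.aN h.bN

/-- every element of `N_G(T)` is `τ u * nrep σ` -/
theorem exists_eq_tau_mul_nrep (h : HCfg T τ a b) {n : G}
    (hn : n ∈ Subgroup.normalizer (T : Set G)) :
    ∃ (u σ : Vec), σ ∈ Vs ∧ n = τ u * nrep a b σ := by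
  obtain ⟨t, ht, h1⟩ := h.memN n hn
  obtain ⟨u, rfl⟩ := h.memT t ht
  rcases h1 with rfl | rfl | rfl | rfl
  · exact ⟨u, 1, by simp [Vs], by rw [nrep_one, mul_one]⟩
  · exact ⟨u, sa, by simp [Vs], by rw [nrep_sa]⟩
  · exact ⟨u, sb, by simp [Vs], by rw [nrep_sb]⟩
  · exact ⟨u, sa * sb, by simp [Vs], by rw [nrep_sab]⟩

theorem tau_mul_nrep_conj (h : HCfg T τ a b) (u : Vec) {σ : Vec} (hσ : σ ∈ Vs) (w : Vec) :
    (τ u * nrep a b σ) * τ w * (τ u * nrep a b σ)⁻¹ = τ (σ * w) := by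
  have : (τ u * nrep a b σ) * τ w * (τ u * nrep a b σ)⁻¹ =
      τ u * (nrep a b σ * τ w * (nrep a b σ)⁻¹) * (τ u)⁻¹ := by group
  rw [this, nrep_conj h hσ, conj_tau h]

theorem tau_mul_nrep_mem (h : HCfg T τ a b) (u : Vec) {σ : Vec} (hσ : σ ∈ Vs) :
    τ u * nrep a b σ ∈ Subgroup.normalizer (T : Set G) :=
  Subgroup.mul_mem _ (Subgroup.le_normalizer (h.τ_mem u)) (nrep_mem h hσ)

/-- (A3), proved here independently: the action of `N_G(T)` on `T` in coordinates. -/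
theorem conj_N_aux (h : HCfg T τ a b) (n : G) (hn : n ∈ Subgroup.normalizer (T : Set G)) :
    ∃ σ ∈ Vs, ∀ v, n * τ v * n⁻¹ = τ (σ * v) := by
  obtain ⟨u, σ, hσ, rfl⟩ := exists_eq_tau_mul_nrep h hn
  exact ⟨σ, hσ, fun v => tau_mul_nrep_conj h u hσ v⟩

/-- the decomposition `τ u * nrep σ` is unique -/
theorem tau_mul_nrep_inj (h : HCfg T τ a b) {u u' σ σ' : Vec} (hσ : σ ∈ Vs) (hσ' : σ' ∈ Vs)
    (he : τ u * nrep a b σ = τ u' * nrep a b σ') : u = u' ∧ σ = σ' := by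
  have h1 : σ = σ' := by
    have h2 := tau_mul_nrep_conj h u hσ 1
    rw [he, tau_mul_nrep_conj h u' hσ' 1] at h2
    have h3 := h.τ_inj h2
    rw [mul_one, mul_one] at h3
    exact h3.symm
  subst h1
  exact ⟨h.τ_inj (mul_right_cancel he), rfl⟩

/-- (A4) fusion in `T`, with the Sylow statement of (A2) as a hypothesis. -/
theorem fusion_of [Finite G] (h : HCfg T τ a b)
    (hP : ∃ P : Sylow 3 G, (P : Subgroup G) = T)
    (hloc : ∀ t ∈ T, t ≠ 1 →
      Subgroup.centralizer ({t} : Set G) ≤ Subgroup.normalizer (T : Set G))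
    (v v' : Vec) (hv : v ≠ 0) : IsConj (τ v) (τ v') ↔ ∃ σ ∈ Vs, σ * v = v' := by
  have : Fact (Nat.Prime 3) := ⟨by norm_num⟩
  constructor
  · intro hc
    obtain ⟨c, hc⟩ := isConj_iff.1 hc
    obtain ⟨P, rfl⟩ := hP
    have hcN : c ∈ Subgroup.normalizer ((P : Subgroup G) : Set G) :=
      Cfsg.Agent.Helper89.S3S3.mem_normalizer_of_conj_mem P (commT h) hloc c (τ v) (h.τ_mem v)
        (tau_ne_one h hv) (by rw [hc]; exact h.τ_mem v')
    obtain ⟨σ, hσ, h1⟩ := conj_N_aux h c hcN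
    refine ⟨σ, hσ, ?_⟩
    rw [h1 v] at hc
    exact h.τ_inj hc
  · rintro ⟨σ, hσ, rfl⟩
    rw [isConj_iff]
    exact ⟨nrep a b σ, nrep_conj h hσ v⟩

/-- membership in the centralizer of `τ v`, in coordinates -/
theorem tau_mul_nrep_mem_centralizer (h : HCfg T τ a b) (u : Vec) {σ : Vec} (hσ : σ ∈ Vs)
    (v : Vec) :
    τ u * nrep a b σ ∈ Subgroup.centralizer ({τ v} : Set G) ↔ σ * v = v := by
  rw [Subgroup.mem_centralizer_singleton_iff]
  constructor
  · intro h1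
    have h2 : (τ u * nrep a b σ) * τ v * (τ u * nrep a b σ)⁻¹ = τ v := by
      rw [h1, mul_inv_cancel_right]
    rw [tau_mul_nrep_conj h u hσ] at h2
    exact h.τ_inj h2
  · intro h1
    have h2 := tau_mul_nrep_conj h u hσ v
    rw [h1] at h2
    calc τ u * nrep a b σ * τ v
        = (τ u * nrep a b σ * τ v * (τ u * nrep a b σ)⁻¹) * (τ u * nrep a b σ) := by group
      _ = τ v * (τ u * nrep a b σ) := by rw [h2]

theorem card_Vec : Nat.card Vec = 27 := by
  rw [Nat.card_eq_fintype_card]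
  simp [Vec, ZMod.card]

/-- (A5) centralizer orders; no Sylow hypothesis is needed. -/
theorem card_centralizer [Finite G] (h : HCfg T τ a b)
    (hloc : ∀ t ∈ T, t ≠ 1 →
      Subgroup.centralizer ({t} : Set G) ≤ Subgroup.normalizer (T : Set G))
    (v : Vec) (hv : v ≠ 0) :
    Nat.card (Subgroup.centralizer ({τ v} : Set G)) =
      27 * (Vs.filter (fun σ => σ * v = v)).card := by
  classical
  set F : Finset Vec := Vs.filter (fun σ => σ * v = v) with hF
  have hFmem : ∀ σ : Vec, σ ∈ F ↔ σ ∈ Vs ∧ σ * v = v := fun σ => by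
    rw [hF, Finset.mem_filter]
  let f : Vec × F → Subgroup.centralizer ({τ v} : Set G) := fun z =>
    ⟨τ z.1 * nrep a b z.2.1,
      (tau_mul_nrep_mem_centralizer h z.1 ((hFmem _).1 z.2.2).1 v).2 ((hFmem _).1 z.2.2).2⟩
  have hf : Function.Bijective f := by
    constructor
    · rintro ⟨u, σ, hσ⟩ ⟨u', σ', hσ'⟩ he
      have he' : τ u * nrep a b σ = τ u' * nrep a b σ' := congrArg Subtype.val he
      obtain ⟨h1, h2⟩ := tau_mul_nrep_inj h ((hFmem _).1 hσ).1 ((hFmem _).1 hσ').1 he'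
      subst h1; subst h2; rfl
    · rintro ⟨g, hg⟩
      have hgN : g ∈ Subgroup.normalizer (T : Set G) :=
        hloc (τ v) (h.τ_mem v) (tau_ne_one h hv) hg
      obtain ⟨u, σ, hσ, rfl⟩ := exists_eq_tau_mul_nrep h hgN
      have h1 : σ * v = v := (tau_mul_nrep_mem_centralizer h u hσ v).1 hg
      exact ⟨(u, ⟨σ, (hFmem σ).2 ⟨hσ, h1⟩⟩), rfl⟩
  rw [← Nat.card_congr (Equiv.ofBijective f hf), Nat.card_prod, card_Vec,
    Nat.card_eq_fintype_card, Fintype.card_coe]

end Cfsg.Agent.Helper51.E27
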