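import Mathlib
import Cfsg.Agent.Helper3.E27Defs
import Cfsg.Agent.Helper89.S3S3G2
import Cfsg.Agent.Helper51.E27A4

/-!
Helper51: pieces (A2) `sylow_of_hcfg`, (A3) `conj_N`, (A4) `fusion` of helper3's S3701 plan, with
the exact skeleton signatures ((A5) `card_centralizer` is in `E27A4.lean`).
-/

set_option autoImplicit false
set_option linter.unusedVariables false
set_option linter.unusedSectionVars false

namespace Cfsg.Agent.Helper51.E27

open Cfsg.Agent.Helper3.E27

universe u

variable {G : Type u} [Group G] {T : Subgroup G} {τ : Vec → G} {a b : G}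

theorem card_T (h : HCfg T τ a b) : Nat.card T = 27 := by
  let f : Vec → T := fun v => ⟨τ v, h.τ_mem v⟩
  have hf : Function.Bijective f := by
    constructor
    · intro u w he
      exact h.τ_inj (congrArg Subtype.val he)
    · rintro ⟨t, ht⟩
      obtain ⟨v, hv⟩ := h.memT t ht
      exact ⟨v, Subtype.ext hv⟩
  rw [← Nat.card_congr (Equiv.ofBijective f hf), card_Vec]

theorem card_Vs : Vs.card = 4 := by decide

theorem card_normalizer (h : HCfg T τ a b) :
    Nat.card (Subgroup.normalizer (T : Set G)) = 108 := by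
  classical
  let f : Vec × Vs → Subgroup.normalizer (T : Set G) := fun z =>
    ⟨τ z.1 * nrep a b z.2.1, tau_mul_nrep_mem h z.1 z.2.2⟩
  have hf : Function.Bijective f := by
    constructor
    · rintro ⟨u, σ, hσ⟩ ⟨u', σ', hσ'⟩ he
      have he' : τ u * nrep a b σ = τ u' * nrep a b σ' := congrArg Subtype.val he
      obtain ⟨h1, h2⟩ := tau_mul_nrep_inj h hσ hσ' he'
      subst h1; subst h2; rfl
    · rintro ⟨g, hg⟩
      obtain ⟨u, σ, hσ, rfl⟩ := exists_eq_tau_mul_nrep h hg
      exact ⟨(u, ⟨σ, hσ⟩), rfl⟩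
  rw [← Nat.card_congr (Equiv.ofBijective f hf), Nat.card_prod, card_Vec,
    Nat.card_eq_fintype_card, Fintype.card_coe, card_Vs]

/-- (A2) `T` is a Sylow 3-subgroup of `G`, and `|N_G(T)| = 108`. -/
theorem sylow_of_hcfg [Finite G] {T : Subgroup G} {τ : Vec → G} {a b : G} (h : HCfg T τ a b) :
    (∃ P : Sylow 3 G, (P : Subgroup G) = T) ∧
      Nat.card (Subgroup.normalizer (T : Set G)) = 108 := by
  have hp3 : Nat.Prime 3 := by norm_num
  have : Fact (Nat.Prime 3) := ⟨hp3⟩
  have hT : Nat.card T = 3 ^ 3 := by rw [card_T h]; norm_num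
  have hN := card_normalizer h
  have h81 : ¬ 3 ^ (3 + 1) ∣ Nat.card G := by
    intro hd
    obtain ⟨K, hK, hTK⟩ := Sylow.exists_subgroup_card_pow_succ hd hT
    have hcard : Nat.card (T.subgroupOf K) = 3 ^ 3 := by
      rw [Nat.card_congr (Subgroup.subgroupOfEquivOfLe hTK).toEquiv, hT]
    have hidx : (T.subgroupOf K).index = 3 := by
      have h1 := Subgroup.card_mul_index (T.subgroupOf K)
      rw [hcard, hK] at h1
      have h2 : 3 ^ 3 * (T.subgroupOf K).index = 3 ^ 3 * 3 := by rw [h1]; norm_num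
      exact Nat.eq_of_mul_eq_mul_left (by norm_num) h2
    have hnorm : (T.subgroupOf K).Normal := by
      apply Subgroup.normal_of_index_eq_minFac_card
      rw [hidx, hK, Nat.Prime.pow_minFac hp3 (by norm_num)]
    have hKN : K ≤ Subgroup.normalizer (T : Set G) :=
      (Subgroup.normal_subgroupOf_iff_le_normalizer hTK).1 hnorm
    have hdvd : Nat.card K ∣ Nat.card (Subgroup.normalizer (T : Set G)) :=
      Subgroup.card_dvd_of_le hKN
    rw [hK, hN] at hdvd
    norm_num at hdvd
  have h27 : 3 ^ 3 ∣ Nat.card G := hT ▸ Subgroup.card_subgroup_dvd_card T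
  have hne : Nat.card G ≠ 0 := Nat.card_pos.ne'
  have hfac : (Nat.card G).factorization 3 = 3 := by
    have h1 := (Nat.Prime.pow_dvd_iff_le_factorization hp3 hne).1 h27
    have h2 : ¬ 3 + 1 ≤ (Nat.card G).factorization 3 := fun h4 =>
      h81 ((Nat.Prime.pow_dvd_iff_le_factorization hp3 hne).2 h4)
    omega
  have hT' : Nat.card T = 3 ^ (Nat.card G).factorization 3 := by rw [hfac]; exact hT
  exact ⟨⟨Sylow.ofCard T hT', Sylow.coe_ofCard T hT'⟩, hN⟩

/-- (A3) the action of `N_G(T)` on `T` in coordinates. -/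
theorem conj_N {T : Subgroup G} {τ : Vec → G} {a b : G} (h : HCfg T τ a b)
    (n : G) (hn : n ∈ Subgroup.normalizer (T : Set G)) :
    ∃ σ ∈ Vs, ∀ v, n * τ v * n⁻¹ = τ (σ * v) :=
  conj_N_aux h n hn

/-- (A4) fusion in `T`. -/
theorem fusion [Finite G] {T : Subgroup G} {τ : Vec → G} {a b : G} (h : HCfg T τ a b)
    (hloc : ∀ t ∈ T, t ≠ 1 →
      Subgroup.centralizer ({t} : Set G) ≤ Subgroup.normalizer (T : Set G))
    (v v' : Vec) (hv : v ≠ 0) : IsConj (τ v) (τ v') ↔ ∃ σ ∈ Vs, σ * v = v' :=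
  fusion_of h (sylow_of_hcfg h).1 hloc v v' hv

end Cfsg.Agent.Helper51.E27
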