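import Cfsg.Agent.Helper51.SidkiQuot

/-!
# Sidki pairs: first reductions for a minimal counterexample (helper51, for S3048)
-/

set_option autoImplicit false
universe u

namespace Cfsg.Agent.Helper51.Sidki

open Cfsg Cfsg.Agent.Lib

variable {G : Type u} [Group G]

theorem pCore_two_quotient_eq_bot : pCore 2 (G ⧸ pCore 2 G) = ⊥ := by
  have h1 : IsPGroup 2 ((pCore 2 (G ⧸ pCore 2 G)).comap (QuotientGroup.mk' (pCore 2 G))) := by
    apply IsPGroup.comap_of_ker_isPGroup (isPGroup_pCore 2)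
    rw [QuotientGroup.ker_mk']
    exact isPGroup_pCore 2
  have h2 : (pCore 2 (G ⧸ pCore 2 G)).comap (QuotientGroup.mk' (pCore 2 G)) ≤ pCore 2 G :=
    le_pCore inferInstance h1
  rw [eq_bot_iff]
  intro y hy
  obtain ⟨x, rfl⟩ := QuotientGroup.mk_surjective y
  rw [Subgroup.mem_bot, QuotientGroup.eq_one_iff]
  exact h2 hy

theorem card_quotient_lt [Finite G] {Q : Subgroup G} [Q.Normal] (hQ : Q ≠ ⊥) :
    Nat.card (G ⧸ Q) < Nat.card G := by
  have h1 : Nat.card G = Nat.card (G ⧸ Q) * Nat.card Q := Subgroup.card_eq_card_quotient_mul_card_subgroup Q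
  have h2 : 1 < Nat.card Q := by
    rw [Subgroup.one_lt_card_iff_ne_bot]
    exact hQ
  have h3 : 0 < Nat.card (G ⧸ Q) := Nat.card_pos
  nlinarith

theorem card_lt_of_le_of_ne [Finite G] {W V : Subgroup G} (hWV : W ≤ V) (hne : W ≠ V) :
    Nat.card W < Nat.card V := by
  by_contra h
  rw [not_lt] at h
  exact hne (Subgroup.eq_of_le_of_card_ge hWV h)

/-- Step 2: `O_2(G) = 1`. -/
theorem core_eq_bot [Finite G] (V : Subgroup G) (hV : Cfsg.IsElementaryAbelian 2 V) (hV1 : V ≠ ⊥)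
    (hS : Cfsg.IsSidkiPair V) (hVO : V ⊓ Cfsg.pCore 2 G = ⊥)
    (hminG : ∀ (H : Type u) [Group H] [Finite H] (W : Subgroup H), Nat.card H < Nat.card G →
      Cfsg.IsElementaryAbelian 2 W → W ≠ ⊥ → Cfsg.IsSidkiPair W → W ⊓ Cfsg.pCore 2 H ≠ ⊥) :
    pCore 2 G = ⊥ := by
  by_contra hne
  have key := hminG (G ⧸ pCore 2 G) (V.map (QuotientGroup.mk' (pCore 2 G))) (card_quotient_lt hne)
    (elem_map hV _) (map_mk_ne_bot hV1 _ hVO) (isSidkiPair_map_mk hV hS _ hVO)
  rw [pCore_two_quotient_eq_bot, inf_bot_eq] at key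
  exact key rfl

/-- If `N` is a central normal subgroup of odd order and `O_2(G) = 1` then `O_2(G ⧸ N) = 1`. -/
theorem pCore_two_quotient_central_odd [Finite G] (hG : pCore 2 G = ⊥) (N : Subgroup G) [N.Normal]
    (hNZ : N ≤ Subgroup.center G) (hodd : Odd (Nat.card N)) : pCore 2 (G ⧸ N) = ⊥ := by
  have : Fact (Nat.Prime 2) := ⟨Nat.prime_two⟩
  set P := pCore 2 (G ⧸ N) with hP
  set R := P.comap (QuotientGroup.mk' N) with hR
  have hRn : R.Normal := inferInstance
  -- `R` is nilpotent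
  have hPnil : Group.IsNilpotent P := (isPGroup_pCore (G := G ⧸ N) 2).isNilpotent
  have hnil : Group.IsNilpotent R := by
    apply Subgroup.isNilpotent_of_ker_le_center ((QuotientGroup.mk' N).subgroupComap P)
    intro x hx
    rw [MonoidHom.mem_ker] at hx
    have h1 : (QuotientGroup.mk' N) (x : G) = 1 := by
      have := congrArg Subtype.val hx
      exact this
    have h2 : (x : G) ∈ N := by
      rw [← QuotientGroup.eq_one_iff]
      exact h1
    rw [Subgroup.mem_center_iff]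
    intro y
    apply Subtype.ext
    have := Subgroup.mem_center_iff.1 (hNZ h2) (y : G)
    simpa using this
  have hcop : (Nat.card R).Coprime 2 := by
    have := relIndex_pCore_coprime_of_nilpotent 2 hRn hnil
    rwa [hG, Subgroup.relIndex_bot_left] at this
  rw [eq_bot_iff]
  intro y hy
  obtain ⟨x, rfl⟩ := QuotientGroup.mk'_surjective N y
  have hxR : x ∈ R := hy
  obtain ⟨k, hk⟩ := (isPGroup_pCore (G := G ⧸ N) 2) ⟨_, hy⟩
  have hk' : ((QuotientGroup.mk' N) x) ^ (2 ^ k) = 1 := by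
    have := congrArg Subtype.val hk
    simpa using this
  have h1 : orderOf ((QuotientGroup.mk' N) x) ∣ 2 ^ k := orderOf_dvd_of_pow_eq_one hk'
  have h2 : orderOf ((QuotientGroup.mk' N) x) ∣ Nat.card R := by
    have h3 : orderOf ((QuotientGroup.mk' N) x) ∣ orderOf x := orderOf_map_dvd _ x
    have h4 : orderOf x ∣ Nat.card R := by
      have := orderOf_dvd_natCard (⟨x, hxR⟩ : R)
      rwa [← Subgroup.orderOf_coe] at this
    exact h3.trans h4
  have h5 : orderOf ((QuotientGroup.mk' N) x) = 1 := by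
    have h6 : Nat.Coprime (2 ^ k) (Nat.card R) := (Nat.Coprime.pow_left k hcop.symm)
    exact Nat.eq_one_of_dvd_coprimes h6 h1 h2
  rw [Subgroup.mem_bot]
  exact orderOf_eq_one_iff.1 h5

theorem ctx_of_min [Finite G] (V : Subgroup G) (hV : Cfsg.IsElementaryAbelian 2 V) (hV1 : V ≠ ⊥)
    (hS : Cfsg.IsSidkiPair V) (hVO : V ⊓ Cfsg.pCore 2 G = ⊥)
    (hminG : ∀ (H : Type u) [Group H] [Finite H] (W : Subgroup H), Nat.card H < Nat.card G →
      Cfsg.IsElementaryAbelian 2 W → W ≠ ⊥ → Cfsg.IsSidkiPair W → W ⊓ Cfsg.pCore 2 H ≠ ⊥)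
    (hminV : ∀ W : Subgroup G, Nat.card W < Nat.card V → Cfsg.IsElementaryAbelian 2 W → W ≠ ⊥ →
      Cfsg.IsSidkiPair W → W ⊓ Cfsg.pCore 2 G ≠ ⊥) : Ctx V := by
  have hcore : pCore 2 G = ⊥ := core_eq_bot V hV hV1 hS hVO hminG
  refine ⟨hV, hV1, hS, hcore, ?_, ?_, ?_, ?_⟩
  · -- `G = ⟨V^G⟩`
    by_contra hne
    obtain ⟨x, hx, hx1, hxc⟩ := minG_subgroup hminG hne Subgroup.le_normalClosure hV hV1
      (relSidki_of_isSidkiPair hS _)
    rw [pCoreOf_eq_bot_of_normal Subgroup.normalClosure_normal hcore, Subgroup.mem_bot] at hxc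
    exact hx1 hxc
  · intro H W hH hWH hW hW1 hrel
    exact minG_subgroup hminG hH hWH hW hW1 hrel
  · intro N hN hN1 hNZ hodd
    have := hN
    -- `V ⊓ N = ⊥`
    have hVN : V ⊓ N = ⊥ := by
      rw [eq_bot_iff]
      intro x hx
      have h2 : x ^ 2 = 1 := hV.2 x hx.1
      have ho : Odd (orderOf x) := by
        have h3 : orderOf x ∣ Nat.card N := by
          have := orderOf_dvd_natCard (⟨x, hx.2⟩ : N)
          rwa [← Subgroup.orderOf_coe] at this
        exact Odd.of_dvd_nat hodd h3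
      rw [Subgroup.mem_bot]
      exact eq_one_of_sq_eq_one_of_odd ho h2
    have key := hminG (G ⧸ N) (V.map (QuotientGroup.mk' N)) (card_quotient_lt hN1)
      (elem_map hV _) (map_mk_ne_bot hV1 _ hVN) (isSidkiPair_map_mk hV hS _ hVN)
    rw [pCore_two_quotient_central_odd hcore N hNZ hodd, inf_bot_eq] at key
    exact key rfl
  · intro W hWV hne hW1 hSW
    have key := hminV W (card_lt_of_le_of_ne hWV hne) (elem_mono hV hWV) hW1 hSW
    rw [hcore, inf_bot_eq] at key
    exact key rfl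

end Cfsg.Agent.Helper51.Sidki
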