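-- helper51: piece (O7-G2) of helper43's S2647: transport of `SelfNorm` / `NoStrClosed` along a group isomorphism.
import Cfsg.Agent.Helper85.SimpleCrit

set_option autoImplicit false

namespace Cfsg.Agent.Helper51.O7

open Cfsg Cfsg.FusionSystem Cfsg.Agent.Helper85

variable {G : Type*} [Group G]

variable {G₂ : Type*} [Group G₂]

/-- G2a -/
theorem selfNorm_comap_equiv (e : G ≃* G₂) {S : Subgroup G₂} (h : SelfNorm S) :
    SelfNorm (S.comap e.toMonoidHom) := by
  intro g hg
  have hmem : ∀ x : G, x ∈ S.comap e.toMonoidHom ↔ e x ∈ S := fun x => Iff.rfl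
  have hg' : e g ∈ Subgroup.normalizer (S : Set G₂) := by
    rw [Subgroup.mem_normalizer_iff] at hg ⊢
    intro y
    have := hg (e.symm y)
    rw [hmem, hmem, map_mul, map_mul, map_inv, e.apply_symm_apply] at this
    exact this
  obtain ⟨s, hs, hsx⟩ := h _ hg'
  refine ⟨e.symm s, ?_, ?_⟩
  · rw [hmem, e.apply_symm_apply]
    exact hs
  · intro x hx
    apply e.injective
    rw [map_mul, map_mul, map_inv, map_mul, map_mul, map_inv, e.apply_symm_apply]
    exact hsx _ ((hmem x).1 hx)

/-- G2b -/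
theorem noStrClosed_comap_equiv (e : G ≃* G₂) {S : Subgroup G₂} (h : NoStrClosed S) :
    NoStrClosed (S.comap e.toMonoidHom) := by
  intro T hT hcl
  have hmem : ∀ x : G, x ∈ S.comap e.toMonoidHom ↔ e x ∈ S := fun x => Iff.rfl
  have hmemT : ∀ y : G₂, y ∈ T.map e.toMonoidHom ↔ e.symm y ∈ T := by
    intro y
    constructor
    · rintro ⟨t, ht, rfl⟩
      show e.symm (e t) ∈ T
      rw [e.symm_apply_apply]
      exact ht
    · intro hy
      exact ⟨e.symm y, hy, e.apply_symm_apply y⟩
  have h1 : T.map e.toMonoidHom ≤ S := by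
    rintro _ ⟨t, ht, rfl⟩
    exact (hmem t).1 (hT ht)
  have h2 : ∀ t ∈ T.map e.toMonoidHom, ∀ g : G₂, g * t * g⁻¹ ∈ S →
      g * t * g⁻¹ ∈ T.map e.toMonoidHom := by
    intro t ht g hg
    rw [hmemT] at ht ⊢
    have h3 := hcl _ ht (e.symm g) (by
      rw [hmem, map_mul, map_mul, map_inv, e.apply_symm_apply, e.apply_symm_apply]
      exact hg)
    rw [map_mul, map_mul, map_inv]
    exact h3
  rcases h _ h1 h2 with h3 | h3
  · left
    rw [eq_bot_iff]
    intro t ht
    have : e t ∈ T.map e.toMonoidHom := ⟨t, ht, rfl⟩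
    rw [h3, Subgroup.mem_bot] at this
    rw [Subgroup.mem_bot]
    have h4 := congrArg e.symm this
    rwa [e.symm_apply_apply, map_one] at h4
  · right
    apply le_antisymm hT
    intro x hx
    have : e x ∈ T.map e.toMonoidHom := by
      rw [h3]
      exact (hmem x).1 hx
    rw [hmemT, e.symm_apply_apply] at this
    exact this

end Cfsg.Agent.Helper51.O7
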