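import Mathlib
import Cfsg.Agent.Helper2.CS2Defs
import Cfsg.Agent.Helper2.CS2Defs2
import Cfsg.Agent.Helper2.CS2Basic
import Cfsg.Agent.Helper80.CS2P0a
import Cfsg.Agent.S4035
import Cfsg.Agent.S4153

/-!
Helper51: piece (B6) of helper2's S4284 plan (class sizes `{1, m, mn}`): `caseB_b_good`.
-/

set_option autoImplicit false
set_option linter.unusedVariables false
set_option linter.unusedSectionVars false

namespace Cfsg.Agent.Helper51.CS2

open Cfsg.Agent.Helper2.CS2 Subgroup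

variable {G : Type*} [Group G]

/-- class size as an index, in the `ncard` form -/
theorem ncard_carrier_eq_idx (x : G) : (ConjClasses.mk x).carrier.ncard = idx x := by
  rw [← ConjAct.orbit_eq_carrier_conjClasses, ← MulAction.index_stabilizer,
    ConjAct.stabilizer_eq_centralizer]
  rfl

/-- a subgroup generated by pairwise commuting `r`-elements is an `r`-group -/
theorem isPGroup_closure_of_comm {r : ℕ} (k : Set G) (hcomm : ∀ x ∈ k, ∀ y ∈ k, x * y = y * x)
    (hk : ∀ x ∈ k, ∃ j : ℕ, x ^ r ^ j = 1) : IsPGroup r (closure k) := by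
  have hc : IsMulCommutative (closure k) := isMulCommutative_closure hcomm
  have key : ∀ g ∈ closure k, ∃ j : ℕ, g ^ r ^ j = 1 := by
    intro g hg
    induction hg using closure_induction with
    | mem x hx => exact hk x hx
    | one => exact ⟨0, by simp⟩
    | mul x y hx hy ihx ihy =>
      obtain ⟨a, ha⟩ := ihx
      obtain ⟨b, hb⟩ := ihy
      refine ⟨a + b, ?_⟩
      have hxy : Commute x y := setLike_mul_comm hx hy
      rw [hxy.mul_pow, pow_add, pow_mul, ha, one_pow, one_mul, mul_comm (r ^ a), pow_mul, hb,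
        one_pow]
    | inv x hx ihx =>
      obtain ⟨a, ha⟩ := ihx
      exact ⟨a, by rw [inv_pow, ha, inv_one]⟩
  intro g
  obtain ⟨j, hj⟩ := key g.1 g.2
  exact ⟨j, Subtype.ext (by simpa using hj)⟩

theorem IsPElt.pow_eq_one {p : ℕ} {x : G} (hx : IsPElt p x) : ∃ j : ℕ, x ^ p ^ j = 1 := by
  obtain ⟨k, hk⟩ := hx
  exact ⟨k, by rw [← hk, pow_orderOf_eq_one]⟩

theorem IsPElt.conj {p : ℕ} {x : G} (hx : IsPElt p x) (γ : G) : IsPElt p (γ * x * γ⁻¹) := by
  obtain ⟨k, hk⟩ := hx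
  refine ⟨k, ?_⟩
  rw [← hk]
  have : γ * x * γ⁻¹ = MulAut.conj γ x := by simp [MulAut.conj_apply]
  rw [this, MulEquiv.orderOf_eq]

theorem Good.conj {m r : ℕ} {x : G} [Finite G] (hx : Good m r x) (γ : G) :
    Good m r (γ * x * γ⁻¹) :=
  ⟨hx.1, hx.2.1, IsPElt.conj hx.2.2.1 γ, by rw [idx_conj]; exact hx.2.2.2⟩

variable [Finite G] {m n : ℕ}

/-- the normal closure of a good element (all of whose conjugates commute) centralizes every
element of class size `m` -/
theorem normalClosure_le_Cn_of_good {r : ℕ} {x : G} (hx : Good m r x)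
    (ha : ∀ γ δ : G, Commute (γ * x * γ⁻¹) (δ * x * δ⁻¹)) {b : G} (hb : idx b = m) :
    normalClosure ({x} : Set G) ≤ Cn b := by
  have hr : Fact r.Prime := ⟨hx.1⟩
  have hconj : ∀ y ∈ Group.conjugatesOfSet ({x} : Set G), ∃ γ : G, y = γ * x * γ⁻¹ := by
    intro y hy
    rw [Group.mem_conjugatesOfSet_iff] at hy
    obtain ⟨a, ha', hay⟩ := hy
    rw [Set.mem_singleton_iff] at ha'
    subst ha'
    obtain ⟨c, hc⟩ := isConj_iff.1 hay
    exact ⟨c, hc.symm⟩
  have hP : IsPGroup r (normalClosure ({x} : Set G)) := by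
    apply isPGroup_closure_of_comm
    · intro y hy z hz
      obtain ⟨γ, rfl⟩ := hconj y hy
      obtain ⟨δ, rfl⟩ := hconj z hz
      exact ha γ δ
    · intro y hy
      obtain ⟨γ, rfl⟩ := hconj y hy
      exact IsPElt.pow_eq_one (IsPElt.conj hx.2.2.1 γ)
  obtain ⟨j, hj⟩ := IsPGroup.iff_card.1 hP
  apply normal_le_Cn_of_coprime
  rw [hj, hb]
  exact Nat.Coprime.pow_left j ((Nat.Prime.coprime_iff_not_dvd hx.1).2 hx.2.1)

/-- (B6) -/
theorem caseB_b_good (h : Hyp G m n) (hB : CaseB G m) (hS : StructB G m) {r : ℕ} {x : G}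
    (hx : Good m r x) {t : ℕ} (ht : t.Prime) (htm : t ∣ m) {g : G} (hg : IsPElt t g)
    (hgK : ∃ γ : G, ¬ Commute g (γ * x * γ⁻¹)) {b : G} (hb : IsPElt r b) (hbc : b ∉ center G)
    (hgb : Commute g b) :
    Good m r b ∧ ∀ γ δ : G, Commute (γ * x * γ⁻¹) (δ * b * δ⁻¹) := by
  have hr : Fact r.Prime := ⟨hx.1⟩
  have hrm : ¬ r ∣ m := hx.2.1
  have hrt : r ≠ t := fun e => hrm (e ▸ htm)
  -- `g` is noncentral
  have hgc : g ∉ center G := by
    intro hgc
    obtain ⟨γ, hγ⟩ := hgK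
    exact hγ ((mem_center_iff.1 hgc _).symm)
  have hgmn : idx g = m * n := Cfsg.Agent.Helper80.CS2.CaseB.idx_eq h hB ht htm hg hgc
  have hcop_gb : (orderOf g).Coprime (orderOf b) := by
    obtain ⟨k, hk⟩ := hg
    obtain ⟨l, hl⟩ := hb
    rw [hk, hl]
    exact Nat.Coprime.pow k l ((Nat.coprime_primes ht hx.1).2 (Ne.symm hrt))
  -- the index of `b` is `m`
  have hbm : idx b = m := by
    rcases h.idx_of_not_mem_center hbc with h1 | h1
    · exact h1
    · exfalso
      have h2 : Cn b ≤ Cn g := h.max h1 hgb.symm hcop_gb.symm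
      -- a conjugate of `x` commuting with `b`
      obtain ⟨P, hbP⟩ := Cfsg.Agent.S4153.exists_sylow_mem (p := r) hb
      have hnd : ¬ r ∣ (ConjClasses.mk x).carrier.ncard := by
        rw [ncard_carrier_eq_idx, hx.2.2.2]; exact hrm
      obtain ⟨γ, hγ⟩ := Cfsg.Agent.S4035.exists_conj_centralized P x hnd
      have h3 : γ * x * γ⁻¹ ∈ Cn b := by
        rw [mem_Cn_iff']
        exact (hγ b hbP).symm
      have h4 : Commute g (γ * x * γ⁻¹) := (mem_Cn_iff'.1 (h2 h3)).symm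
      obtain ⟨γ', hγ'⟩ := hgK
      apply hγ'
      have h5 := hS.c (Good.conj hx γ) ht htm hg h4 (γ' * γ⁻¹)
      have e : γ' * γ⁻¹ * (γ * x * γ⁻¹) * (γ' * γ⁻¹)⁻¹ = γ' * x * γ'⁻¹ := by group
      rwa [e] at h5
  refine ⟨⟨hx.1, hrm, hb, hbm⟩, ?_⟩
  intro γ δ
  have h6 : normalClosure ({x} : Set G) ≤ Cn (δ * b * δ⁻¹) :=
    normalClosure_le_Cn_of_good hx (hS.a hx) (by rw [idx_conj]; exact hbm)
  have h7 : γ * x * γ⁻¹ ∈ normalClosure ({x} : Set G) :=
    (normalClosure_normal).conj_mem x (subset_normalClosure (Set.mem_singleton x)) γ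
  exact mem_Cn_iff'.1 (h6 h7)

end Cfsg.Agent.Helper51.CS2
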