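/-
helper51: the strong form of the Alperin-Goldschmidt theorem, part 3.
General lemmas on the graph of Sylow subgroups: a proper subgroup containing `Γ_{S,1}` forces
disconnectedness; in a disconnected group there is a least normal subgroup of order divisible
by `p`.
-/
import Cfsg.Agent.Helper34.StronglyEmbedded
import Cfsg.Agent.Helper49.StronglyEmbedded
import Cfsg.Agent.S3058

set_option autoImplicit false

namespace Cfsg.Agent.Helper51.AG

open Cfsg Cfsg.Agent.Helper49

section general
variable {X : Type*} [Group X] {p : ℕ}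

theorem mem_sylow_smul {g x : X} {S : Sylow p X} :
    x ∈ ((g • S : Sylow p X) : Subgroup X) ↔ g⁻¹ * x * g ∈ (S : Subgroup X) := by
  rw [Sylow.coe_subgroup_smul, Subgroup.mem_pointwise_smul_iff_inv_smul_mem, MulAut.smul_def,
    ← map_inv, MulAut.conj_apply, inv_inv]

theorem sylow_inf_smul_ne_bot {h z : X} {S : Sylow p X}
    (hne : ((h • S : Sylow p X) : Subgroup X) ⊓ ((z • S : Sylow p X) : Subgroup X) ≠ ⊥) :
    (S : Subgroup X) ⊓ (((h⁻¹ * z) • S : Sylow p X) : Subgroup X) ≠ ⊥ := by
  intro hbot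
  apply hne
  rw [eq_bot_iff]
  intro a ha
  rw [Subgroup.mem_inf, mem_sylow_smul, mem_sylow_smul] at ha
  have h1 : h⁻¹ * a * h ∈ (S : Subgroup X) ⊓ (((h⁻¹ * z) • S : Sylow p X) : Subgroup X) := by
    rw [Subgroup.mem_inf, mem_sylow_smul]
    refine ⟨ha.1, ?_⟩
    have e : (h⁻¹ * z)⁻¹ * (h⁻¹ * a * h) * (h⁻¹ * z) = z⁻¹ * a * z := by group
    rw [e]
    exact ha.2
  rw [hbot, Subgroup.mem_bot] at h1
  rw [Subgroup.mem_bot]
  calc a = h * (h⁻¹ * a * h) * h⁻¹ := by group
    _ = 1 := by rw [h1]; group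

/-- a proper subgroup containing `Γ_{S,1}(X)` (with `S ≠ 1`) shows that the Sylow graph is
disconnected -/
theorem not_connected_of_gamma_le [Finite X] [Fact p.Prime] (S : Sylow p X)
    (hS : (S : Subgroup X) ≠ ⊥) (H : Subgroup X)
    (hΓ : Cfsg.kGeneratedCore p 1 (S : Subgroup X) ≤ H) (hH : H ≠ ⊤) :
    ¬ Cfsg.IsSylowChainConnected p X := by
  intro hconn
  rw [connected_iff_sreach] at hconn
  have key : ∀ T : Sylow p X, SReach p S T → ∃ h ∈ H, T = h • S := by
    intro T hT
    induction hT with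
    | refl => exact ⟨1, H.one_mem, (one_smul _ _).symm⟩
    | @tail b c _ hbc ih =>
      obtain ⟨h, hh, rfl⟩ := ih
      obtain ⟨z, hz⟩ := MulAction.exists_smul_eq X S c
      subst hz
      refine ⟨z, ?_, rfl⟩
      have h1 := sylow_inf_smul_ne_bot hbc.2
      have h2 := Cfsg.Agent.Helper34.mem_of_inf_conj_ne_bot S H hΓ _ h1
      have := H.mul_mem hh h2
      simpa using this
  apply hH
  rw [eq_top_iff]
  intro x _
  obtain ⟨h, hh, hx⟩ := key (x • S) (hconn S (x • S))
  have h1 : (h⁻¹ * x) • S = S := by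
    rw [mul_smul, hx, inv_smul_smul]
  rw [Sylow.smul_eq_iff_mem_normalizer] at h1
  have h2 := hΓ (Cfsg.Agent.Helper34.normalizer_le_kGeneratedCore_one S _ le_rfl hS h1)
  have := H.mul_mem hh h2
  simpa using this

/-- in a group with disconnected Sylow graph there is a least normal subgroup of order divisible
by `p` -/
theorem exists_least_normal [Finite X] [Fact p.Prime] (hnc : ¬ Cfsg.IsSylowChainConnected p X)
    (hp : p ∣ Nat.card X) :
    ∃ M : Subgroup X, M.Normal ∧ p ∣ Nat.card ↥M ∧
      ∀ Y : Subgroup X, Y.Normal → p ∣ Nat.card ↥Y → M ≤ Y := by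
  classical
  have hne : ∃ n : ℕ, ∃ M : Subgroup X, M.Normal ∧ p ∣ Nat.card ↥M ∧ Nat.card ↥M = n :=
    ⟨Nat.card (⊤ : Subgroup X), ⊤, inferInstance, by rw [Subgroup.card_top]; exact hp, rfl⟩
  obtain ⟨M, hMn, hMp, hMmin⟩ := Nat.find_spec hne
  refine ⟨M, hMn, hMp, ?_⟩
  intro Y hYn hYp
  have hK := Cfsg.Agent.S3058.result p hnc M Y hMp hYp
  have hKn : (M ⊓ Y).Normal := Subgroup.normal_inf_normal M Y
  have hle : Nat.card ↥(M ⊓ Y) ≤ Nat.card ↥M := Subgroup.card_le_of_le inf_le_left
  have hge : Nat.find hne ≤ Nat.card ↥(M ⊓ Y) :=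
    Nat.find_min' hne ⟨M ⊓ Y, hKn, hK, rfl⟩
  have heq : M ⊓ Y = M := by
    apply Subgroup.eq_of_le_of_card_ge inf_le_left
    rw [hMmin]
    exact hge
  rw [← heq]
  exact inf_le_right

end general

section quot
variable {G : Type*} [Group G]

/-- the quotient `N_G(H)/H` -/
abbrev NQ (H : Subgroup G) : Type _ :=
  ↥(Subgroup.normalizer (H : Set G)) ⧸ H.subgroupOf (Subgroup.normalizer (H : Set G))

/-- the quotient map `N_G(H) → N_G(H)/H` -/
abbrev qmap (H : Subgroup G) : ↥(Subgroup.normalizer (H : Set G)) →* NQ H :=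
  QuotientGroup.mk' _

theorem qmap_surjective (H : Subgroup G) : Function.Surjective (qmap H) :=
  QuotientGroup.mk'_surjective _

theorem ker_qmap (H : Subgroup G) :
    (qmap H).ker = H.subgroupOf (Subgroup.normalizer (H : Set G)) :=
  QuotientGroup.ker_mk' _

/-- the image of `Y` in `N_G(H)/H` -/
def img (H Y : Subgroup G) : Subgroup (NQ H) :=
  (Y.subgroupOf (Subgroup.normalizer (H : Set G))).map (qmap H)

/-- the full preimage in `G` of a subgroup of `N_G(H)/H` -/
def lift (H : Subgroup G) (D : Subgroup (NQ H)) : Subgroup G :=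
  (D.comap (qmap H)).map (Subgroup.normalizer (H : Set G)).subtype

theorem lift_le (H : Subgroup G) (D : Subgroup (NQ H)) : lift H D ≤ Subgroup.normalizer (H : Set G) :=
  Subgroup.map_subtype_le _

theorem le_lift (H : Subgroup G) (D : Subgroup (NQ H)) : H ≤ lift H D := by
  intro x hx
  refine ⟨⟨x, Subgroup.le_normalizer hx⟩, ?_, rfl⟩
  rw [SetLike.mem_coe, Subgroup.mem_comap]
  have : (qmap H) ⟨x, Subgroup.le_normalizer hx⟩ = 1 := by
    rw [← MonoidHom.mem_ker, ker_qmap, Subgroup.mem_subgroupOf]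
    exact hx
  rw [this]
  exact D.one_mem

theorem subgroupOf_lift (H : Subgroup G) (D : Subgroup (NQ H)) :
    (lift H D).subgroupOf (Subgroup.normalizer (H : Set G)) = D.comap (qmap H) := by
  unfold lift
  rw [Subgroup.subgroupOf, Subgroup.comap_map_eq_self_of_injective (Subgroup.subtype_injective _)]

theorem img_lift (H : Subgroup G) (D : Subgroup (NQ H)) : img H (lift H D) = D := by
  unfold img
  rw [subgroupOf_lift]
  exact Subgroup.map_comap_eq_self_of_surjective (qmap_surjective H) D

theorem lift_img (H Y : Subgroup G) (hHY : H ≤ Y) (hYN : Y ≤ Subgroup.normalizer (H : Set G)) :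
    lift H (img H Y) = Y := by
  unfold lift img
  rw [Subgroup.comap_map_eq, ker_qmap]
  have : Y.subgroupOf (Subgroup.normalizer (H : Set G)) ⊔
      H.subgroupOf (Subgroup.normalizer (H : Set G)) =
      Y.subgroupOf (Subgroup.normalizer (H : Set G)) := by
    apply sup_of_le_left
    intro x hx
    rw [Subgroup.mem_subgroupOf] at hx ⊢
    exact hHY hx
  rw [this, Subgroup.map_subgroupOf_eq_of_le hYN]

theorem lift_mono (H : Subgroup G) {D D' : Subgroup (NQ H)} (h : D ≤ D') : lift H D ≤ lift H D' :=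
  Subgroup.map_mono (Subgroup.comap_mono h)

theorem card_img (H Y : Subgroup G) (hHY : H ≤ Y) (hYN : Y ≤ Subgroup.normalizer (H : Set G)) :
    Nat.card ↥(img H Y) = H.relIndex Y := by
  unfold img
  have h1 := Subgroup.relIndex_map_map (qmap H) ⊥
    (Y.subgroupOf (Subgroup.normalizer (H : Set G)))
  rw [Subgroup.map_bot, Subgroup.relIndex_bot_left, ker_qmap, bot_sup_eq] at h1
  have : Y.subgroupOf (Subgroup.normalizer (H : Set G)) ⊔
      H.subgroupOf (Subgroup.normalizer (H : Set G)) =
      Y.subgroupOf (Subgroup.normalizer (H : Set G)) := by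
    apply sup_of_le_left
    intro x hx
    rw [Subgroup.mem_subgroupOf] at hx ⊢
    exact hHY hx
  rw [this, Subgroup.relIndex_subgroupOf hYN] at h1
  exact h1

theorem img_normal (H Y : Subgroup G) (hYN : Y ≤ Subgroup.normalizer (H : Set G))
    (hNY : Subgroup.normalizer (H : Set G) ≤ Subgroup.normalizer (Y : Set G)) :
    (img H Y).Normal := by
  unfold img
  exact Subgroup.Normal.map ((Subgroup.normal_subgroupOf_iff_le_normalizer hYN).mpr hNY) _
    (qmap_surjective H)

theorem normalizer_le_normalizer_lift (H : Subgroup G) (D : Subgroup (NQ H)) (hD : D.Normal) :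
    Subgroup.normalizer (H : Set G) ≤ Subgroup.normalizer ((lift H D : Subgroup G) : Set G) := by
  have h1 : ((lift H D).subgroupOf (Subgroup.normalizer (H : Set G))).Normal := by
    rw [subgroupOf_lift]
    exact hD.comap _
  exact (Subgroup.normal_subgroupOf_iff_le_normalizer (lift_le H D)).mp h1

/-- an element of `N_G(H)` whose image normalizes `D` normalizes the preimage of `D` -/
theorem mem_normalizer_lift (H : Subgroup G) (D : Subgroup (NQ H))
    (x : ↥(Subgroup.normalizer (H : Set G)))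
    (hx : qmap H x ∈ Subgroup.normalizer (D : Set (NQ H))) :
    (x : G) ∈ Subgroup.normalizer ((lift H D : Subgroup G) : Set G) := by
  have h1 : x ∈ Subgroup.normalizer
      ((D.comap (qmap H) : Subgroup ↥(Subgroup.normalizer (H : Set G))) :
        Set ↥(Subgroup.normalizer (H : Set G))) := by
    rw [← Subgroup.comap_normalizer_eq_of_surjective D (qmap_surjective H)]
    exact hx
  exact Subgroup.le_normalizer_map (Subgroup.normalizer (H : Set G)).subtype ⟨x, h1, rfl⟩

theorem lift_ne_of_ne_bot (H : Subgroup G) (D : Subgroup (NQ H)) (hD : D ≠ ⊥) : H ≠ lift H D := by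
  intro heq
  apply hD
  have h1 := img_lift H D
  rw [← heq] at h1
  rw [← h1]
  unfold img
  rw [Subgroup.map_eq_bot_iff, ker_qmap]

end quot

end Cfsg.Agent.Helper51.AG
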