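/-
helper51: the strong form of the Alperin-Goldschmidt theorem, part 1.
Relative Sylow and Frattini lemmas inside a finite group, the elementary "essential" condition
`Ess P Q` (the hypothesis of the step of helper31's `dec_of_step`), and its first consequences:
`C_P(Q) ≤ Q` and `O_{p',p}(N_G(Q)) = Q C_G(Q)`.
-/
import Cfsg.Agent.Helper31.Fusion
import Cfsg.Agent.Helper31.LocalCore
import Cfsg.Agent.S1854

set_option autoImplicit false

namespace Cfsg.Agent.Helper51.AG

open Cfsg Cfsg.Agent.Helper31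

variable {G : Type*} [Group G] [Finite G] {p : ℕ} [Fact p.Prime]

/-- a Sylow `p`-subgroup of a subgroup `K`, as a subgroup of `G` -/
theorem exists_rel_sylow (K : Subgroup G) :
    ∃ T : Subgroup G, T ≤ K ∧ IsPGroup p ↥T ∧ ¬ p ∣ T.relIndex K := by
  obtain ⟨P₀⟩ : Nonempty (Sylow p ↥K) := inferInstance
  refine ⟨(P₀ : Subgroup ↥K).map K.subtype, Subgroup.map_subtype_le _, P₀.isPGroup'.map _, ?_⟩
  rw [Subgroup.relIndex, Subgroup.subgroupOf,
    Subgroup.comap_map_eq_self_of_injective (Subgroup.subtype_injective K)]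
  exact P₀.not_dvd_index

/-- the intersection of a Sylow subgroup of `N` with a normal subgroup `K` of `N` is Sylow in `K` -/
theorem rel_sylow_inf (N K S : Subgroup G) (hKN : K ≤ N)
    (hNK : N ≤ Subgroup.normalizer (K : Set G)) (hS : IsPGroup p ↥S)
    (hsyl : ¬ p ∣ S.relIndex N) : ¬ p ∣ (S ⊓ K).relIndex K := by
  obtain ⟨T, hTK, hTp, hTsyl⟩ := exists_rel_sylow (p := p) K
  obtain ⟨n, hnN, hn⟩ := exists_cj_le_of_relIndex N S T hS hsyl (hTK.trans hKN) hTp
  have hKn : cj K n = K := cj_eq_self_of_mem_normalizer (hNK hnN)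
  have h1 : cj T n ≤ S ⊓ K := le_inf hn (hKn ▸ cj_mono hTK n)
  have h2 := Subgroup.relIndex_dvd_of_le_left K h1
  intro h3
  apply hTsyl
  have h4 := dvd_trans h3 h2
  rw [← relIndex_cj T K n, hKn]
  exact h4

/-- the Frattini argument in relative form -/
theorem rel_frattini (N K T : Subgroup G) (hKN : K ≤ N)
    (hNK : N ≤ Subgroup.normalizer (K : Set G))
    (hTK : T ≤ K) (hT : IsPGroup p ↥T) (hsyl : ¬ p ∣ T.relIndex K) :
    ∀ n ∈ N, ∃ m ∈ N ⊓ Subgroup.normalizer (T : Set G), ∃ k ∈ K, n = m * k := by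
  intro n hn
  have hKn : cj K n = K := cj_eq_self_of_mem_normalizer (hNK hn)
  have h1 : cj T n ≤ K := hKn ▸ cj_mono hTK n
  obtain ⟨k, hkK, hk⟩ := exists_cj_le_of_relIndex K T (cj T n) hT hsyl h1 (isPGroup_cj hT n)
  rw [← cj_mul] at hk
  have heq : cj T (n * k) = T :=
    Subgroup.eq_of_le_of_card_ge hk (le_of_eq (card_cj T (n * k)).symm)
  have hnk : n * k ∈ Subgroup.normalizer (T : Set G) := by
    rw [Subgroup.mem_normalizer_iff]
    intro y
    rw [← mem_cj, heq]
  refine ⟨n * k, ⟨?_, hnk⟩, k⁻¹, K.inv_mem hkK, by group⟩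
  exact N.mul_mem hn (hKN hkK)

/-- The elementary "essential" condition: `Q < P` is fully normalized and the subgroup of `N_G(Q)`
generated by `C_G(Q)` and the `N_{N_G(Q)}(R)`, `Q < R ≤ N_P(Q)`, is proper. -/
def Ess (P : Sylow p G) (Q : Subgroup G) : Prop :=
  Q ≤ (P : Subgroup G) ∧ Q ≠ (P : Subgroup G) ∧ FullyNormalized P Q ∧
  ∃ N₀ : Subgroup G, N₀ ≤ Subgroup.normalizer (Q : Set G) ∧
    Subgroup.centralizer (Q : Set G) ≤ N₀ ∧
    (∀ R : Subgroup G, Q ≤ R → Q ≠ R → R ≤ (P : Subgroup G) ⊓ Subgroup.normalizer (Q : Set G) →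
      Subgroup.normalizer (Q : Set G) ⊓ Subgroup.normalizer (R : Set G) ≤ N₀) ∧
    N₀ ≠ Subgroup.normalizer (Q : Set G)

omit [Finite G] [Fact p.Prime] in
theorem normalizer_le_normalizer_centralizer (Q : Subgroup G) :
    Subgroup.normalizer (Q : Set G) ≤
      Subgroup.normalizer ((Subgroup.centralizer (Q : Set G) : Subgroup G) : Set G) := by
  intro n hn
  rw [Subgroup.mem_normalizer_iff]
  have key : ∀ m : G, m ∈ Subgroup.normalizer (Q : Set G) → ∀ c : G,
      c ∈ Subgroup.centralizer (Q : Set G) → m * c * m⁻¹ ∈ Subgroup.centralizer (Q : Set G) := by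
    intro m hm c hc
    rw [Subgroup.mem_centralizer_iff] at hc ⊢
    intro q hq
    have hq' : m⁻¹ * q * m ∈ Q := by
      have := (Subgroup.mem_normalizer_iff.mp (Subgroup.inv_mem _ hm) q).mp hq
      simpa using this
    have h2 := hc _ hq'
    calc q * (m * c * m⁻¹) = m * ((m⁻¹ * q * m) * c) * m⁻¹ := by group
      _ = m * (c * (m⁻¹ * q * m)) * m⁻¹ := by rw [h2]
      _ = m * c * m⁻¹ * q := by group
  intro c
  constructor
  · exact key n hn c
  · intro h
    have := key n⁻¹ (Subgroup.inv_mem _ hn) _ h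
    have e : n⁻¹ * (n * c * n⁻¹) * n⁻¹⁻¹ = c := by group
    rwa [e] at this

/-- an essential subgroup contains its centralizer in `P` -/
theorem Ess.cen {P : Sylow p G} {Q : Subgroup G} (h : Ess P Q) :
    (P : Subgroup G) ⊓ Subgroup.centralizer (Q : Set G) ≤ Q := by
  obtain ⟨hQP, hQne, hfull, N₀, hN₀, hC, hR, hne⟩ := h
  by_contra hcon
  apply hne
  apply le_antisymm hN₀
  set N := Subgroup.normalizer (Q : Set G) with hN
  set K := Subgroup.centralizer (Q : Set G) with hK
  have hKN : K ≤ N := Subgroup.centralizer_le_normalizer _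
  have hNK : N ≤ Subgroup.normalizer (K : Set G) := normalizer_le_normalizer_centralizer Q
  have hSp : IsPGroup p ↥((P : Subgroup G) ⊓ N) := P.isPGroup'.to_le inf_le_left
  have hsyl : ¬ p ∣ ((P : Subgroup G) ⊓ N ⊓ K).relIndex K :=
    rel_sylow_inf N K _ hKN hNK hSp (by
      have : ((P : Subgroup G) ⊓ N).relIndex N = ((P : Subgroup G) ⊓ N).relIndex N := rfl
      exact hfull)
  have hT : (P : Subgroup G) ⊓ N ⊓ K = (P : Subgroup G) ⊓ K := by
    rw [inf_assoc, inf_of_le_right hKN]
  rw [hT] at hsyl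
  set T := (P : Subgroup G) ⊓ K with hTdef
  have hTp : IsPGroup p ↥T := P.isPGroup'.to_le inf_le_left
  have hfr := rel_frattini N K T hKN hNK inf_le_right hTp hsyl
  intro n hn
  obtain ⟨m, hm, k, hk, rfl⟩ := hfr n hn
  refine N₀.mul_mem ?_ (hC hk)
  apply hR (Q ⊔ T) le_sup_left
  · intro heq
    apply hcon
    rw [heq]
    exact le_sup_right
  · refine sup_le (le_inf hQP Subgroup.le_normalizer) ?_
    exact le_inf inf_le_left (inf_le_right.trans hKN)
  · refine ⟨hm.1, ?_⟩
    have h1 : m ∈ Subgroup.normalizer (Q : Set G) := hm.1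
    have h2 : m ∈ Subgroup.normalizer (T : Set G) := hm.2
    rw [Subgroup.mem_normalizer_iff_map_conj_eq] at h1 h2
    show m ∈ Subgroup.normalizer ((Q ⊔ T : Subgroup G) : Set G)
    rw [Subgroup.mem_normalizer_iff_map_conj_eq, Subgroup.map_sup, h1, h2]

/-- for an essential subgroup, `O_{p',p}(N_G(Q)) = Q C_G(Q)` -/
theorem Ess.core {P : Sylow p G} {Q : Subgroup G} (h : Ess P Q) :
    (Cfsg.pPrimePCore p ↥(Subgroup.normalizer (Q : Set G))).map
        (Subgroup.normalizer (Q : Set G)).subtype =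
      Q ⊔ Subgroup.centralizer (Q : Set G) := by
  obtain ⟨hQP, hQne, hfull, N₀, hN₀, hC, hR, hne⟩ := h
  obtain ⟨-, h1, ⟨-, h3, h4, -, h6⟩, -⟩ :=
    Cfsg.Agent.S1854.good_step P Q hQP hfull N₀ hN₀ hC hR hne
  apply le_antisymm
  · rw [← h6]
    refine sup_le ?_ le_sup_left
    refine le_trans ?_ le_sup_right
    intro a ha
    rw [Subgroup.mem_centralizer_iff]
    intro b hb
    exact (h4 a ha b hb).symm
  · exact sup_le h3 h1

omit [Finite G] [Fact p.Prime] in
theorem cj_inf (A B : Subgroup G) (y : G) : cj (A ⊓ B) y = cj A y ⊓ cj B y := by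
  ext z
  simp only [mem_cj, Subgroup.mem_inf]

omit [Finite G] [Fact p.Prime] in
theorem cj_injective (y : G) {A B : Subgroup G} (h : cj A y = cj B y) : A = B := by
  have := congrArg (fun R => cj R y⁻¹) h
  simpa [cj_inv_cancel] using this

omit [Finite G] [Fact p.Prime] in
theorem centralizer_cj (A : Subgroup G) (y : G) :
    Subgroup.centralizer (cj A y : Set G) = cj (Subgroup.centralizer (A : Set G)) y := by
  ext c
  rw [mem_cj]
  constructor
  · intro h
    have := mem_centralizer_cj (x := y⁻¹) h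
    rwa [cj_inv_cancel, inv_inv] at this
  · intro h
    have := mem_centralizer_cj (x := y) h
    have h2 : y⁻¹ * (y * c * y⁻¹) * y = c := by group
    rwa [h2] at this

/-- the essential condition is invariant under conjugation by `N_G(P)` -/
theorem Ess.cj {P : Sylow p G} {Q : Subgroup G} (h : Ess P Q) {y : G}
    (hy : y ∈ Subgroup.normalizer (((P : Subgroup G) : Subgroup G) : Set G)) : Ess P (cj Q y) := by
  obtain ⟨hQP, hQne, hfull, N₀, hN₀, hC, hR, hne⟩ := h
  have hPy : Helper31.cj (P : Subgroup G) y = (P : Subgroup G) := cj_eq_self_of_mem_normalizer hy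
  have hPy' : Helper31.cj (P : Subgroup G) y⁻¹ = (P : Subgroup G) :=
    cj_eq_self_of_mem_normalizer (Subgroup.inv_mem _ hy)
  have hPN : (P : Subgroup G) ⊓ Subgroup.normalizer (Helper31.cj Q y : Set G) =
      Helper31.cj ((P : Subgroup G) ⊓ Subgroup.normalizer (Q : Set G)) y := by
    rw [cj_inf, hPy, normalizer_cj]
  refine ⟨?_, ?_, ?_, Helper31.cj N₀ y, ?_, ?_, ?_, ?_⟩
  · have := cj_mono hQP y
    rwa [hPy] at this
  · intro heq
    apply hQne
    apply cj_injective y
    rw [heq, hPy]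
  · unfold FullyNormalized at hfull ⊢
    rw [hPN, normalizer_cj, relIndex_cj]
    exact hfull
  · rw [normalizer_cj]
    exact cj_mono hN₀ y
  · rw [centralizer_cj]
    exact cj_mono hC y
  · intro R hQR hQR' hRle
    have h1 : Q ≤ Helper31.cj R y⁻¹ := cj_le_iff.mp hQR
    have h2 : Q ≠ Helper31.cj R y⁻¹ := by
      intro heq
      apply hQR'
      rw [heq, cj_inv_cancel']
    have h3 : Helper31.cj R y⁻¹ ≤ (P : Subgroup G) ⊓ Subgroup.normalizer (Q : Set G) := by
      rw [hPN] at hRle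
      have := cj_mono hRle y⁻¹
      rwa [cj_inv_cancel] at this
    have h4 := hR _ h1 h2 h3
    have h5 := cj_mono h4 y
    rw [cj_inf, ← normalizer_cj, ← normalizer_cj, cj_inv_cancel'] at h5
    exact h5
  · intro heq
    apply hne
    apply cj_injective y
    rw [heq, normalizer_cj]

end Cfsg.Agent.Helper51.AG
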