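/-
helper51: the strong form of the Alperin-Goldschmidt theorem, part 2.
The least normal subgroup `X` of `N_G(H)` above `H` with `p ∣ |X : H|` (`LeastX`), the subgroup
`Res p X = O^p(X)` in ambient form, their invariance under conjugation, and the factorization
`N_G(H) = N_{N_G(H)}(P ∩ X) · O^p(X) · (P ∩ X)`.
-/
import Cfsg.Agent.Helper51.AGRel
import Cfsg.Agent.Helper34.Basic
import Cfsg.Agent.Helper47.OpSubnormal

set_option autoImplicit false

namespace Cfsg.Agent.Helper51.AG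

open Cfsg Cfsg.Agent.Helper31

variable {G : Type*} [Group G] {p : ℕ}

/-- `X` is the least subgroup with `H ≤ X ⊴ N_G(H)` and `p ∣ |X : H|`. -/
def LeastX (p : ℕ) (H X : Subgroup G) : Prop :=
  H ≤ X ∧ X ≤ Subgroup.normalizer (H : Set G) ∧
  Subgroup.normalizer (H : Set G) ≤ Subgroup.normalizer (X : Set G) ∧ p ∣ H.relIndex X ∧
  ∀ Y : Subgroup G, H ≤ Y → Y ≤ Subgroup.normalizer (H : Set G) →
    Subgroup.normalizer (H : Set G) ≤ Subgroup.normalizer (Y : Set G) → p ∣ H.relIndex Y → X ≤ Y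

/-- `O^p(X)` as a subgroup of the ambient group -/
def Res (p : ℕ) (X : Subgroup G) : Subgroup G :=
  Subgroup.closure {x : G | x ∈ X ∧ (orderOf x).Coprime p}

theorem Res_le (X : Subgroup G) : Res p X ≤ X := by
  unfold Res
  rw [Subgroup.closure_le]
  intro x hx
  exact hx.1

theorem Res_eq_map (X : Subgroup G) : (Cfsg.pResidual p ↥X).map X.subtype = Res p X :=
  Cfsg.Agent.Helper47.pResidual_map_subtype_eq_closure X

theorem orderOf_conj_eq (y x : G) : orderOf (y⁻¹ * x * y) = orderOf x := by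
  have := orderOf_injective (MulAut.conj y⁻¹).toMonoidHom (MulAut.conj y⁻¹).injective x
  simpa using this

theorem Res_cj_le (X : Subgroup G) (y : G) : cj (Res p X) y ≤ Res p (cj X y) := by
  rw [cj_le_iff]
  unfold Res
  rw [Subgroup.closure_le]
  intro x hx
  rw [SetLike.mem_coe, mem_cj]
  apply Subgroup.subset_closure
  refine ⟨?_, ?_⟩
  · have := conj_mem_cj (x := y) hx.1
    simpa using this
  · have := orderOf_conj_eq y x
    rw [inv_inv]
    rw [this]
    exact hx.2

theorem mem_Res_cj {X : Subgroup G} {x : G} (hx : x ∈ Res p X) (y : G) :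
    y⁻¹ * x * y ∈ Res p (cj X y) :=
  Res_cj_le X y (conj_mem_cj hx)

theorem LeastX.cj [Finite G] {H X : Subgroup G} (h : LeastX p H X) (y : G) :
    LeastX p (Helper31.cj H y) (Helper31.cj X y) := by
  obtain ⟨h1, h2, h3, h4, h5⟩ := h
  refine ⟨cj_mono h1 y, ?_, ?_, ?_, ?_⟩
  · rw [normalizer_cj]; exact cj_mono h2 y
  · rw [normalizer_cj, normalizer_cj]; exact cj_mono h3 y
  · rw [relIndex_cj]; exact h4
  · intro Y hY1 hY2 hY3 hY4
    rw [cj_le_iff]
    apply h5
    · exact cj_le_iff.mp hY1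
    · have := cj_mono hY2 y⁻¹
      rwa [normalizer_cj, cj_inv_cancel] at this
    · have := cj_mono hY3 y⁻¹
      rwa [← normalizer_cj, ← normalizer_cj, cj_inv_cancel] at this
    · have := relIndex_cj (Helper31.cj H y) Y y⁻¹
      rw [cj_inv_cancel] at this
      rw [this]
      exact hY4

open scoped Pointwise in
/-- `X = O^p(X) T` for a Sylow `p`-subgroup `T` of `X` -/
theorem Res_mul_sylow [Finite G] [Fact p.Prime] (X T : Subgroup G) (hTp : IsPGroup p ↥T)
    (hsyl : ¬ p ∣ T.relIndex X) :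
    ∀ k ∈ X, ∃ r ∈ Res p X, ∃ t ∈ T, k = r * t := by
  intro k hk
  have hT' : IsPGroup p ↥(T.subgroupOf X) := hTp.comap_subtype
  have hn := Cfsg.Agent.Helper34.pResidual_normal p ↥X
  have htop := Cfsg.Agent.Helper34.pResidual_sup_sylow p ↥X (hT'.toSylow hsyl)
  have h0 : ((hT'.toSylow hsyl : Sylow p ↥X) : Subgroup ↥X) = T.subgroupOf X := rfl
  rw [h0] at htop
  have hmem : (⟨k, hk⟩ : ↥X) ∈ (Cfsg.pResidual p ↥X ⊔ T.subgroupOf X : Subgroup ↥X) := by
    rw [htop]; trivial
  rw [← SetLike.mem_coe, Subgroup.normal_mul, Set.mem_mul] at hmem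
  obtain ⟨r, hr, t, ht, hrt⟩ := hmem
  refine ⟨(r : G), ?_, (t : G), Subgroup.mem_subgroupOf.mp ht, ?_⟩
  · rw [← Res_eq_map]
    exact ⟨r, hr, rfl⟩
  · have := congrArg Subtype.val hrt
    simpa using this.symm

/-- the factorization of `N_G(H)` used in the strong form of the Alperin-Goldschmidt theorem -/
theorem Ess.factor [Finite G] [Fact p.Prime] {P : Sylow p G} {H X : Subgroup G} (h : Ess P H)
    (hX : LeastX p H X) :
    Nat.card ↥H < Nat.card ↥((P : Subgroup G) ⊓ X) ∧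
    ∀ n ∈ Subgroup.normalizer (H : Set G),
      ∃ m ∈ Subgroup.normalizer (H : Set G) ⊓
          Subgroup.normalizer ((((P : Subgroup G) ⊓ X : Subgroup G)) : Set G),
        ∃ r ∈ Res p X, ∃ t ∈ (P : Subgroup G) ⊓ X, n = m * r * t := by
  obtain ⟨hHP, hHne, hfull, -⟩ := h
  obtain ⟨h1, h2, h3, h4, -⟩ := hX
  set N := Subgroup.normalizer (H : Set G) with hN
  have hSp : IsPGroup p ↥((P : Subgroup G) ⊓ N) := P.isPGroup'.to_le inf_le_left
  have hsyl : ¬ p ∣ ((P : Subgroup G) ⊓ N ⊓ X).relIndex X :=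
    rel_sylow_inf N X _ h2 h3 hSp hfull
  have hT : (P : Subgroup G) ⊓ N ⊓ X = (P : Subgroup G) ⊓ X := by
    rw [inf_assoc, inf_of_le_right h2]
  rw [hT] at hsyl
  set T := (P : Subgroup G) ⊓ X with hTdef
  have hTp : IsPGroup p ↥T := P.isPGroup'.to_le inf_le_left
  have hHT : H ≤ T := le_inf hHP h1
  constructor
  · by_contra hcon
    rw [not_lt] at hcon
    have heq : H = T := Subgroup.eq_of_le_of_card_ge hHT hcon
    rw [heq] at h4
    exact hsyl h4
  · intro n hn
    obtain ⟨m, hm, k, hk, rfl⟩ := rel_frattini N X T h2 h3 inf_le_right hTp hsyl n hn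
    obtain ⟨r, hr, t, ht, rfl⟩ := Res_mul_sylow X T hTp hsyl k hk
    exact ⟨m, hm, r, hr, t, ht, by group⟩

end Cfsg.Agent.Helper51.AG
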