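/-
helper51: the strong form of the Alperin-Goldschmidt theorem, part 4.
For an essential subgroup `H` (in the elementary sense `Ess P H`): the Sylow graph of `N_G(H)/H`
is disconnected, and the least normal subgroup `X` exists.
-/
import Cfsg.Agent.Helper51.AGStep
import Cfsg.Agent.Helper51.AGQuot

set_option autoImplicit false

namespace Cfsg.Agent.Helper51.AG

open Cfsg Cfsg.Agent.Helper31 Cfsg.Agent.Helper49

variable {G : Type*} [Group G] [Finite G] {p : ℕ} [Fact p.Prime]

omit [Finite G] [Fact p.Prime] in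
theorem ne_bot_of_not_pRankLE_zero {X : Type*} [Group X] {Q : Subgroup X}
    (h : ¬ Cfsg.PRankLE p 0 ↥Q) : Q ≠ ⊥ := by
  rintro rfl
  apply h
  intro A _ _
  have : Subsingleton ↥(⊥ : Subgroup X) := inferInstance
  have h1 : Nat.card ↥A = 1 := Nat.card_unique
  rw [h1, pow_zero]

omit [Finite G] [Fact p.Prime] in
theorem lift_top (H : Subgroup G) : lift H ⊤ = Subgroup.normalizer (H : Set G) := by
  unfold lift
  rw [Subgroup.comap_top, ← MonoidHom.range_eq_map, Subgroup.range_subtype]

/-- the data attached to an essential subgroup in the quotient `N_G(H)/H` -/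
theorem Ess.quot_data {P : Sylow p G} {H : Subgroup G} (h : Ess P H) :
    p ∣ Nat.card (NQ H) ∧ ¬ Cfsg.IsSylowChainConnected p (NQ H) := by
  have hcen := h.cen
  obtain ⟨hHP, hHne, hfull, N₀, hN₀, hC, hR, hne⟩ := h
  set N := Subgroup.normalizer (H : Set G) with hN
  set S₀ := (P : Subgroup G) ⊓ N with hS₀
  have hHS₀ : H ≤ S₀ := le_inf hHP Subgroup.le_normalizer
  have hS₀N : S₀ ≤ N := inf_le_right
  have hlt : Nat.card ↥H < Nat.card ↥S₀ := card_lt_card_normalizer P H hHP hHne
  have hHneS₀ : H ≠ S₀ := by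
    intro heq
    rw [← heq] at hlt
    exact lt_irrefl _ hlt
  have hS₀p : IsPGroup p ↥(S₀.subgroupOf N) := (P.isPGroup'.to_le inf_le_left).comap_subtype
  have hidx : ¬ p ∣ (S₀.subgroupOf N).index := hfull
  let S' : Sylow p ↥N := hS₀p.toSylow hidx
  let Sbar : Sylow p (NQ H) := S'.mapSurjective (qmap_surjective H)
  have hSbar : (Sbar : Subgroup (NQ H)) = img H S₀ := by
    rw [Sylow.coe_mapSurjective]
    rfl
  have hSbar1 : (Sbar : Subgroup (NQ H)) ≠ ⊥ := by
    intro hbot
    have h1 := card_img H S₀ hHS₀ hS₀N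
    rw [← hSbar, hbot, Subgroup.card_bot] at h1
    have h2 : S₀ ≤ H := Subgroup.relIndex_eq_one.mp h1.symm
    exact hHneS₀ (le_antisymm hHS₀ h2)
  have hdiv : p ∣ Nat.card (NQ H) :=
    (dvd_card_of_isPGroup_ne_bot Sbar.isPGroup' hSbar1).trans (Subgroup.card_subgroup_dvd_card _)
  refine ⟨hdiv, ?_⟩
  have hHN₀ : H ≤ N₀ := by
    intro x hx
    apply hR S₀ hHS₀ hHneS₀ le_rfl
    exact ⟨Subgroup.le_normalizer hx, Subgroup.le_normalizer (hHS₀ hx)⟩
  apply not_connected_of_gamma_le Sbar hSbar1 (img H N₀)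
  · unfold Cfsg.kGeneratedCore
    apply iSup_le
    rintro ⟨D, hDS, hDr⟩
    have hD1 : D ≠ ⊥ := ne_bot_of_not_pRankLE_zero (by simpa using hDr)
    intro xbar hxbar
    obtain ⟨x, rfl⟩ := qmap_surjective H xbar
    have hRle : lift H D ≤ S₀ := by
      have := lift_mono H (hSbar ▸ hDS)
      rwa [lift_img H S₀ hHS₀ hS₀N] at this
    have hx1 : (x : G) ∈ Subgroup.normalizer ((lift H D : Subgroup G) : Set G) :=
      mem_normalizer_lift H D x hxbar
    have hx2 : (x : G) ∈ N₀ :=
      hR (lift H D) (le_lift H D) (lift_ne_of_ne_bot H D hD1) hRle ⟨x.2, hx1⟩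
    exact ⟨x, Subgroup.mem_subgroupOf.mpr hx2, rfl⟩
  · intro htop
    apply hne
    have h1 := lift_img H N₀ hHN₀ hN₀
    rw [htop, lift_top] at h1
    exact h1.symm

/-- the Sylow graph of `N_G(H)/H` is disconnected for an essential subgroup -/
theorem Ess.ncc {P : Sylow p G} {H : Subgroup G} (h : Ess P H) :
    ¬ Cfsg.IsSylowChainConnected p
      (↥(Subgroup.normalizer (H : Set G)) ⧸ H.subgroupOf (Subgroup.normalizer (H : Set G))) :=
  h.quot_data.2

/-- the least normal subgroup above an essential subgroup exists -/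
theorem Ess.exists_leastX {P : Sylow p G} {H : Subgroup G} (h : Ess P H) :
    ∃ X : Subgroup G, LeastX p H X := by
  obtain ⟨hdiv, hncc⟩ := h.quot_data
  obtain ⟨M, hMn, hMp, hMmin⟩ := exists_least_normal hncc hdiv
  refine ⟨lift H M, le_lift H M, lift_le H M, normalizer_le_normalizer_lift H M hMn, ?_, ?_⟩
  · rw [← card_img H (lift H M) (le_lift H M) (lift_le H M), img_lift]
    exact hMp
  · intro Y hY1 hY2 hY3 hY4
    have h1 : M ≤ img H Y := by
      apply hMmin _ (img_normal H Y hY2 hY3)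
      rw [card_img H Y hY1 hY2]
      exact hY4
    have h2 := lift_mono H h1
    rwa [lift_img H Y hY1 hY2] at h2

end Cfsg.Agent.Helper51.AG
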