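/-
helper51: the strong form of the Alperin-Goldschmidt theorem, part 5.
The calculus of strong decompositions `g = c x₁ ⋯ xₙ y` (`DecS`): monotonicity, composition,
inverses, and the passage from helper31's decompositions (`Dec`) to strong ones.
-/
import Cfsg.Agent.Helper51.AGEss

set_option autoImplicit false

namespace Cfsg.Agent.Helper51.AG

open Cfsg Cfsg.Agent.Helper31

variable {G : Type*} [Group G] [Finite G] {p : ℕ} [Fact p.Prime]

/-- a step `(H, X, x)` of a strong decomposition -/
def Step (P : Sylow p G) (q : Subgroup G × Subgroup G × G) : Prop :=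
  Ess P q.1 ∧ LeastX p q.1 q.2.1 ∧ q.2.2 ∈ Res p q.2.1

omit [Finite G] [Fact p.Prime] in
theorem Step.mem_normalizer {P : Sylow p G} {q : Subgroup G × Subgroup G × G} (h : Step P q) :
    q.2.2 ∈ Subgroup.normalizer (q.1 : Set G) :=
  h.2.1.2.1 (Res_le _ h.2.2)

omit [Finite G] [Fact p.Prime] in
theorem Step.inv {P : Sylow p G} {q : Subgroup G × Subgroup G × G} (h : Step P q) :
    Step P (q.1, q.2.1, q.2.2⁻¹) :=
  ⟨h.1, h.2.1, Subgroup.inv_mem _ h.2.2⟩

theorem Step.cj {P : Sylow p G} {q : Subgroup G × Subgroup G × G} (h : Step P q) {y : G}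
    (hy : y ∈ Subgroup.normalizer (((P : Subgroup G) : Subgroup G) : Set G)) :
    Step P (Helper31.cj q.1 y, Helper31.cj q.2.1 y, y⁻¹ * q.2.2 * y) :=
  ⟨h.1.cj hy, h.2.1.cj y, mem_Res_cj h.2.2 y⟩

/-- the product of the elements of a list of steps -/
def lprod (l : List (Subgroup G × Subgroup G × G)) : G := (l.map (fun q => q.2.2)).prod

omit [Finite G] in
@[simp] theorem lprod_nil : lprod ([] : List (Subgroup G × Subgroup G × G)) = 1 := rfl

omit [Finite G] in
@[simp] theorem lprod_cons (q : Subgroup G × Subgroup G × G) (l : List (Subgroup G × Subgroup G × G)) :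
    lprod (q :: l) = q.2.2 * lprod l := by
  unfold lprod
  rw [List.map_cons, List.prod_cons]

omit [Finite G] in
@[simp] theorem lprod_append (l₁ l₂ : List (Subgroup G × Subgroup G × G)) :
    lprod (l₁ ++ l₂) = lprod l₁ * lprod l₂ := by
  unfold lprod
  rw [List.map_append, List.prod_append]

/-- the chain condition along a list of steps -/
def SChain (P : Sylow p G) : Subgroup G → List (Subgroup G × Subgroup G × G) → Prop
  | _, [] => True
  | A, q :: l => Step P q ∧ A ≤ q.1 ∧ SChain P (Helper31.cj A q.2.2) l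

omit [Finite G] [Fact p.Prime] in
theorem SChain.mono {P : Sylow p G} {l : List (Subgroup G × Subgroup G × G)} :
    ∀ {A B : Subgroup G}, SChain P A l → B ≤ A → SChain P B l := by
  induction l with
  | nil => intro A B _ _; trivial
  | cons q l ih =>
    intro A B h hBA
    exact ⟨h.1, hBA.trans h.2.1, ih h.2.2 (cj_mono hBA _)⟩

omit [Finite G] [Fact p.Prime] in
theorem SChain.snoc {P : Sylow p G} {l : List (Subgroup G × Subgroup G × G)}
    {q : Subgroup G × Subgroup G × G} (hq : Step P q) :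
    ∀ {A : Subgroup G}, SChain P A l → Helper31.cj A (lprod l) ≤ q.1 → SChain P A (l ++ [q]) := by
  induction l with
  | nil =>
    intro A _ hA
    rw [lprod_nil, cj_one] at hA
    exact ⟨hq, hA, trivial⟩
  | cons q' l ih =>
    intro A h hA
    rw [lprod_cons, cj_mul] at hA
    exact ⟨h.1, h.2.1, ih h.2.2 hA⟩

/-- strong decompositions: `g = c x₁ ⋯ xₙ y` -/
def DecS (P : Sylow p G) (A : Subgroup G) (g : G) : Prop :=
  ∃ (l : List (Subgroup G × Subgroup G × G)) (c y : G),
    c ∈ Subgroup.centralizer (A : Set G) ∧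
    y ∈ Subgroup.normalizer (((P : Subgroup G) : Subgroup G) : Set G) ∧
    g = c * lprod l * y ∧ SChain P A l

omit [Finite G] [Fact p.Prime] in
theorem DecS.mono {P : Sylow p G} {A B : Subgroup G} {g : G} (h : DecS P A g) (hBA : B ≤ A) :
    DecS P B g := by
  obtain ⟨l, c, y, hc, hy, hg, hl⟩ := h
  exact ⟨l, c, y, Subgroup.centralizer_le (by exact_mod_cast hBA) hc, hy, hg, hl.mono hBA⟩

omit [Finite G] [Fact p.Prime] in
theorem DecS.of_mem_normalizer {P : Sylow p G} (A : Subgroup G) {y : G}
    (hy : y ∈ Subgroup.normalizer (((P : Subgroup G) : Subgroup G) : Set G)) : DecS P A y :=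
  ⟨[], 1, y, Subgroup.one_mem _, hy, by simp, trivial⟩

omit [Finite G] [Fact p.Prime] in
theorem DecS.of_mem_centralizer {P : Sylow p G} {A : Subgroup G} {c : G}
    (hc : c ∈ Subgroup.centralizer (A : Set G)) : DecS P A c :=
  ⟨[], c, 1, hc, Subgroup.one_mem _, by simp, trivial⟩

omit [Finite G] [Fact p.Prime] in
theorem DecS.mul_normalizer {P : Sylow p G} {A : Subgroup G} {g y' : G} (h : DecS P A g)
    (hy' : y' ∈ Subgroup.normalizer (((P : Subgroup G) : Subgroup G) : Set G)) :
    DecS P A (g * y') := by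
  obtain ⟨l, c, y, hc, hy, hg, hl⟩ := h
  exact ⟨l, c, y * y', hc, Subgroup.mul_mem _ hy hy', by rw [hg]; group, hl⟩

omit [Finite G] [Fact p.Prime] in
/-- the conjugate of `A` by a strongly decomposed element -/
theorem cj_of_eq {A : Subgroup G} {g c u y : G} (hc : c ∈ Subgroup.centralizer (A : Set G))
    (hg : g = c * u * y) : Helper31.cj A g = Helper31.cj (Helper31.cj A u) y := by
  rw [hg, cj_mul, cj_mul, cj_eq_self_of_mem_centralizer hc]

theorem DecS.mul_step {P : Sylow p G} {A : Subgroup G} {g : G} (h : DecS P A g)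
    {q : Subgroup G × Subgroup G × G} (hq : Step P q) (hA : Helper31.cj A g ≤ q.1) :
    DecS P A (g * q.2.2) := by
  obtain ⟨l, c, y, hc, hy, hg, hl⟩ := h
  have hq' := hq.cj (Subgroup.inv_mem _ hy)
  rw [inv_inv] at hq'
  refine ⟨l ++ [(Helper31.cj q.1 y⁻¹, Helper31.cj q.2.1 y⁻¹, y * q.2.2 * y⁻¹)], c, y, hc, hy, ?_, ?_⟩
  · rw [lprod_append, lprod_cons, lprod_nil, hg]
    group
  · apply SChain.snoc hq' hl
    rw [cj_of_eq hc hg, cj_le_iff] at hA
    exact hA

omit [Finite G] [Fact p.Prime] in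
theorem DecS.mul_cent {P : Sylow p G} {A : Subgroup G} {g c' : G} (h : DecS P A g)
    (hc' : c' ∈ Subgroup.centralizer (Helper31.cj A g : Set G)) : DecS P A (g * c') := by
  have h1 : g * c' * g⁻¹ ∈ Subgroup.centralizer (A : Set G) := by
    have := mem_centralizer_cj (x := g⁻¹) hc'
    rwa [cj_inv_cancel, inv_inv] at this
  obtain ⟨l, c, y, hc, hy, hg, hl⟩ := h
  refine ⟨l, g * c' * g⁻¹ * c, y, Subgroup.mul_mem _ h1 hc, hy, ?_, hl⟩
  have e : g * c' * g⁻¹ * c * lprod l * y = g * c' * g⁻¹ * (c * lprod l * y) := by group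
  rw [e, ← hg]
  group

theorem DecS.mul_chain {P : Sylow p G} {A : Subgroup G} {l' : List (Subgroup G × Subgroup G × G)} :
    ∀ {g : G}, DecS P A g → SChain P (Helper31.cj A g) l' → DecS P A (g * lprod l') := by
  induction l' with
  | nil => intro g h _; simpa using h
  | cons q l ih =>
    intro g h hl
    have h1 := h.mul_step hl.1 hl.2.1
    have h2 := ih h1 (by rw [cj_mul]; exact hl.2.2)
    rw [lprod_cons, ← mul_assoc]
    exact h2

theorem DecS.comp {P : Sylow p G} {A : Subgroup G} {g g' : G} (h : DecS P A g)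
    (h' : DecS P (Helper31.cj A g) g') : DecS P A (g * g') := by
  obtain ⟨l', c', y', hc', hy', hg', hl'⟩ := h'
  have h1 := h.mul_cent hc'
  have h2 : Helper31.cj A (g * c') = Helper31.cj A g := by
    rw [cj_mul, cj_eq_self_of_mem_centralizer hc']
  have h3 := h1.mul_chain (by rw [h2]; exact hl')
  have h4 := h3.mul_normalizer hy'
  have e : g * g' = g * c' * lprod l' * y' := by rw [hg']; group
  rw [e]
  exact h4

theorem DecS.mul_chain_inv {P : Sylow p G} {l : List (Subgroup G × Subgroup G × G)} :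
    ∀ {A B : Subgroup G} {g₀ : G}, SChain P A l → DecS P B g₀ →
      Helper31.cj B g₀ = Helper31.cj A (lprod l) → DecS P B (g₀ * (lprod l)⁻¹) := by
  induction l with
  | nil => intro A B g₀ _ h _; simpa using h
  | cons q l ih =>
    intro A B g₀ hl h heq
    rw [lprod_cons, cj_mul] at heq
    have h1 := ih hl.2.2 h heq
    have h2 : Helper31.cj B (g₀ * (lprod l)⁻¹) ≤ q.1 := by
      rw [cj_mul, heq, cj_inv_cancel]
      have := cj_mono hl.2.1 q.2.2
      rwa [cj_eq_self_of_mem_normalizer hl.1.mem_normalizer] at this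
    have h3 := h1.mul_step hl.1.inv h2
    rw [lprod_cons, mul_inv_rev, ← mul_assoc]
    exact h3

theorem DecS.inv {P : Sylow p G} {A : Subgroup G} {g : G} (h : DecS P A g) :
    DecS P (Helper31.cj A g) g⁻¹ := by
  obtain ⟨l, c, y, hc, hy, hg, hl⟩ := h
  have h0 : DecS P (Helper31.cj A g) y⁻¹ := DecS.of_mem_normalizer _ (Subgroup.inv_mem _ hy)
  have h1 : Helper31.cj (Helper31.cj A g) y⁻¹ = Helper31.cj A (lprod l) := by
    rw [cj_of_eq hc hg, cj_inv_cancel]
  have h2 := DecS.mul_chain_inv hl h0 h1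
  have h3 : Helper31.cj (Helper31.cj A g) (y⁻¹ * (lprod l)⁻¹) = A := by
    rw [cj_mul, h1, cj_inv_cancel]
  have h4 := h2.mul_cent (c' := c⁻¹) (by rw [h3]; exact Subgroup.inv_mem _ hc)
  have e : g⁻¹ = y⁻¹ * (lprod l)⁻¹ * c⁻¹ := by rw [hg]; group
  rw [e]
  exact h4

/-- the family used in the first level: `P` itself and the essential subgroups -/
def Good₁ (P : Sylow p G) (Q : Subgroup G) : Prop := Q = (P : Subgroup G) ∨ Ess P Q

/-- Level 1: helper31's conjugation family theorem for the family `Good₁` -/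
theorem dec_good₁ (P : Sylow p G) (A : Subgroup G) (hA : A ≤ (P : Subgroup G)) (g : G)
    (hAg : Helper31.cj A g ≤ (P : Subgroup G)) : Dec (Good₁ P) A g :=
  dec_of_step P (Good₁ P) (Or.inl rfl)
    (fun Q hQP hne hfull N₀ h1 h2 h3 h4 => Or.inr ⟨hQP, hne, hfull, N₀, h1, h2, h3, h4⟩) A hA g hAg

/-- passage from helper31's decompositions to strong ones -/
theorem decS_of_dec (P : Sylow p G) (k : ℕ)
    (hk : ∀ D : Subgroup G, Good₁ P D → k ≤ Nat.card ↥D →
      ∀ n ∈ Subgroup.normalizer (D : Set G), DecS P D n) :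
    ∀ {A : Subgroup G} {g : G}, Dec (Good₁ P) A g → k ≤ Nat.card ↥A → DecS P A g := by
  intro A g h
  induction h with
  | cent hc => intro _; exact DecS.of_mem_centralizer hc
  | norm hD hx hAD =>
    intro hkA
    exact (hk _ hD (hkA.trans (Subgroup.card_le_of_le hAD)) _ hx).mono hAD
  | comp _ _ ih1 ih2 =>
    intro hkA
    exact (ih1 hkA).comp (ih2 (by rw [card_cj]; exact hkA))

/-- Level 2: every element of the normalizer of a member of the family is strongly decomposable -/
theorem decS_normalizer (P : Sylow p G) :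
    ∀ D : Subgroup G, Good₁ P D → ∀ n ∈ Subgroup.normalizer (D : Set G), DecS P D n := by
  intro D
  induction hm : Nat.card ↥(P : Subgroup G) - Nat.card ↥D using Nat.strong_induction_on
    generalizing D with
  | _ m ih =>
  intro hD n hn
  rcases hD with rfl | hE
  · exact DecS.of_mem_normalizer _ hn
  · obtain ⟨X, hX⟩ := hE.exists_leastX
    obtain ⟨hlt, hfac⟩ := hE.factor hX
    obtain ⟨m', hm', r, hr, t, ht, rfl⟩ := hfac n hn
    set T := (P : Subgroup G) ⊓ X with hT
    have hDT : D ≤ T := le_inf hE.1 hX.1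
    have hTP : T ≤ (P : Subgroup G) := inf_le_left
    have hTm : Helper31.cj T m' = T := cj_eq_self_of_mem_normalizer hm'.2
    have hDm : Helper31.cj D m' = D := cj_eq_self_of_mem_normalizer hm'.1
    have hr' : r ∈ Subgroup.normalizer (D : Set G) := hX.2.1 (Res_le _ hr)
    have hDr : Helper31.cj D r = D := cj_eq_self_of_mem_normalizer hr'
    -- the factor normalizing the bigger subgroup `T`
    have h1 : DecS P D m' := by
      have hdec := dec_good₁ P T hTP m' (by rw [hTm]; exact hTP)
      have hcardP : Nat.card ↥T ≤ Nat.card ↥(P : Subgroup G) := Subgroup.card_le_of_le hTP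
      refine (decS_of_dec P (Nat.card ↥T) ?_ hdec le_rfl).mono hDT
      intro D' hD' hk n' hn'
      have hD'P : Nat.card ↥D' ≤ Nat.card ↥(P : Subgroup G) := by
        rcases hD' with rfl | hE'
        · exact le_rfl
        · exact Subgroup.card_le_of_le hE'.1
      exact ih (Nat.card ↥(P : Subgroup G) - Nat.card ↥D') (by omega) D' rfl hD' n' hn'
    -- the factor in `O^p(X)`
    have h2 : DecS P D r :=
      ⟨[(D, X, r)], 1, 1, Subgroup.one_mem _, Subgroup.one_mem _, by simp,
        ⟨hE, hX, hr⟩, le_rfl, trivial⟩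
    -- the factor in `P`
    have h3 : DecS P D t := DecS.of_mem_normalizer _ (Subgroup.le_normalizer ht.1)
    have h4 : DecS P D (m' * r) := h1.comp (by rw [hDm]; exact h2)
    exact h4.comp (by rw [cj_mul, hDm, hDr]; exact h3)

/-- the strong form of the Alperin-Goldschmidt theorem, for subgroups -/
theorem decS_main (P : Sylow p G) (A : Subgroup G) (hA : A ≤ (P : Subgroup G)) (g : G)
    (hAg : Helper31.cj A g ≤ (P : Subgroup G)) : DecS P A g :=
  decS_of_dec P 0 (fun D hD _ n hn => decS_normalizer P D hD n hn) (dec_good₁ P A hA g hAg)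
    (Nat.zero_le _)

end Cfsg.Agent.Helper51.AG
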