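import Cfsg.Agent.Helper71.Alp.Defs
import Cfsg.Agent.Helper49.AlpPE0

/-!
# Alperin's theorem (S3782, owner helper71), piece (PE1) (helper51)

Lubotzky–Mann: if `N` is powerfully embedded in the finite `p`-group `G` then so is `N^p`.
The Nakayama-type reduction (PE0) enters as a hypothesis in `PE_pw_of_nak`.
-/

set_option autoImplicit false

namespace Cfsg.Agent.Helper51.Alp

open Cfsg.Agent.Helper71.Alp
open scoped commutatorElement

section Abstract

variable {Γ : Type*} [Group Γ]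

theorem PE1_comm_mul (x y g : Γ) : ⁅x * y, g⁆ = x * ⁅y, g⁆ * x⁻¹ * ⁅x, g⁆ := by
  simp only [commutatorElement_def]
  group

/-- `[x^k, g] = z^(k choose 2) u^k` for `u = [x,g]`, `z = [x,u]` central. -/
theorem PE1_comm_pow (x g : Γ) (hz : ∀ y : Γ, Commute ⁅x, ⁅x, g⁆⁆ y) (k : ℕ) :
    ⁅x ^ k, g⁆ = ⁅x, ⁅x, g⁆⁆ ^ (k.choose 2) * ⁅x, g⁆ ^ k := by
  set u := ⁅x, g⁆ with hu
  set z := ⁅x, u⁆ with hzd
  have hconj : x * u * x⁻¹ = z * u := by
    rw [hzd, commutatorElement_def]; group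
  have hconjk : ∀ m : ℕ, x * u ^ m * x⁻¹ = z ^ m * u ^ m := by
    intro m
    rw [← conj_pow, hconj, (hz u).mul_pow]
  induction k with
  | zero => simp [commutatorElement_def]
  | succ k ih =>
    rw [pow_succ', PE1_comm_mul, ih]
    have e1 : x * (z ^ k.choose 2 * u ^ k) * x⁻¹ = z ^ k.choose 2 * (x * u ^ k * x⁻¹) := by
      have hc : Commute (z ^ k.choose 2) x := ((hz x).pow_left _)
      calc x * (z ^ k.choose 2 * u ^ k) * x⁻¹ = (x * z ^ k.choose 2) * u ^ k * x⁻¹ := by group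
        _ = (z ^ k.choose 2 * x) * u ^ k * x⁻¹ := by rw [hc.eq]
        _ = _ := by group
    rw [e1, hconjk k]
    have e2 : (k + 1).choose 2 = k + k.choose 2 := by
      rw [Nat.choose_succ_succ' k 1, Nat.choose_one_right]
    rw [e2, pow_add, pow_succ u k]
    have hc2 : Commute (z ^ k.choose 2) (z ^ k) := (Commute.refl z).pow_pow _ _
    calc z ^ k.choose 2 * (z ^ k * u ^ k) * u = (z ^ k.choose 2 * z ^ k) * (u ^ k * u) := by group
      _ = _ := by rw [hc2.eq]

end Abstract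

section Basic

variable {G : Type*} [Group G]

theorem PE1_pow_mem_pw (k : ℕ) (H : Subgroup G) {x : G} (hx : x ∈ H) : x ^ k ∈ pw k H :=
  Subgroup.subset_closure ⟨x, hx, rfl⟩

theorem PE1_pw_normal (k : ℕ) (H : Subgroup G) [hH : H.Normal] : (pw k H).Normal := by
  constructor
  intro n hn g
  unfold pw at hn ⊢
  induction hn using Subgroup.closure_induction with
  | mem y hy =>
    obtain ⟨x, hx, rfl⟩ := hy
    apply Subgroup.subset_closure
    exact ⟨g * x * g⁻¹, hH.conj_mem x hx g, by rw [conj_pow]⟩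
  | one => simp
  | mul a b _ _ ha hb =>
    have : g * (a * b) * g⁻¹ = (g * a * g⁻¹) * (g * b * g⁻¹) := by group
    rw [this]; exact mul_mem ha hb
  | inv a _ ha =>
    have : g * a⁻¹ * g⁻¹ = (g * a * g⁻¹)⁻¹ := by group
    rw [this]; exact inv_mem ha

end Basic

section Main

variable {G : Type*} [Group G]

/-- the statement of (PE0) -/
def PE1_Nak (G : Type*) [Group G] (p : ℕ) : Prop :=
  ∀ (A B : Subgroup G) [A.Normal] [B.Normal],
    A ≤ B ⊔ ⁅A, (⊤ : Subgroup G)⁆ ⊔ pw p A → A ≤ B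

/-- the core of (PE1): modulo `J ≥ B ⊔ [A,G] ⊔ A^p` the `p`-th powers of the elements of `N` are central. -/
theorem PE1_core {p : ℕ} (hp : p.Prime) {N : Subgroup G} (h : PE p N) (J : Subgroup G) [J.Normal]
    (hB : pw (bp p) (pw p N) ≤ J)
    (hAc : ⁅⁅pw p N, (⊤ : Subgroup G)⁆, (⊤ : Subgroup G)⁆ ≤ J)
    (hAp : pw p ⁅pw p N, (⊤ : Subgroup G)⁆ ≤ J) (x : G) (hx : x ∈ N) (g : G) :
    ⁅x ^ p, g⁆ ∈ J := by
  obtain ⟨hNn, hN⟩ := h
  set f := QuotientGroup.mk' J with hf
  have hker : ∀ y : G, y ∈ J ↔ f y = 1 := fun y => by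
    rw [hf, QuotientGroup.mk'_apply, QuotientGroup.eq_one_iff]
  have hsurj : Function.Surjective f := QuotientGroup.mk'_surjective J
  -- elements of `A` are central of exponent `p` modulo `J`
  have hAcen : ∀ a ∈ ⁅pw p N, (⊤ : Subgroup G)⁆, ∀ y : G ⧸ J, Commute (f a) y := by
    intro a ha y
    obtain ⟨g', rfl⟩ := hsurj y
    have h1 : ⁅a, g'⁆ ∈ J := hAc (Subgroup.commutator_mem_commutator ha (Subgroup.mem_top g'))
    rw [hker, map_commutatorElement, commutatorElement_eq_one_iff_commute] at h1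
    exact h1
  have hApow : ∀ a ∈ ⁅pw p N, (⊤ : Subgroup G)⁆, f a ^ p = 1 := by
    intro a ha
    have h1 : a ^ p ∈ J := hAp (PE1_pow_mem_pw p _ ha)
    rw [hker, map_pow] at h1
    exact h1
  -- commutators `[x', w]` with `w ∈ N^p` lie in `A`
  have hcomm_mem : ∀ w ∈ pw p N, ∀ y : G, ⁅y, w⁆ ∈ ⁅pw p N, (⊤ : Subgroup G)⁆ := by
    intro w hw y
    have h1 : ⁅w, y⁆ ∈ ⁅pw p N, (⊤ : Subgroup G)⁆ :=
      Subgroup.commutator_mem_commutator hw (Subgroup.mem_top y)
    have h2 := inv_mem h1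
    rwa [commutatorElement_inv] at h2
  rw [hker, map_commutatorElement, map_pow]
  by_cases hp2 : p = 2
  · -- `p = 2`
    subst hp2
    have hbp : bp 2 = 4 := by simp [bp]
    rw [hbp] at hN hB
    -- `N^4` is central of exponent 2 modulo `J`
    have h4 : ∀ v ∈ pw 4 N, (∀ y : G ⧸ J, Commute (f v) y) ∧ f v ^ 2 = 1 := by
      intro v hv
      unfold pw at hv
      induction hv using Subgroup.closure_induction with
      | mem v hv =>
        obtain ⟨y, hy, rfl⟩ := hv
        constructor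
        · intro t
          obtain ⟨g', rfl⟩ := hsurj t
          have hy2 : y ^ 2 ∈ pw 2 N := PE1_pow_mem_pw 2 N hy
          have hc : ⁅y ^ 2, g'⁆ ∈ ⁅pw 2 N, (⊤ : Subgroup G)⁆ :=
            Subgroup.commutator_mem_commutator hy2 (Subgroup.mem_top g')
          have e : ⁅f (y ^ 4), f g'⁆ = 1 := by
            have e4 : y ^ 4 = y ^ 2 * y ^ 2 := by rw [← pow_add]
            rw [e4, map_mul, PE1_comm_mul, ← map_commutatorElement]
            have hcc := hAcen _ hc (f (y ^ 2))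
            rw [← hcc.eq, mul_inv_cancel_right, ← pow_two]
            exact hApow _ hc
          exact (commutatorElement_eq_one_iff_commute.mp e)
        · have h1 : (y ^ 2) ^ 4 ∈ J := hB (PE1_pow_mem_pw 4 _ (PE1_pow_mem_pw 2 N hy))
          rw [hker, map_pow] at h1
          rw [map_pow, ← pow_mul]
          rw [map_pow, ← pow_mul] at h1
          exact h1
      | one => simp
      | mul a b _ _ ha hb =>
        refine ⟨fun t => ?_, ?_⟩
        · rw [map_mul]; exact (ha.1 t).mul_left (hb.1 t)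
        · rw [map_mul, (ha.1 (f b)).mul_pow, ha.2, hb.2, one_mul]
      | inv a _ ha =>
        refine ⟨fun t => ?_, ?_⟩
        · rw [map_inv]; exact (ha.1 t).inv_left
        · rw [map_inv, inv_pow, ha.2, inv_one]
    have hu : ⁅x, g⁆ ∈ pw 4 N := hN (Subgroup.commutator_mem_commutator hx (Subgroup.mem_top g))
    obtain ⟨hucen, hu2⟩ := h4 _ hu
    rw [map_commutatorElement] at hucen hu2
    rw [pow_two, PE1_comm_mul, ← (hucen (f x)).eq, mul_inv_cancel_right, ← pow_two]
    exact hu2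
  · -- `p` odd
    have hbp : bp p = p := by simp [bp, hp2]
    rw [hbp] at hN hB
    have hu : ⁅x, g⁆ ∈ pw p N := hN (Subgroup.commutator_mem_commutator hx (Subgroup.mem_top g))
    have hz : ⁅x, ⁅x, g⁆⁆ ∈ ⁅pw p N, (⊤ : Subgroup G)⁆ := hcomm_mem _ hu x
    have hzc : ∀ y : G ⧸ J, Commute ⁅f x, ⁅f x, f g⁆⁆ y := by
      intro y
      have := hAcen _ hz y
      rwa [map_commutatorElement, map_commutatorElement] at this
    rw [PE1_comm_pow (f x) (f g) hzc p]
    have hup : ⁅f x, f g⁆ ^ p = 1 := by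
      have h1 : ⁅x, g⁆ ^ p ∈ J := hB (PE1_pow_mem_pw p _ hu)
      rw [hker, map_pow, map_commutatorElement] at h1
      exact h1
    have hzp : ⁅f x, ⁅f x, f g⁆⁆ ^ p = 1 := by
      have := hApow _ hz
      rwa [map_commutatorElement, map_commutatorElement] at this
    have hdvd : p ∣ p.choose 2 := by
      apply hp.dvd_choose_self (by norm_num)
      have := hp.two_le
      omega
    obtain ⟨m, hm⟩ := hdvd
    rw [hup, mul_one, hm, pow_mul, hzp, one_pow]

/-- (PE1) from (PE0) -/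
theorem PE_pw_of_nak {p : ℕ} (hp : p.Prime) (hnak : PE1_Nak G p) {N : Subgroup G} (h : PE p N) :
    PE p (pw p N) := by
  have hNn : N.Normal := h.1
  have hpn : (pw p N).Normal := PE1_pw_normal p N
  refine ⟨hpn, ?_⟩
  have hBn : (pw (bp p) (pw p N)).Normal := PE1_pw_normal _ _
  have hAn : (⁅pw p N, (⊤ : Subgroup G)⁆).Normal := inferInstance
  have hA2 : (⁅⁅pw p N, (⊤ : Subgroup G)⁆, (⊤ : Subgroup G)⁆).Normal := inferInstance
  have hA3 : (pw p ⁅pw p N, (⊤ : Subgroup G)⁆).Normal := PE1_pw_normal _ _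
  apply hnak ⁅pw p N, (⊤ : Subgroup G)⁆ (pw (bp p) (pw p N))
  set J := pw (bp p) (pw p N) ⊔ ⁅⁅pw p N, (⊤ : Subgroup G)⁆, (⊤ : Subgroup G)⁆ ⊔
    pw p ⁅pw p N, (⊤ : Subgroup G)⁆ with hJ
  have hJn : J.Normal := by rw [hJ]; infer_instance
  have hB : pw (bp p) (pw p N) ≤ J := le_sup_of_le_left le_sup_left
  have hAc : ⁅⁅pw p N, (⊤ : Subgroup G)⁆, (⊤ : Subgroup G)⁆ ≤ J := le_sup_of_le_left le_sup_right
  have hAp : pw p ⁅pw p N, (⊤ : Subgroup G)⁆ ≤ J := le_sup_right
  have hcore := PE1_core hp h J hB hAc hAp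
  -- `N^p` is central modulo `J`
  have hcen : pw p N ≤ (Subgroup.center (G ⧸ J)).comap (QuotientGroup.mk' J) := by
    unfold pw
    rw [Subgroup.closure_le]
    rintro y ⟨x, hx, rfl⟩
    rw [SetLike.mem_coe, Subgroup.mem_comap, Subgroup.mem_center_iff]
    intro t
    obtain ⟨g, rfl⟩ := QuotientGroup.mk'_surjective J t
    have h1 := hcore x hx g
    rw [← QuotientGroup.eq_one_iff, ← QuotientGroup.mk'_apply, map_commutatorElement,
      commutatorElement_eq_one_iff_mul_comm] at h1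
    exact h1.symm
  rw [Subgroup.commutator_le]
  intro w hw g _
  have h1 := hcen hw
  rw [Subgroup.mem_comap, Subgroup.mem_center_iff] at h1
  rw [← QuotientGroup.eq_one_iff, ← QuotientGroup.mk'_apply, map_commutatorElement,
    commutatorElement_eq_one_iff_mul_comm]
  exact (h1 _).symm

/-- PIECE (PE1): Lubotzky–Mann: if `N` is powerfully embedded then so is `N^p`. -/
theorem PE.pw' {G : Type*} [Group G] [Finite G] {p : ℕ} (hp : p.Prime) (hG : IsPGroup p G)
    {N : Subgroup G} (h : PE p N) : PE p (pw p N) :=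
  PE_pw_of_nak hp
    (fun A B _ _ hAB => Cfsg.Agent.Helper49.Alp.le_of_le_sup_commutator_sup_pw hp hG A B hAB) h

end Main

end Cfsg.Agent.Helper51.Alp
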