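import Mathlib
import Cfsg.Prelude.Def_Solvable
import Cfsg.Agent.S0308
import Cfsg.Agent.S0311

/-!
# Helper51: overgroups of a Sylow `p`-subgroup in a group with a split (B,N)-pair (tools for S2936)

Let `G` be a finite group with a (B,N)-pair, `U` a normal Sylow `p`-subgroup of `B` with `B = U (B ⊓ N)`,
such that `G` is generated by the conjugates of `U` and such that every maximal parabolic subgroup
normalizes a nontrivial subgroup of `U`.  Then a subgroup `M` of index prime to `p` without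
nontrivial normal `p`-subgroups is `G`.
-/

set_option autoImplicit false

namespace Cfsg.Agent.Helper51.BNO

open Cfsg

section defs
variable {G : Type*} [Group G]

/-- `M` has no nontrivial normal `p`-subgroup (stated inside the ambient group) -/
def NoNormalP (p : ℕ) (M : Subgroup G) : Prop :=
  ∀ R : Subgroup G, R ≤ M → (∀ m ∈ M, ∀ r ∈ R, m * r * m⁻¹ ∈ R) → IsPGroup p R → R = ⊥

/-- the conclusion of S2936 for the group `G` -/
def OverProp (p : ℕ) (G : Type*) [Group G] : Prop :=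
  ∀ M : Subgroup G, Cfsg.pCore p ↥M = ⊥ → ¬ p ∣ M.index → M = ⊤

theorem noNormalP_of_pCore {p : ℕ} (M : Subgroup G) (h : Cfsg.pCore p ↥M = ⊥) : NoNormalP p M := by
  intro R hRM hnorm hp
  have h1 : R.subgroupOf M ≤ Cfsg.pCore p ↥M := by
    unfold Cfsg.pCore
    apply le_sSup
    refine ⟨⟨?_⟩, ?_⟩
    · intro n hn g
      rw [Subgroup.mem_subgroupOf] at hn ⊢
      simpa using hnorm g.1 g.2 n.1 hn
    · exact hp.comap_subtype
  rw [h, le_bot_iff, Subgroup.subgroupOf_eq_bot] at h1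
  exact (disjoint_of_le_iff_left_eq_bot hRM).mp h1

theorem pCore_eq_bot_of_noNormalP {p : ℕ} (M : Subgroup G) (h : NoNormalP p M) :
    Cfsg.pCore p ↥M = ⊥ := by
  unfold Cfsg.pCore
  rw [eq_bot_iff]
  apply sSup_le
  rintro N ⟨hN, hp⟩
  have h1 : N.map M.subtype = ⊥ := by
    apply h
    · exact Subgroup.map_subtype_le N
    · rintro m hm r ⟨n, hn, rfl⟩
      exact ⟨⟨m, hm⟩ * n * ⟨m, hm⟩⁻¹, hN.conj_mem n hn _, by simp⟩
    · exact hp.map _
  intro n hn
  have : M.subtype n ∈ N.map M.subtype := Subgroup.mem_map_of_mem _ hn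
  rw [h1, Subgroup.mem_bot] at this
  rw [Subgroup.mem_bot]
  exact Subtype.ext (by simpa using this)

/-- an element conjugating a subgroup into itself normalizes it, when it has finite order -/
theorem mem_normalizer_of_conj_mem [Finite G] (R : Subgroup G) (g : G)
    (h : ∀ r ∈ R, g * r * g⁻¹ ∈ R) : g ∈ Subgroup.normalizer (R : Set G) := by
  have hpow : ∀ k : ℕ, ∀ r ∈ R, g ^ k * r * (g ^ k)⁻¹ ∈ R := by
    intro k
    induction k with
    | zero => intro r hr; simpa using hr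
    | succ k ih =>
      intro r hr
      have := h _ (ih r hr)
      have e : g ^ (k + 1) * r * (g ^ (k + 1))⁻¹ = g * (g ^ k * r * (g ^ k)⁻¹) * g⁻¹ := by
        rw [pow_succ']; group
      rw [e]; exact this
  have hinv : ∀ r ∈ R, g⁻¹ * r * g ∈ R := by
    intro r hr
    obtain ⟨k, hk0, hk⟩ := isOfFinOrder_iff_pow_eq_one.mp (isOfFinOrder_of_finite g)
    have h1 := hpow (k - 1) r hr
    have e : g ^ (k - 1) = g⁻¹ := by
      apply eq_inv_of_mul_eq_one_left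
      rw [← pow_succ, Nat.sub_add_cancel hk0, hk]
    rw [e, inv_inv] at h1
    exact h1
  rw [Subgroup.mem_normalizer_iff]
  intro r
  constructor
  · exact h r
  · intro hr
    have := hinv _ hr
    have e : g⁻¹ * (g * r * g⁻¹) * g = r := by group
    rwa [e] at this

end defs

section main
variable {G : Type*} [Group G] (P : BNPair G) {p : ℕ} [Fact p.Prime] (U : Subgroup G)

/-- `B M ⊆ M B` for a subgroup `M` containing `U` -/
theorem swap (hnorm : ∀ b ∈ P.B, ∀ u ∈ U, b * u * b⁻¹ ∈ U)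
    (hBUH : ∀ b ∈ P.B, ∃ u ∈ U, ∃ h ∈ P.B ⊓ P.N, b = u * h)
    (M : Subgroup G) (hUM : U ≤ M) (b : G) (hb : b ∈ P.B) (m : G) (hm : m ∈ M) :
    ∃ m' ∈ M, ∃ b' ∈ P.B, b * m = m' * b' := by
  obtain ⟨n, hn, hmn⟩ := Cfsg.Agent.S0308.result P m
  rw [DoubleCoset.mem_doubleCoset] at hmn
  obtain ⟨b₁, hb₁, b₂, hb₂, hm12⟩ := hmn
  obtain ⟨u, hu, h, hh, rfl⟩ := hBUH b hb
  obtain ⟨u₁, hu₁, h₁, hh₁, rfl⟩ := hBUH b₁ hb₁
  obtain ⟨u₂, hu₂, h₂, hh₂, rfl⟩ := hBUH b₂ hb₂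
  have hhB := (Subgroup.mem_inf.mp hh).1
  have hhN := (Subgroup.mem_inf.mp hh).2
  have hh₁N := (Subgroup.mem_inf.mp hh₁).2
  have hh₂B := (Subgroup.mem_inf.mp hh₂).1
  have hh₂N := (Subgroup.mem_inf.mp hh₂).2
  -- `u₂ h₂ = h₂ u₂'`
  set u₂' := h₂⁻¹ * u₂ * h₂ with hu₂'
  have hu₂'U : u₂' ∈ U := by
    have := hnorm h₂⁻¹ (inv_mem hh₂B) u₂ hu₂
    simpa [hu₂'] using this
  set n' := h₁ * n * h₂ with hn'
  have hn'N : n' ∈ P.N := mul_mem (mul_mem hh₁N hn) hh₂N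
  have hmeq : m = u₁ * n' * u₂' := by
    rw [hm12, hn', hu₂']; group
  have hn'M : n' ∈ M := by
    have : n' = u₁⁻¹ * m * u₂'⁻¹ := by rw [hmeq]; group
    rw [this]
    exact mul_mem (mul_mem (inv_mem (hUM hu₁)) hm) (inv_mem (hUM hu₂'U))
  -- `h n' = n' h'`
  set h' := n'⁻¹ * h * n' with hh'
  have hh'B : h' ∈ P.B := by
    have := P.conj_mem n'⁻¹ (inv_mem hn'N) h hh
    simpa [hh'] using this
  have hu₁' : h * u₁ * h⁻¹ ∈ U := hnorm h hhB u₁ hu₁
  refine ⟨u * (h * u₁ * h⁻¹) * n', mul_mem (mul_mem (hUM hu) (hUM hu₁')) hn'M,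
    h' * u₂', mul_mem hh'B ?_, ?_⟩
  · obtain ⟨v, hv, k, hk, e⟩ := hBUH (u₂' * 1) (by
      obtain ⟨v, hv, k, hk, e⟩ := hBUH (u₂ * h₂) hb₂
      have : u₂' * 1 = h₂⁻¹ * (u₂ * h₂) := by rw [hu₂']; group
      rw [this]
      exact mul_mem (inv_mem hh₂B) hb₂)
    have : u₂' = v * k := by simpa using e
    rw [this]
    exact mul_mem (by
      -- `v ∈ U ≤ B`?  we only know `U`-elements are in `B` through `hBUH`; use the product directly
      have hvk : v * k ∈ P.B := by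
        rw [← this]
        have : u₂' = h₂⁻¹ * (u₂ * h₂) := by rw [hu₂']; group
        rw [this]
        exact mul_mem (inv_mem hh₂B) hb₂
      have hk' := (Subgroup.mem_inf.mp hk).1
      have : v = v * k * k⁻¹ := by group
      rw [this]
      exact mul_mem hvk (inv_mem hk')) (Subgroup.mem_inf.mp hk).1
  · rw [hmeq, hh']; group

/-- the key case: `M` contains `U` -/
theorem eq_top_of_le [Finite G] (hUp : IsPGroup p U)
    (hnorm : ∀ b ∈ P.B, ∀ u ∈ U, b * u * b⁻¹ ∈ U)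
    (hBUH : ∀ b ∈ P.B, ∃ u ∈ U, ∃ h ∈ P.B ⊓ P.N, b = u * h)
    (hgen : Subgroup.normalClosure (U : Set G) = ⊤)
    (hR : ∀ s₀ ∈ P.S, ∃ R : Subgroup G, R ≠ ⊥ ∧ R ≤ U ∧ (∀ b ∈ P.B, ∀ r ∈ R, b * r * b⁻¹ ∈ R) ∧
      ∀ s ∈ P.S, s ≠ s₀ → ∀ r ∈ R, s * r * s⁻¹ ∈ R)
    (M : Subgroup G) (hUM : U ≤ M) (hM : NoNormalP p M) : M = ⊤ := by
  -- every element of `X = ⟨M, B⟩` is a product `m b`
  have hX : ∀ x ∈ M ⊔ P.B, ∃ m ∈ M, ∃ b ∈ P.B, x = m * b := by
    intro x hx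
    rw [Subgroup.sup_eq_closure] at hx
    induction hx using Subgroup.closure_induction with
    | mem y hy =>
      rcases hy with hy | hy
      · exact ⟨y, hy, 1, one_mem _, by simp⟩
      · exact ⟨1, one_mem _, y, hy, by simp⟩
    | one => exact ⟨1, one_mem _, 1, one_mem _, by simp⟩
    | mul y z _ _ ihy ihz =>
      obtain ⟨m₁, hm₁, b₁, hb₁, rfl⟩ := ihy
      obtain ⟨m₂, hm₂, b₂, hb₂, rfl⟩ := ihz
      obtain ⟨m', hm', b', hb', e⟩ := swap P U hnorm hBUH M hUM b₁ hb₁ m₂ hm₂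
      refine ⟨m₁ * m', mul_mem hm₁ hm', b' * b₂, mul_mem hb' hb₂, ?_⟩
      calc m₁ * b₁ * (m₂ * b₂) = m₁ * (b₁ * m₂) * b₂ := by group
        _ = m₁ * (m' * b') * b₂ := by rw [e]
        _ = m₁ * m' * (b' * b₂) := by group
    | inv y _ ihy =>
      obtain ⟨m₁, hm₁, b₁, hb₁, rfl⟩ := ihy
      obtain ⟨m', hm', b', hb', e⟩ := swap P U hnorm hBUH M hUM b₁⁻¹ (inv_mem hb₁) m₁⁻¹ (inv_mem hm₁)
      exact ⟨m', hm', b', hb', by rw [mul_inv_rev, e]⟩
  obtain ⟨J, hJS, hXJ⟩ := Cfsg.Agent.S0311.result P (M ⊔ P.B) le_sup_right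
  by_cases hJ : J = P.S
  · -- `X = G`
    have htop : M ⊔ P.B = ⊤ := by
      rw [hXJ, hJ, eq_top_iff, ← P.sup_eq_top]
      unfold BNPair.parabolic
      apply sup_le le_sup_left
      rw [← P.closure_sup]
      exact sup_le le_sup_right (inf_le_left.trans le_sup_left)
    rw [eq_top_iff, ← hgen]
    unfold Subgroup.normalClosure
    rw [Subgroup.closure_le]
    intro a ha
    rw [Group.mem_conjugatesOfSet_iff] at ha
    obtain ⟨u, hu, hconj⟩ := ha
    rw [isConj_iff] at hconj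
    obtain ⟨c, rfl⟩ := hconj
    obtain ⟨m, hm, b, hb, rfl⟩ := hX c (by rw [htop]; exact Subgroup.mem_top c)
    have e : m * b * u * (m * b)⁻¹ = m * (b * u * b⁻¹) * m⁻¹ := by group
    rw [SetLike.mem_coe, e]
    exact mul_mem (mul_mem hm (hUM (hnorm b hb u hu))) (inv_mem hm)
  · -- a proper parabolic: contradiction
    exfalso
    have : ∃ s₀ ∈ P.S, s₀ ∉ J := by
      by_contra hcon
      push Not at hcon
      exact hJ (Set.Subset.antisymm hJS hcon)
    obtain ⟨s₀, hs₀, hs₀J⟩ := this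
    obtain ⟨R, hRne, hRU, hRB, hRS⟩ := hR s₀ hs₀
    have hXN : M ⊔ P.B ≤ Subgroup.normalizer (R : Set G) := by
      rw [hXJ]
      unfold BNPair.parabolic
      apply sup_le
      · intro b hb
        exact mem_normalizer_of_conj_mem R b (hRB b hb)
      · rw [Subgroup.closure_le]
        intro s hs
        exact mem_normalizer_of_conj_mem R s
          (hRS s (hJS hs) (fun h => hs₀J (h ▸ hs)))
    apply hRne
    apply hM R (hRU.trans hUM) _ (hUp.to_le hRU)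
    intro m hm r hr
    have := hXN (le_sup_left (a := M) (b := P.B) hm)
    rw [Subgroup.mem_normalizer_iff] at this
    exact (this r).mp hr

/-- conjugates of a subgroup without normal `p`-subgroups -/
theorem NoNormalP.conj {M : Subgroup G} (hM : NoNormalP p M) (g : G) :
    NoNormalP p (M.map (MulAut.conj g).toMonoidHom) := by
  intro R hRM hnorm hp
  have h1 : R.map (MulAut.conj g⁻¹).toMonoidHom = ⊥ := by
    apply hM
    · rintro x ⟨r, hr, rfl⟩
      obtain ⟨m, hm, hmr⟩ := hRM hr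
      have : (MulAut.conj g⁻¹).toMonoidHom r = m := by
        rw [← hmr]; simp [MulAut.conj_apply]; group
      rw [this]; exact hm
    · rintro m hm x ⟨r, hr, rfl⟩
      have h2 := hnorm (g * m * g⁻¹) ⟨m, hm, by simp [MulAut.conj_apply]⟩ r hr
      refine ⟨g * m * g⁻¹ * r * (g * m * g⁻¹)⁻¹, h2, ?_⟩
      simp [MulAut.conj_apply]; group
    · exact hp.map _
  rw [eq_bot_iff]
  intro r hr
  have : (MulAut.conj g⁻¹).toMonoidHom r ∈ R.map (MulAut.conj g⁻¹).toMonoidHom :=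
    Subgroup.mem_map_of_mem _ hr
  rw [h1, Subgroup.mem_bot] at this
  rw [Subgroup.mem_bot]
  have h3 : (MulAut.conj g⁻¹) r = 1 := this
  exact (MulEquiv.map_eq_one_iff _).mp h3

/-- **Main theorem.** -/
theorem eq_top [Finite G] (hUp : IsPGroup p U)
    (hnorm : ∀ b ∈ P.B, ∀ u ∈ U, b * u * b⁻¹ ∈ U)
    (hBUH : ∀ b ∈ P.B, ∃ u ∈ U, ∃ h ∈ P.B ⊓ P.N, b = u * h)
    (hgen : Subgroup.normalClosure (U : Set G) = ⊤)
    (hR : ∀ s₀ ∈ P.S, ∃ R : Subgroup G, R ≠ ⊥ ∧ R ≤ U ∧ (∀ b ∈ P.B, ∀ r ∈ R, b * r * b⁻¹ ∈ R) ∧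
      ∀ s ∈ P.S, s ≠ s₀ → ∀ r ∈ R, s * r * s⁻¹ ∈ R)
    (M : Subgroup G) (hidx : ¬ p ∣ M.index) (hM : NoNormalP p M) : M = ⊤ := by
  -- `U` fixes a coset `g M`
  have hfix := hUp.nonempty_fixed_point_of_prime_not_dvd_card (G ⧸ M) (by
    rw [← Subgroup.index_eq_card]; exact hidx)
  obtain ⟨a, ha⟩ := hfix
  induction a using QuotientGroup.induction_on with
  | H g =>
    have hU : U ≤ M.map (MulAut.conj g).toMonoidHom := by
      intro u hu
      have h1 := ha ⟨u, hu⟩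
      have h2 : ((u * g : G) : G ⧸ M) = (g : G ⧸ M) := h1
      rw [QuotientGroup.eq] at h2
      refine ⟨g⁻¹ * u * g, ?_, ?_⟩
      · have : (u * g)⁻¹ * g = (g⁻¹ * u * g)⁻¹ := by group
        rw [this] at h2
        exact inv_mem_iff.mp h2
      · simp [MulAut.conj_apply]; group
    have h3 := eq_top_of_le P U hUp hnorm hBUH hgen hR _ hU (hM.conj g)
    rw [eq_top_iff]
    intro x _
    have : g * x * g⁻¹ ∈ M.map (MulAut.conj g).toMonoidHom := by rw [h3]; exact Subgroup.mem_top _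
    obtain ⟨m, hm, hmx⟩ := this
    have : m = x := by
      have h4 : g * m * g⁻¹ = g * x * g⁻¹ := by simpa [MulAut.conj_apply] using hmx
      exact mul_left_cancel (mul_right_cancel h4)
    rw [← this]; exact hm

/-- the form used in S2936 -/
theorem overProp [Finite G] (hUp : IsPGroup p U)
    (hnorm : ∀ b ∈ P.B, ∀ u ∈ U, b * u * b⁻¹ ∈ U)
    (hBUH : ∀ b ∈ P.B, ∃ u ∈ U, ∃ h ∈ P.B ⊓ P.N, b = u * h)
    (hgen : Subgroup.normalClosure (U : Set G) = ⊤)
    (hR : ∀ s₀ ∈ P.S, ∃ R : Subgroup G, R ≠ ⊥ ∧ R ≤ U ∧ (∀ b ∈ P.B, ∀ r ∈ R, b * r * b⁻¹ ∈ R) ∧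
      ∀ s ∈ P.S, s ≠ s₀ → ∀ r ∈ R, s * r * s⁻¹ ∈ R) : OverProp p G :=
  fun M hM hidx => eq_top P U hUp hnorm hBUH hgen hR M hidx (noNormalP_of_pCore M hM)

end main

end Cfsg.Agent.Helper51.BNO
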