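import Mathlib
import Cfsg.Agent.Helper2.CS2Defs
import Cfsg.Agent.Helper2.CS2Basic
import Cfsg.Agent.S4127
import Cfsg.Agent.Helper51.CS2P0b

/-!
Helper51: piece (A12) of helper2's S4284 plan (class sizes `{1, m, mn}`): structure of `M = C(x)`
for a `t`-element `x` of index `m`, `t ∣ m`.
-/

set_option autoImplicit false
set_option linter.unusedVariables false
set_option linter.unusedSectionVars false

namespace Cfsg.Agent.Helper51.CS2

open Cfsg.Agent.Helper2.CS2 Subgroup

variable {G : Type*} [Group G] [Finite G] {m n : ℕ}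

/-- the centralizer of `u` inside a subgroup `M`, and its index -/
theorem index_centralizer_subtype (M : Subgroup G) (u : M) :
    (centralizer ({u} : Set M)).index = (Cn (u : G)).relIndex M := by
  have : centralizer ({u} : Set M) = (Cn (u : G)).subgroupOf M := by
    ext g
    rw [mem_centralizer_singleton_iff, mem_subgroupOf, mem_centralizer_singleton_iff]
    constructor
    · intro hg; exact congrArg Subtype.val hg
    · intro hg; exact Subtype.ext hg
  rw [this]
  rfl

/-- (F7) inside `M = C(x)` -/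
theorem index_centralizer_of_m (h : Hyp G m n) {t : ℕ} (ht : t.Prime) {x : G} (hx : IsPElt t x)
    (hxm : idx x = m) (u : Cn x) (hu : (orderOf u).Coprime t) :
    (centralizer ({u} : Set (Cn x))).index = 1 ∨ (centralizer ({u} : Set (Cn x))).index = n := by
  rw [index_centralizer_subtype]
  obtain ⟨k, hk⟩ := hx
  have hc : Commute x (u : G) := (mem_Cn_iff'.mp u.2).symm
  have hcop : (orderOf x).Coprime (orderOf (u : G)) := by
    rw [hk, Subgroup.orderOf_coe]
    exact (Nat.Coprime.pow_right k hu).symm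
  exact h.relIndex_of_m hxm hc hcop

theorem caseA_split (h : Hyp G m n) {t : ℕ} (ht : t.Prime) (htm : t ∣ m) {x : G} (hx : IsPElt t x)
    (hxm : idx x = m) :
    ∃ Q : Subgroup G, Q ≤ Cn x ∧ IsPGroup t Q ∧ (∀ a ∈ Cn x, IsPElt t a → a ∈ Q) ∧
      (∀ a ∈ Q, ∀ b ∈ Cn x, (orderOf b).Coprime t → Commute a b) ∧
      (∀ s : ℕ, s.Prime → s ∣ m → s ≠ t → ∀ a ∈ Cn x, IsPElt s a → ∀ b ∈ Cn x, Commute a b) := by
  classical
  have : Fact t.Prime := ⟨ht⟩
  have hn1 := h.one_lt_n
  -- primes dividing `m` are prime to `n`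
  have hcopn : ∀ s : ℕ, s ∣ m → s.Coprime n := fun s hs => Nat.Coprime.coprime_dvd_left hs h.cop
  -- the hypothesis of `commute_of_coprime_index` at `t`
  have hHt : ∀ y : Cn x, (orderOf y).Coprime t →
      ((centralizer ({y} : Set (Cn x))).index).Coprime t := by
    intro y hy
    rcases index_centralizer_of_m h ht hx hxm y hy with h1 | h1
    · rw [h1]; exact Nat.coprime_one_left t
    · rw [h1]; exact (hcopn t htm).symm
  obtain ⟨keyt, commt⟩ := Cfsg.Agent.S4127.commute_of_coprime_index (H := Cn x) (p := t) hHt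
  obtain ⟨PM⟩ := (inferInstance : Nonempty (Sylow t (Cn x)))
  refine ⟨(PM : Subgroup (Cn x)).map (Cn x).subtype, Subgroup.map_subtype_le _,
    PM.2.map _, ?_, ?_, ?_⟩
  · -- all `t`-elements of `M` lie in `Q`
    intro a ha hat
    obtain ⟨k, hk⟩ := hat
    have hk' : ∃ k : ℕ, orderOf (⟨a, ha⟩ : Cn x) = t ^ k := ⟨k, by rw [Subgroup.orderOf_mk, hk]⟩
    obtain ⟨S, hS⟩ := Cfsg.Agent.S4153.exists_sylow_mem hk'
    have hSP : S = PM := Cfsg.Agent.S4127.sylow_eq_of_normal PM S (keyt PM)
    rw [hSP] at hS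
    exact ⟨⟨a, ha⟩, hS, rfl⟩
  · -- `Q` commutes with the `t'`-elements of `M`
    rintro _ ⟨a, ha, rfl⟩ b hb hbt
    have hak : ∃ k : ℕ, orderOf a = t ^ k := by
      obtain ⟨k, hk⟩ := (IsPGroup.iff_orderOf.mp PM.2) ⟨a, ha⟩
      exact ⟨k, (Subgroup.orderOf_mk a ha).symm.trans hk⟩
    have hb' : (orderOf (⟨b, hb⟩ : Cn x)).Coprime t := by rw [Subgroup.orderOf_mk]; exact hbt
    have := commt a ⟨b, hb⟩ hak hb'
    exact congrArg Subtype.val this
  · -- the other primes of `m`
    intro s hs hsm hst a ha has b hb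
    have : Fact s.Prime := ⟨hs⟩
    have hst' : s.Coprime t := (Nat.coprime_primes hs ht).mpr hst
    -- the hypothesis of `commute_of_coprime_index` at `s`
    have hHs : ∀ y : Cn x, (orderOf y).Coprime s →
        ((centralizer ({y} : Set (Cn x))).index).Coprime s := by
      intro y hy
      obtain ⟨y', z, hy'y, hzy, hyz, hy'cop, k, hzk⟩ :=
        Cfsg.Agent.Helper67.exists_pprime_ppart t (isOfFinOrder_of_finite y)
      -- a Sylow `s`-subgroup of `M` centralizing `y'`
      have hidx : ((centralizer ({y'} : Set (Cn x))).index).Coprime s := by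
        rcases index_centralizer_of_m h ht hx hxm y' hy'cop with h1 | h1
        · rw [h1]; exact Nat.coprime_one_left s
        · rw [h1]; exact (hcopn s hsm).symm
      obtain ⟨S₁, -, hS₁⟩ := Cfsg.Agent.S4127.exists_sylow_commuting y' 1 hidx ⟨0, by simp⟩
        (by simp)
      have hzt : ∃ k : ℕ, orderOf z = t ^ k := Cfsg.Agent.S4127.orderOf_eq_of_pow_eq_one hzk
      have hle : (S₁ : Subgroup (Cn x)) ≤ centralizer ({y} : Set (Cn x)) := by
        intro σ hσ
        rw [mem_centralizer_singleton_iff]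
        have h1 : σ * y' = y' * σ := hS₁ σ hσ
        have hσs : (orderOf σ).Coprime t := by
          obtain ⟨i, hi⟩ := (IsPGroup.iff_orderOf.mp S₁.2) ⟨σ, hσ⟩
          rw [Subgroup.orderOf_mk] at hi
          rw [hi]
          exact Nat.Coprime.pow_left i hst'
        have h2 : z * σ = σ * z := commt z σ hzt hσs
        rw [hyz, ← mul_assoc, h1, mul_assoc, ← h2, mul_assoc]
      have hnd := not_dvd_index_of_sylow_le S₁ _ hle
      exact ((Nat.Prime.coprime_iff_not_dvd hs).mpr hnd).symm
    obtain ⟨keys, comms⟩ := Cfsg.Agent.S4127.commute_of_coprime_index (H := Cn x) (p := s) hHs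
    -- `a` is an `s`-element of `M`
    obtain ⟨j, hj⟩ := has
    have haj : ∃ k : ℕ, orderOf (⟨a, ha⟩ : Cn x) = s ^ k := ⟨j, by rw [Subgroup.orderOf_mk, hj]⟩
    have hat : (orderOf (⟨a, ha⟩ : Cn x)).Coprime t := by
      rw [Subgroup.orderOf_mk, hj]; exact Nat.Coprime.pow_left j hst'
    have hidx1 : (centralizer ({(⟨a, ha⟩ : Cn x)} : Set (Cn x))).index = 1 := by
      rcases index_centralizer_of_m h ht hx hxm ⟨a, ha⟩ hat with h1 | h1
      · exact h1
      · exfalso
        obtain ⟨r, hr, hrn⟩ := Nat.exists_prime_and_dvd (show n ≠ 1 by omega)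
        have : Fact r.Prime := ⟨hr⟩
        have hrs : r ≠ s := by
          rintro rfl
          have := Nat.Coprime.eq_one_of_dvd (hcopn r hsm) hrn
          exact hr.one_lt.ne' this
        have hrs' : r.Coprime s := (Nat.coprime_primes hr hs).mpr hrs
        obtain ⟨R⟩ := (inferInstance : Nonempty (Sylow r (Cn x)))
        have hle : (R : Subgroup (Cn x)) ≤ centralizer ({(⟨a, ha⟩ : Cn x)} : Set (Cn x)) := by
          intro ρ hρ
          rw [mem_centralizer_singleton_iff]
          have hρs : (orderOf ρ).Coprime s := by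
            obtain ⟨i, hi⟩ := (IsPGroup.iff_orderOf.mp R.2) ⟨ρ, hρ⟩
            rw [Subgroup.orderOf_mk] at hi
            rw [hi]
            exact Nat.Coprime.pow_left i hrs'
          exact (comms ⟨a, ha⟩ ρ haj hρs).symm
        have hnd := not_dvd_index_of_sylow_le R _ hle
        rw [h1] at hnd
        exact hnd hrn
    rw [Subgroup.index_eq_one] at hidx1
    have hbm : (⟨b, hb⟩ : Cn x) ∈ centralizer ({(⟨a, ha⟩ : Cn x)} : Set (Cn x)) := by
      rw [hidx1]; exact mem_top _
    rw [mem_centralizer_singleton_iff] at hbm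
    have := congrArg Subtype.val hbm
    exact this.symm

end Cfsg.Agent.Helper51.CS2
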