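import Cfsg.Agent.Helper36.ChevAutDefs
import Cfsg.Agent.Helper36.BNPair
import Cfsg.Agent.Helper18.LongWord
import Cfsg.Agent.Helper18.BNStruct
import Cfsg.Agent.Helper18.Core
import Cfsg.Agent.S0308
import Cfsg.Agent.S1036
import Cfsg.Agent.S1037
import Cfsg.Agent.S1043

/-!
Helper51: piece C of the automorphism theorem of the Chevalley groups (S2156, plan of helper36):
an automorphism stabilising `U` can be corrected by an element of `B` so that it also stabilises `V`.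
-/

set_option autoImplicit false

namespace Cfsg.Agent.Helper51.ChevAutC

open Cfsg Cfsg.Lie Cfsg.Agent.Helper18

section
variable {F : Type*} [Field F] (D : ChevalleyDatum)
  (hD : D ∈ [chevG2, chevB2, chevD4, chevF4, chevE6, chevE7, chevE8])
include hD

/-- if `n ∈ N` and `U ∩ n U n⁻¹ = 1` then `n U n⁻¹ ≤ V` -/
theorem conj_le_neg (n : GL D.Idx F) (hn : n ∈ D.monomialSubgroup F)
    (hdisj : ∀ g : GL D.Idx F, g ∈ D.posUnipotent F → n * g * n⁻¹ ∈ D.posUnipotent F → g = 1) :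
    ∀ g : GL D.Idx F, g ∈ D.posUnipotent F → n * g * n⁻¹ ∈ D.negUnipotent F := by
  have htri := triOK_of_mem D hD
  have hpos := posOK_of_mem D hD
  obtain ⟨w, hw, h, hh, rfl⟩ := mem_monomial_decomp D hD n hn
  have hrefl : ∀ i s, i < D.rank → s < D.nroots → D.reflectRoot i s < D.nroots :=
    fun i s hi hs => reflectRoot_lt D hD i s hi hs
  have hHU := diagonalSubgroup_le_normalizer_posUnipotent (F := F) D hD
  have hHV := diagonalSubgroup_le_normalizer_negUnipotent (F := F) D hD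
  have hle : D.posUnipotent F ≤
      (D.negUnipotent F).comap (MulAut.conj (h * nWordsGL D F w)).toMonoidHom := by
    conv_lhs => unfold ChevalleyDatum.posUnipotent
    rw [Subgroup.closure_le]
    rintro g ⟨s, t, hs, hg⟩
    have hs' := (isPosRoot_iff D _ hpos s).mp hs
    have hgx : g = xGL D F s t := Units.ext (by rw [hg, xGL_val D _ htri])
    obtain ⟨hlt, η, hη, hc⟩ := nWordsGL_conj_xGL D hD (nConjHyp (F := F) D hD) hrefl w hw s hs'.2
    have hconj : ∀ t : F, (h * nWordsGL D F w) * xGL D F s t * (h * nWordsGL D F w)⁻¹ =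
        h * xGL D F (rho D w s) ((η : F) * t) * h⁻¹ := by
      intro t
      rw [mul_inv_rev, mul_assoc h, hc t]
      group
    -- `ρ s` is negative
    have hneg : rho D w s < hlfOf D := by
      by_contra hge
      rw [not_lt] at hge
      have hxU : xGL D F (rho D w s) ((η : F) * 1) ∈ D.posUnipotent F := by
        apply Subgroup.subset_closure
        exact ⟨_, _, (isPosRoot_iff D _ hpos _).mpr ⟨hge, hlt⟩, xGL_val D _ htri _ _⟩
      have h1 : h * xGL D F (rho D w s) ((η : F) * 1) * h⁻¹ ∈ D.posUnipotent F :=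
        (Subgroup.mem_normalizer_iff.mp (hHU hh) _).mp hxU
      have hsU : xGL D F s 1 ∈ D.posUnipotent F := by
        apply Subgroup.subset_closure
        exact ⟨s, 1, hs, xGL_val D _ htri _ _⟩
      rw [← hconj 1] at h1
      have h2 := hdisj _ hsU h1
      have h3 := congrArg (fun g : GL D.Idx F => (g : Matrix D.Idx D.Idx F)) h2
      simp only [xGL_val D _ htri, Units.val_one] at h3
      have h4 := (Cfsg.Agent.S1024.result D hD s hs'.2 (1 : F)).mp h3
      exact one_ne_zero h4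
    rw [SetLike.mem_coe, Subgroup.mem_comap]
    change (h * nWordsGL D F w) * g * (h * nWordsGL D F w)⁻¹ ∈ _
    rw [hgx, hconj t]
    apply (Subgroup.mem_normalizer_iff.mp (hHV hh) _).mp
    apply Subgroup.subset_closure
    exact ⟨_, _, (isNegRoot_iff D _ hpos _).mpr ⟨hneg, hlt⟩, xGL_val D _ htri _ _⟩
  intro g hg
  exact hle hg

/-- piece C: an automorphism stabilising `U` becomes, after conjugation by an element of `B`, an
automorphism stabilising `V` as well -/
theorem pieceC [Finite F] (θ : ↥(D.group F) ≃* ↥(D.group F))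
    (hU : ∀ u : ↥(D.group F), (u : GL D.Idx F) ∈ D.posUnipotent F →
      (θ u : GL D.Idx F) ∈ D.posUnipotent F) :
    ∃ b : ↥(D.group F), (b : GL D.Idx F) ∈ D.borelSubgroup F ∧
      ∀ v : ↥(D.group F), (v : GL D.Idx F) ∈ D.negUnipotent F →
        ((b * θ v * b⁻¹ : ↥(D.group F)) : GL D.Idx F) ∈ D.negUnipotent F := by
  classical
  have h43 := Cfsg.Agent.S1043.result (F := F) D hD
  have h37 := Cfsg.Agent.S1037.result (F := F) D hD
  have hBN : D.borelSubgroup F ≤ Subgroup.normalizer (D.posUnipotent F : Set (GL D.Idx F)) := by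
    unfold ChevalleyDatum.borelSubgroup
    exact sup_le Subgroup.le_normalizer (Cfsg.Agent.S1036.result (F := F) D hD).1
  have hUB : D.posUnipotent F ≤ D.borelSubgroup F := le_sup_left
  have hUG : D.posUnipotent F ≤ D.group F := le_trans hUB h43.1
  -- conjugation by `B` preserves `U`, at the level of `G`
  have hconjU : ∀ b u : ↥(D.group F), (b : GL D.Idx F) ∈ D.borelSubgroup F →
      (u : GL D.Idx F) ∈ D.posUnipotent F →
      ((b * u * b⁻¹ : ↥(D.group F)) : GL D.Idx F) ∈ D.posUnipotent F := by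
    intro b u hb hu
    have := (Subgroup.mem_normalizer_iff.mp (hBN hb) _).mp hu
    simpa using this
  -- `θ` is onto `U`
  have hsurj : ∀ u : ↥(D.group F), (u : GL D.Idx F) ∈ D.posUnipotent F →
      ∃ u' : ↥(D.group F), (u' : GL D.Idx F) ∈ D.posUnipotent F ∧ θ u' = u := by
    let UG : Subgroup ↥(D.group F) := (D.posUnipotent F).subgroupOf (D.group F)
    let f : UG → UG := fun u =>
      ⟨θ u, Subgroup.mem_subgroupOf.mpr (hU u (Subgroup.mem_subgroupOf.mp u.2))⟩
    have hf : Function.Injective f := by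
      intro a b hab
      have := congrArg Subtype.val hab
      exact Subtype.ext (θ.injective this)
    have hfs := Finite.surjective_of_injective hf
    intro u hu
    obtain ⟨u', hu'⟩ := hfs ⟨u, Subgroup.mem_subgroupOf.mpr hu⟩
    exact ⟨u', Subgroup.mem_subgroupOf.mp u'.2, congrArg Subtype.val hu'⟩
  -- the longest element
  obtain ⟨n₀, hn₀N, hn₀⟩ := exists_longest_of_mem D hD (nConjHyp (F := F) D hD)
  have hn₀V : ∀ u : GL D.Idx F, u ∈ D.posUnipotent F → n₀ * u * n₀⁻¹ ∈ D.negUnipotent F := by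
    intro u hu
    rw [← hn₀]
    exact ⟨u, hu, rfl⟩
  have hVn₀ : ∀ v : GL D.Idx F, v ∈ D.negUnipotent F → ∃ u ∈ D.posUnipotent F, n₀ * u * n₀⁻¹ = v := by
    intro v hv
    rw [← hn₀] at hv
    obtain ⟨u, hu, rfl⟩ := hv
    exact ⟨u, hu, rfl⟩
  let n₀G : ↥(D.group F) := ⟨n₀, h43.2.1 hn₀N⟩
  set g : ↥(D.group F) := θ n₀G with hg_def
  -- `U ∩ g U g⁻¹ = 1`
  have hgdisj : ∀ u : ↥(D.group F), (u : GL D.Idx F) ∈ D.posUnipotent F →
      ((g * u * g⁻¹ : ↥(D.group F)) : GL D.Idx F) ∈ D.posUnipotent F → u = 1 := by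
    intro u hu hgu
    obtain ⟨u', hu', rfl⟩ := hsurj u hu
    have e1 : g * θ u' * g⁻¹ = θ (n₀G * u' * n₀G⁻¹) := by
      rw [map_mul, map_mul, map_inv]
    rw [e1] at hgu
    obtain ⟨u'', hu'', e2⟩ := hsurj _ hgu
    have e3 : u'' = n₀G * u' * n₀G⁻¹ := θ.injective e2
    have hv : ((n₀G * u' * n₀G⁻¹ : ↥(D.group F)) : GL D.Idx F) ∈ D.negUnipotent F := by
      have := hn₀V _ hu'
      simpa using this
    have hmem : ((n₀G * u' * n₀G⁻¹ : ↥(D.group F)) : GL D.Idx F) ∈
        D.borelSubgroup F ⊓ D.negUnipotent F := ⟨hUB (e3 ▸ hu''), hv⟩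
    rw [h37.1, Subgroup.mem_bot] at hmem
    have e4 : n₀G * u' * n₀G⁻¹ = 1 := Subtype.ext hmem
    have e5 : u' = 1 := by
      have : u' = n₀G⁻¹ * (n₀G * u' * n₀G⁻¹) * n₀G := by group
      rw [this, e4]; group
    rw [e5, map_one]
  -- Bruhat decomposition of `g`
  obtain ⟨P, hPB, hPN, -⟩ := Cfsg.Agent.Helper36.chev_bnPair (F := F) D hD
  obtain ⟨n, hnN, hgn⟩ := Cfsg.Agent.S0308.result P g
  rw [DoubleCoset.mem_doubleCoset] at hgn
  obtain ⟨b, hb, b', hb', hgb⟩ := hgn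
  rw [SetLike.mem_coe, hPB, Subgroup.mem_subgroupOf] at hb hb'
  rw [hPN, Subgroup.mem_subgroupOf] at hnN
  have hbi : ((b⁻¹ : ↥(D.group F)) : GL D.Idx F) ∈ D.borelSubgroup F := by
    simpa using inv_mem hb
  have hb'i : ((b'⁻¹ : ↥(D.group F)) : GL D.Idx F) ∈ D.borelSubgroup F := by
    simpa using inv_mem hb'
  -- `U ∩ n U n⁻¹ = 1`
  have hndisj : ∀ u : GL D.Idx F, u ∈ D.posUnipotent F →
      (n : GL D.Idx F) * u * (n : GL D.Idx F)⁻¹ ∈ D.posUnipotent F → u = 1 := by
    intro u hu hnu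
    let uG : ↥(D.group F) := ⟨u, hUG hu⟩
    let wG : ↥(D.group F) := ⟨(n : GL D.Idx F) * u * (n : GL D.Idx F)⁻¹, hUG hnu⟩
    have ew : wG = n * uG * n⁻¹ := Subtype.ext (by simp [wG, uG])
    have h1 : ((b'⁻¹ * uG * b'⁻¹⁻¹ : ↥(D.group F)) : GL D.Idx F) ∈ D.posUnipotent F :=
      hconjU _ _ hb'i hu
    have h2 : ((b * wG * b⁻¹ : ↥(D.group F)) : GL D.Idx F) ∈ D.posUnipotent F :=
      hconjU _ _ hb hnu
    have e : g * (b'⁻¹ * uG * b'⁻¹⁻¹) * g⁻¹ = b * wG * b⁻¹ := by
      rw [hgb, ew]; group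
    have h3 := hgdisj _ h1 (e ▸ h2)
    have h4 : uG = 1 := by
      have : uG = b' * (b'⁻¹ * uG * b'⁻¹⁻¹) * b'⁻¹ := by group
      rw [this, h3]; group
    exact congrArg Subtype.val h4
  have hkey := conj_le_neg D hD (n : GL D.Idx F) hnN hndisj
  refine ⟨b⁻¹, hbi, fun v hv => ?_⟩
  obtain ⟨u, hu, huv⟩ := hVn₀ _ hv
  let uG : ↥(D.group F) := ⟨u, hUG hu⟩
  have ev : v = n₀G * uG * n₀G⁻¹ := Subtype.ext (by simp [n₀G, uG, huv])
  have hθu := hU uG hu
  have h1 : ((b' * θ uG * b'⁻¹ : ↥(D.group F)) : GL D.Idx F) ∈ D.posUnipotent F :=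
    hconjU _ _ hb' hθu
  have h2 := hkey _ h1
  have e : b⁻¹ * θ v * b⁻¹⁻¹ = n * (b' * θ uG * b'⁻¹) * n⁻¹ := by
    rw [ev, map_mul, map_mul, map_inv, ← hg_def, hgb]; group
  rw [e]
  simpa using h2

end

end Cfsg.Agent.Helper51.ChevAutC
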