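import Cfsg.Agent.S4160

/-!
Helper51: counting lemma for conjugacy class sizes (for S4149).  If `G` has no normal `q`-complement,
then at most half of the elements of `G` have class size prime to `q`.
-/

set_option autoImplicit false

namespace Cfsg.Agent.Helper51.ClassCount

open Cfsg

/-- if `G` has no normal `q`-complement then at most half of the elements have a class size prime
to `q` (they lie in the conjugates of `C_G(Q)`, `Q` a Sylow `q`-subgroup, and `N_G(Q) ≠ C_G(Q)` by
Burnside's transfer theorem) -/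
theorem two_mul_card_le {G : Type*} [Group G] [Finite G] (q : ℕ) (hq : q.Prime)
    (hn : ¬ Cfsg.HasNormalPComplement q G) :
    2 * Nat.card {z : G // ¬ q ∣ (Subgroup.centralizer ({z} : Set G)).index} ≤ Nat.card G := by
  classical
  have : Fact q.Prime := ⟨hq⟩
  obtain ⟨Q⟩ := (inferInstance : Nonempty (Sylow q G))
  set NQ := Subgroup.normalizer ((Q : Subgroup G) : Set G) with hNQ
  set CQ := Subgroup.centralizer ((Q : Subgroup G) : Set G) with hCQ
  have burnQ : NQ ≤ CQ → Cfsg.HasNormalPComplement q G := fun hle =>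
    ⟨Q, (MonoidHom.transferSylow Q hle).ker, inferInstance,
      MonoidHom.ker_transferSylow_isComplement' Q hle⟩
  have hb : CQ.relIndex NQ ≠ 1 := fun h1 => hn (burnQ (Subgroup.relIndex_eq_one.mp h1))
  have hb0 : CQ.relIndex NQ ≠ 0 :=
    show (CQ.subgroupOf NQ).index ≠ 0 from Subgroup.index_ne_zero_of_finite
  have hb2 : 2 ≤ CQ.relIndex NQ := by omega
  -- the covering map
  let F : (G ⧸ NQ) × CQ → G := fun tc => tc.1.out * (tc.2 : G) * tc.1.out⁻¹
  have hcov : ∀ z : {z : G // ¬ q ∣ (Subgroup.centralizer ({z} : Set G)).index},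
      ∃ tc : (G ⧸ NQ) × CQ, F tc = z.1 := by
    intro z
    obtain ⟨t, c, htc⟩ := Cfsg.Agent.S4160.exists_rep Q z.1 z.2
    exact ⟨(t, c), htc⟩
  choose f hf using hcov
  have hinj : Function.Injective f := by
    intro a b hab
    apply Subtype.ext
    rw [← hf a, ← hf b, hab]
  have h1 : Nat.card {z : G // ¬ q ∣ (Subgroup.centralizer ({z} : Set G)).index} ≤
      Nat.card ((G ⧸ NQ) × CQ) := Nat.card_le_card_of_injective f hinj
  rw [Nat.card_prod, ← Subgroup.index_eq_card] at h1
  have e2 : NQ.index * (Nat.card CQ * CQ.relIndex NQ) = Nat.card G := by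
    rw [Cfsg.Agent.S4160.card_centralizer_mul_relIndex, mul_comm]
    exact Subgroup.card_mul_index NQ
  have e4 : NQ.index * Nat.card CQ * 2 ≤ Nat.card G := by
    rw [← e2, mul_assoc]
    exact Nat.mul_le_mul_left _ (Nat.mul_le_mul_left _ hb2)
  omega

end Cfsg.Agent.Helper51.ClassCount
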