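import Mathlib
import Cfsg.Agent.Helper51.Extra3
import Cfsg.Agent.Helper33.SylowSub

set_option autoImplicit false

namespace Cfsg.Agent.Helper51

open Subgroup
open scoped commutatorElement Pointwise


section Abstract2

variable {Q : Type*} [Group Q]

theorem comm_conj_inv_of_class_two (hcls : ∀ g h : Q, ⁅g, h⁆ ∈ center Q) (x y a : Q) :
    ⁅x, a⁻¹ * y⁻¹ * a⁆ = ⁅x, y⁆⁻¹ := by
  have h1 : a⁻¹ * y⁻¹ * a = y⁻¹ * ⁅y, a⁻¹⁆ := by
    rw [commutatorElement_def]; group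
  have hz := mem_center_iff.mp (hcls y a⁻¹)
  have hw := mem_center_iff.mp (hcls y x)
  rw [h1]
  have h2 : ⁅x, y⁻¹ * ⁅y, a⁻¹⁆⁆ = x * y⁻¹ * (⁅y, a⁻¹⁆ * x⁻¹) * ⁅y, a⁻¹⁆⁻¹ * y := by
    rw [commutatorElement_def]; group
  rw [h2, ← hz x⁻¹]
  have h3 : x * y⁻¹ * (x⁻¹ * ⁅y, a⁻¹⁆) * ⁅y, a⁻¹⁆⁻¹ * y = y⁻¹ * ⁅y, x⁆ * y := by
    rw [commutatorElement_def]; group
  rw [h3, mul_assoc, ← hw y, ← mul_assoc, inv_mul_cancel, one_mul, ← commutatorElement_inv]

variable [Finite Q] {p : ℕ} [Fact p.Prime]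

theorem exists_pow_eq_one_not_mem_center (hp : p ≠ 2) (hcls : ∀ g h : Q, ⁅g, h⁆ ∈ center Q)
    (hZ : Nat.card (center Q) = p) (hexp : ∃ g : Q, g ^ p ≠ 1) (hcard : Nat.card Q = p ^ 3) :
    ∃ y : Q, y ^ p = 1 ∧ y ∉ center Q := by
  by_contra hcon
  push Not at hcon
  have hle : (powHom hp hcls hZ).ker ≤ center Q := fun y hy =>
    hcon y ((mem_ker_powHom hp hcls hZ).mp hy)
  have := Subgroup.card_le_of_le hle
  rw [card_ker_powHom hp hcls hZ hexp hcard, hZ] at this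
  have hp2 : 2 ≤ p := (Fact.out : p.Prime).two_le
  nlinarith

theorem no_inverting_hom (hp : p ≠ 2) (hcls : ∀ g h : Q, ⁅g, h⁆ ∈ center Q)
    (hZ : Nat.card (center Q) = p) (hexp : ∃ g : Q, g ^ p ≠ 1) (hcard : Nat.card Q = p ^ 3)
    (φ : Q →* Q) (a₀ : Q) (hφ : ∀ e : Q, e ^ p = 1 → φ e = a₀⁻¹ * e⁻¹ * a₀) : False := by
  obtain ⟨x, hx⟩ := hexp
  have hexp' : ∃ g : Q, g ^ p ≠ 1 := ⟨x, hx⟩
  have hcen : ∀ c : Q, c ∈ center Q → φ c = c⁻¹ := by
    intro c hc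
    rw [hφ c (center_pow_eq_one hZ hc)]
    have := mem_center_iff.mp ((center Q).inv_mem hc) a₀⁻¹
    rw [this]; group
  obtain ⟨y, hy, hyn⟩ := exists_pow_eq_one_not_mem_center hp hcls hZ hexp' hcard
  have h1 : φ ⁅x, y⁆ = ⁅x, y⁆⁻¹ := hcen _ (hcls x y)
  have h2 : φ ⁅x, y⁆ = ⁅φ x, y⁆⁻¹ := by
    rw [map_commutatorElement, hφ y hy, comm_conj_inv_of_class_two hcls]
  have h3 : ⁅φ x, y⁆ = ⁅x, y⁆ := by
    have := h2.symm.trans h1
    exact inv_injective this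
  -- x⁻¹ * φ x commutes with y
  have h4 : (x⁻¹ * φ x) * y = y * (x⁻¹ * φ x) := by
    have e1 : φ x * y = ⁅x, y⁆ * y * φ x := by
      rw [← h3, commutatorElement_def]; group
    have e2 : x⁻¹ * (⁅x, y⁆ * y) = y * x⁻¹ := by
      rw [commutatorElement_def]; group
    calc x⁻¹ * φ x * y = x⁻¹ * (φ x * y) := by group
      _ = x⁻¹ * (⁅x, y⁆ * y) * φ x := by rw [e1]; group
      _ = y * (x⁻¹ * φ x) := by rw [e2]; group
  have h5 := pow_eq_one_of_comm hp hcls hZ hexp' hcard hy hyn h4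
  rw [mul_pow_prime_of_class_two hp hcls hZ, inv_pow, inv_mul_eq_one] at h5
  have h6 : φ x ^ p = (x ^ p)⁻¹ := by
    rw [← map_pow]; exact hcen _ (pow_mem_center_of_class_two hcls hZ x)
  have h7 : (x ^ p) ^ 2 = 1 := by
    rw [pow_two]
    nth_rewrite 1 [h5]
    rw [h6, inv_mul_cancel]
  have h8 : (x ^ p) ^ p = 1 := center_pow_eq_one hZ (pow_mem_center_of_class_two hcls hZ x)
  have hcop : Nat.Coprime 2 p := by
    rw [Nat.coprime_comm]
    exact (Nat.coprime_primes (Fact.out : p.Prime) Nat.prime_two).mpr hp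
  have h9 : orderOf (x ^ p) ∣ 1 := by
    have := Nat.dvd_gcd (orderOf_dvd_of_pow_eq_one h7) (orderOf_dvd_of_pow_eq_one h8)
    rwa [hcop] at this
  exact hx (orderOf_eq_one_iff.mp (Nat.dvd_one.mp h9))

end Abstract2


section GLevel

variable {G : Type*} [Group G]

theorem conj_sq_inverts {a b z u : G} (hzu : z * u = u * z)
    (haz : a * z * a⁻¹ = z) (hau : a * u * a⁻¹ = z * u)
    (hbu : b * u * b⁻¹ = u) (hbz : b * z * b⁻¹ = u⁻¹ * z) :
    (a * b * a) ^ 2 * z * ((a * b * a) ^ 2)⁻¹ = z⁻¹ ∧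
      (a * b * a) ^ 2 * u * ((a * b * a) ^ 2)⁻¹ = u⁻¹ := by
  have hbui : b * u⁻¹ * b⁻¹ = u⁻¹ := by
    have : b * u⁻¹ * b⁻¹ = (b * u * b⁻¹)⁻¹ := by group
    rw [this, hbu]
  have haui : a * u⁻¹ * a⁻¹ = (z * u)⁻¹ := by
    have : a * u⁻¹ * a⁻¹ = (a * u * a⁻¹)⁻¹ := by group
    rw [this, hau]
  have h1 : (a * b * a) * z * (a * b * a)⁻¹ = u⁻¹ := by
    calc (a * b * a) * z * (a * b * a)⁻¹ = a * (b * (a * z * a⁻¹) * b⁻¹) * a⁻¹ := by group
      _ = a * (u⁻¹ * z) * a⁻¹ := by rw [haz, hbz]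
      _ = (a * u⁻¹ * a⁻¹) * (a * z * a⁻¹) := by group
      _ = u⁻¹ := by rw [haui, haz, mul_inv_rev, inv_mul_cancel_right]
  have h2 : (a * b * a) * u * (a * b * a)⁻¹ = z := by
    calc (a * b * a) * u * (a * b * a)⁻¹ = a * (b * (a * u * a⁻¹) * b⁻¹) * a⁻¹ := by group
      _ = a * ((b * z * b⁻¹) * (b * u * b⁻¹)) * a⁻¹ := by rw [hau]; group
      _ = a * (u⁻¹ * (z * u)) * a⁻¹ := by rw [hbz, hbu]; group
      _ = a * z * a⁻¹ := by rw [hzu]; group
      _ = z := haz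
  constructor
  · calc (a * b * a) ^ 2 * z * ((a * b * a) ^ 2)⁻¹
        = (a * b * a) * ((a * b * a) * z * (a * b * a)⁻¹) * (a * b * a)⁻¹ := by
          rw [pow_two]; group
      _ = ((a * b * a) * u * (a * b * a)⁻¹)⁻¹ := by rw [h1]; group
      _ = z⁻¹ := by rw [h2]
  · calc (a * b * a) ^ 2 * u * ((a * b * a) ^ 2)⁻¹
        = (a * b * a) * ((a * b * a) * u * (a * b * a)⁻¹) * (a * b * a)⁻¹ := by
          rw [pow_two]; group
      _ = u⁻¹ := by rw [h2, h1]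

/-- The elements of an abelian subgroup inverted by `t`. -/
def invSub (t : G) (E : Subgroup G) (hE : ∀ x ∈ E, ∀ y ∈ E, x * y = y * x) : Subgroup G where
  carrier := {e | e ∈ E ∧ t * e * t⁻¹ = e⁻¹}
  one_mem' := ⟨E.one_mem, by simp⟩
  mul_mem' := by
    rintro x y ⟨hx, hx'⟩ ⟨hy, hy'⟩
    refine ⟨E.mul_mem hx hy, ?_⟩
    have : t * (x * y) * t⁻¹ = (t * x * t⁻¹) * (t * y * t⁻¹) := by group
    rw [this, hx', hy', hE x hx y hy, mul_inv_rev]
  inv_mem' := by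
    rintro x ⟨hx, hx'⟩
    refine ⟨E.inv_mem hx, ?_⟩
    have : t * x⁻¹ * t⁻¹ = (t * x * t⁻¹)⁻¹ := by group
    rw [this, hx']

theorem mem_invSub {t : G} {E : Subgroup G} {hE : ∀ x ∈ E, ∀ y ∈ E, x * y = y * x} {e : G} :
    e ∈ invSub t E hE ↔ e ∈ E ∧ t * e * t⁻¹ = e⁻¹ := Iff.rfl

variable [Finite G] {p : ℕ} [Fact p.Prime]

theorem eq_of_le_of_prime_card {H K : Subgroup G} (hHK : H ≤ K) (hK : Nat.card K = p)
    (hH : H ≠ ⊥) : H = K := by
  have hpp : p.Prime := Fact.out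
  have hdvd := Subgroup.card_dvd_of_le hHK
  rw [hK] at hdvd
  rcases (Nat.dvd_prime hpp).mp hdvd with h | h
  · exact absurd (Subgroup.eq_bot_of_card_eq _ h) hH
  · exact Subgroup.eq_of_le_of_card_ge hHK (by rw [hK, h])

theorem sylow_not_dvd_relIndex (P : Sylow p G) {N : Subgroup G} (hPN : (P : Subgroup G) ≤ N) :
    ¬ p ∣ (P : Subgroup G).relIndex N := by
  intro h
  apply P.not_dvd_index
  rw [← Subgroup.relIndex_mul_index hPN]
  exact Dvd.dvd.mul_right h _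

theorem mem_sylow_smul_iff (P : Sylow p G) (g x : G) :
    x ∈ ((g • P : Sylow p G) : Subgroup G) ↔ g⁻¹ * x * g ∈ (P : Subgroup G) := by
  rw [Sylow.coe_subgroup_smul, Subgroup.mem_pointwise_smul_iff_inv_smul_mem, MulAut.smul_def,
    MulAut.conj_inv_apply]

theorem exists_conj_into (P : Sylow p G) {E : Subgroup G} (hEP : E ≤ P)
    (hE : ∀ x ∈ E, ∀ y ∈ E, x * y = y * x) {z u g : G}
    (hzc : ∀ x ∈ (P : Subgroup G), x * z = z * x) (hu : u = g * z * g⁻¹) (huE : u ∈ E) :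
    ∃ h : G, (∀ e ∈ E, h⁻¹ * e * h ∈ (P : Subgroup G)) ∧ h⁻¹ * u * h = z := by
  set N := centralizer ({u} : Set G) with hN
  have hKN : ((g • P : Sylow p G) : Subgroup G) ≤ N := by
    intro x hx
    rw [mem_sylow_smul_iff] at hx
    rw [hN, mem_centralizer_singleton_iff, hu]
    have hx' : g⁻¹ * x * g ∈ (P : Subgroup G) := hx
    have := hzc _ hx'
    calc x * (g * z * g⁻¹) = g * ((g⁻¹ * x * g) * z) * g⁻¹ := by group
      _ = g * (z * (g⁻¹ * x * g)) * g⁻¹ := by rw [this]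
      _ = g * z * g⁻¹ * x := by group
  have hEN : E ≤ N := by
    intro e he
    rw [hN, mem_centralizer_singleton_iff]
    exact hE e he u huE
  obtain ⟨m, hmN, hm⟩ := Helper33.exists_conj_le_of_not_dvd_relIndex hKN (g • P : Sylow p G).2
    (sylow_not_dvd_relIndex _ hKN) hEN (P.2.to_le hEP)
  refine ⟨m⁻¹ * g, ?_, ?_⟩
  · intro e he
    have := hm e he
    rw [mem_sylow_smul_iff] at this
    have hx' : g⁻¹ * (m * e * m⁻¹) * g ∈ (P : Subgroup G) := this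
    have e1 : (m⁻¹ * g)⁻¹ * e * (m⁻¹ * g) = g⁻¹ * (m * e * m⁻¹) * g := by group
    rw [e1]; exact hx'
  · rw [hN, mem_centralizer_singleton_iff] at hmN
    calc (m⁻¹ * g)⁻¹ * u * (m⁻¹ * g) = g⁻¹ * (m * u) * m⁻¹ * g := by group
      _ = g⁻¹ * (u * m) * m⁻¹ * g := by rw [hmN]
      _ = g⁻¹ * (g * z * g⁻¹) * g := by rw [hu]; group
      _ = z := by group

theorem exists_normalizer_of_inverting (P : Sylow p G) {E : Subgroup G}
    (hEn : ∀ x ∈ (P : Subgroup G), ∀ e ∈ E, x * e * x⁻¹ ∈ E) {t : G}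
    (ht : ∀ e ∈ E, t * e * t⁻¹ = e⁻¹) :
    ∃ m a₀ : G, m ∈ normalizer ((P : Subgroup G) : Set G) ∧ a₀ ∈ (P : Subgroup G) ∧
      ∀ e ∈ E, m * e * m⁻¹ = a₀⁻¹ * e⁻¹ * a₀ := by
  set CE := centralizer (E : Set G) with hCE
  have hPN : (P : Subgroup G) ≤ normalizer (CE : Set G) := by
    intro x hx
    apply mem_normalizer_of_cj_le
    intro y hy
    obtain ⟨c, hc, rfl⟩ := mem_cj.mp hy
    rw [hCE, mem_centralizer_iff] at hc ⊢
    intro e he
    have h1 : x⁻¹ * e * x ∈ E := by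
      have := hEn x⁻¹ ((P : Subgroup G).inv_mem hx) e he
      rwa [inv_inv] at this
    have h2 := hc _ h1
    calc e * (x * c * x⁻¹) = x * ((x⁻¹ * e * x) * c) * x⁻¹ := by group
      _ = x * (c * (x⁻¹ * e * x)) * x⁻¹ := by rw [h2]
      _ = x * c * x⁻¹ * e := by group
  have hK : (((P : Subgroup G) ⊔ CE : Subgroup G) : Set G) = (P : Subgroup G) * CE :=
    coe_mul_of_left_le_normalizer_right _ _ hPN
  have hti : ∀ e ∈ E, t⁻¹ * e * t = e⁻¹ := by
    intro e he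
    have := ht e⁻¹ (E.inv_mem he)
    rw [inv_inv] at this
    calc t⁻¹ * e * t = t⁻¹ * (t * e⁻¹ * t⁻¹) * t := by rw [this]
      _ = e⁻¹ := by group
  have hQK : ((t • P : Sylow p G) : Subgroup G) ≤ (P : Subgroup G) ⊔ CE := by
    intro y hy
    rw [mem_sylow_smul_iff] at hy
    have hx : t⁻¹ * y * t ∈ (P : Subgroup G) := hy
    set x := t⁻¹ * y * t with hxdef
    have hy' : y = x * (x⁻¹ * t * x * t⁻¹) := by rw [hxdef]; group
    rw [hy']
    apply Subgroup.mul_mem _ (le_sup_left (a := (P : Subgroup G)) hx)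
    apply le_sup_right (a := (P : Subgroup G))
    rw [hCE, mem_centralizer_iff]
    intro e he
    -- show e * c = c * e
    have hf : t * (x * e⁻¹ * x⁻¹) * t⁻¹ = (x * e⁻¹ * x⁻¹)⁻¹ :=
      ht _ (hEn x hx e⁻¹ (E.inv_mem he))
    calc e * (x⁻¹ * t * x * t⁻¹) = x⁻¹ * (x * e⁻¹ * x⁻¹)⁻¹ * t * x * t⁻¹ := by group
      _ = x⁻¹ * (t * (x * e⁻¹ * x⁻¹) * t⁻¹) * t * x * t⁻¹ := by rw [hf]
      _ = x⁻¹ * t * x * (t⁻¹ * e * t) * t⁻¹ := by rw [hti e he]; group
      _ = x⁻¹ * t * x * t⁻¹ * e := by group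
  obtain ⟨d, hdK, hd⟩ := Helper33.exists_conj_le_of_not_dvd_relIndex
    (le_sup_left (a := (P : Subgroup G)) (b := CE)) P.2
    (sylow_not_dvd_relIndex P le_sup_left) hQK (t • P : Sylow p G).2
  have hdK' : d ∈ (((P : Subgroup G) ⊔ CE : Subgroup G) : Set G) := hdK
  rw [hK] at hdK'
  obtain ⟨a₁, ha₁, c, hc, hdac⟩ := Set.mem_mul.mp hdK'
  refine ⟨d * t, a₁⁻¹, ?_, (P : Subgroup G).inv_mem ha₁, ?_⟩
  · apply mem_normalizer_of_cj_le
    intro y hy
    obtain ⟨x, hx, rfl⟩ := mem_cj.mp hy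
    have : t * x * t⁻¹ ∈ ((t • P : Sylow p G) : Subgroup G) := by
      rw [mem_sylow_smul_iff]
      have : t⁻¹ * (t * x * t⁻¹) * t = x := by group
      rw [this]; exact hx
    have := hd _ this
    have e1 : d * t * x * (d * t)⁻¹ = d * (t * x * t⁻¹) * d⁻¹ := by group
    rw [e1]; exact this
  · intro e he
    have hc' : c * e⁻¹ = e⁻¹ * c := by
      have hc2 : c ∈ centralizer (E : Set G) := hc
      rw [mem_centralizer_iff] at hc2
      exact (hc2 e⁻¹ (E.inv_mem he)).symm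
    calc d * t * e * (d * t)⁻¹ = d * (t * e * t⁻¹) * d⁻¹ := by group
      _ = a₁ * (c * e⁻¹) * c⁻¹ * a₁⁻¹ := by rw [ht e he, ← hdac]; group
      _ = a₁⁻¹⁻¹ * e⁻¹ * a₁⁻¹ := by rw [hc']; group

end GLevel


section Abstract3

variable {Q : Type*} [Group Q]

/-- In class two, the commutator with a fixed element is a homomorphism. -/
def commHom (hcls : ∀ g h : Q, ⁅g, h⁆ ∈ center Q) (y : Q) : Q →* Q where
  toFun x := ⁅x, y⁆
  map_one' := commutatorElement_one_left y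
  map_mul' x₁ x₂ := by
    rw [comm_mul_left', mem_center_iff.mp (hcls x₂ y) x₁, mul_inv_cancel_right]
    exact mem_center_iff.mp (hcls x₁ y) ⁅x₂, y⁆

variable [Finite Q] {p : ℕ} [Fact p.Prime]

theorem exists_comm_eq (hcls : ∀ g h : Q, ⁅g, h⁆ ∈ center Q) (hZ : Nat.card (center Q) = p)
    {y : Q} (hy : y ∉ center Q) {ζ : Q} (hζ : ζ ∈ center Q) : ∃ x : Q, ⁅x, y⁆ = ζ := by
  have hle : (commHom hcls y).range ≤ center Q := by
    rintro _ ⟨g, rfl⟩
    exact hcls g y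
  have hne : (commHom hcls y).range ≠ ⊥ := by
    intro h
    apply hy
    rw [mem_center_iff]
    intro g
    have : ⁅g, y⁆ ∈ (commHom hcls y).range := ⟨g, rfl⟩
    rw [h, mem_bot] at this
    exact (commutatorElement_eq_one_iff_mul_comm.mp this)
  have := eq_of_le_of_prime_card hle hZ hne
  rw [← this] at hζ
  exact hζ

end Abstract3

section Assembly

variable {G : Type*} [Group G] [Finite G] {p : ℕ} [Fact p.Prime]

theorem center_strongly_closed_aux (hp : p ≠ 2) (P : Sylow p G)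
    (hcls : ∀ g h : ↥P, ⁅g, h⁆ ∈ center ↥P) (hZ : Nat.card (center ↥P) = p)
    (hexp : ∃ g : ↥P, g ^ p ≠ 1) (hcard : Nat.card ↥P = p ^ 3)
    (z : ↥P) (hz : z ∈ center ↥P) (g : G) (hg : g * (z : G) * g⁻¹ ∈ (P : Subgroup G)) :
    (⟨g * (z : G) * g⁻¹, hg⟩ : ↥P) ∈ center ↥P := by
  have hpp : p.Prime := Fact.out
  by_contra hnot
  set u' : ↥P := ⟨g * (z : G) * g⁻¹, hg⟩ with hu'def
  have hzp : z ^ p = 1 := center_pow_eq_one hZ hz
  have hu'p : u' ^ p = 1 := by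
    apply Subtype.ext
    have : ((z : G)) ^ p = 1 := by
      have := congrArg Subtype.val hzp
      simpa using this
    simp [hu'def, conj_pow, this]
  set E : Subgroup G := (powHom hp hcls hZ).ker.map (P : Subgroup G).subtype with hEdef
  have memE : ∀ x : G, x ∈ E ↔ ∃ hx : x ∈ (P : Subgroup G), (⟨x, hx⟩ : ↥P) ^ p = 1 := by
    intro x
    constructor
    · rintro ⟨y, hy, rfl⟩
      exact ⟨y.2, (mem_ker_powHom hp hcls hZ).mp hy⟩
    · rintro ⟨hx, hxp⟩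
      exact ⟨⟨x, hx⟩, (mem_ker_powHom hp hcls hZ).mpr hxp, rfl⟩
  have memE' : ∀ x : ↥P, (x : G) ∈ E ↔ x ^ p = 1 := by
    intro x
    rw [memE]
    constructor
    · rintro ⟨_, h⟩; exact h
    · intro h; exact ⟨x.2, h⟩
  have hEP : E ≤ (P : Subgroup G) := Subgroup.map_subtype_le _
  have hEcomm : ∀ x ∈ E, ∀ y ∈ E, x * y = y * x := by
    intro x hx y hy
    obtain ⟨hx1, hx2⟩ := (memE x).mp hx
    obtain ⟨hy1, hy2⟩ := (memE y).mp hy
    have := comm_of_pow_eq_one hp hcls hZ hexp hcard hx2 hy2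
    exact congrArg Subtype.val this
  have hEn : ∀ x ∈ (P : Subgroup G), ∀ e ∈ E, x * e * x⁻¹ ∈ E := by
    intro x hx e he
    obtain ⟨he1, he2⟩ := (memE e).mp he
    have : ((⟨x, hx⟩ : ↥P) * ⟨e, he1⟩ * (⟨x, hx⟩ : ↥P)⁻¹) ^ p = 1 := by
      rw [conj_pow, he2, mul_one, mul_inv_cancel]
    exact (memE' _).mpr this
  have hzc : ∀ x ∈ (P : Subgroup G), x * (z : G) = (z : G) * x := by
    intro x hx
    have := mem_center_iff.mp hz ⟨x, hx⟩
    exact congrArg Subtype.val this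
  have huE : (u' : G) ∈ E := (memE' u').mpr hu'p
  have hzE : (z : G) ∈ E := (memE' z).mpr hzp
  obtain ⟨h, hh1, hh2⟩ := exists_conj_into P hEP hEcomm hzc (rfl : (u' : G) = g * (z : G) * g⁻¹) huE
  have hz1 : z ≠ 1 := by
    intro h1
    apply hnot
    have : u' = 1 := by
      apply Subtype.ext
      simp [hu'def, h1]
    rw [this]; exact (center ↥P).one_mem
  have hu1 : u' ≠ 1 := by
    intro h1; apply hnot; rw [h1]; exact (center ↥P).one_mem
  -- the centre is generated by z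
  have hcen : zpowers z = center ↥P :=
    eq_of_le_of_prime_card (zpowers_le.mpr hz) hZ (by rwa [Ne, zpowers_eq_bot])
  -- a with [a, u'] = z
  obtain ⟨a, ha⟩ := exists_comm_eq hcls hZ hnot hz
  set e₁ : ↥P := ⟨h⁻¹ * (z : G) * h, hh1 _ hzE⟩ with he₁def
  have hu_eq : (u' : G) = h * (z : G) * h⁻¹ := by rw [← hh2]; group
  have he₁ : e₁ ∉ center ↥P := by
    intro hc
    rw [← hcen] at hc
    obtain ⟨k, hk⟩ := mem_zpowers_iff.mp hc
    -- z = u' ^ k
    have hzk : z = u' ^ k := by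
      apply Subtype.ext
      have h1 : (z : G) ^ k = h⁻¹ * (z : G) * h := by
        have := congrArg Subtype.val hk
        simpa [he₁def] using this
      have h2 : (z : G) = h * ((z : G) ^ k) * h⁻¹ := by rw [h1]; group
      rw [Subgroup.coe_zpow, hu_eq, conj_zpow]
      exact h2
    have hcu : Nat.card (zpowers u') = p := by
      rw [Nat.card_zpowers]; exact orderOf_eq_prime hu'p hu1
    have hle : zpowers z ≤ zpowers u' := by
      rw [zpowers_le, hzk]; exact zpow_mem (mem_zpowers u') k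
    have := eq_of_le_of_prime_card hle hcu (by rwa [Ne, zpowers_eq_bot])
    apply hnot
    rw [← hcen, this]
    exact mem_zpowers u'
  obtain ⟨a₂, ha₂⟩ := exists_comm_eq hcls hZ he₁ ((center ↥P).inv_mem hz)
  set b : G := h * (a₂ : G) * h⁻¹ with hbdef
  have haz : (a : G) * (z : G) * (a : G)⁻¹ = (z : G) := by
    rw [hzc a a.2]; group
  have hau : (a : G) * (u' : G) * (a : G)⁻¹ = (z : G) * (u' : G) := by
    have h1 : a * u' * a⁻¹ = z * u' := by
      rw [← ha, commutatorElement_def]; group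
    have := congrArg Subtype.val h1
    simpa using this
  have hbu : b * (u' : G) * b⁻¹ = (u' : G) := by
    rw [hu_eq, hbdef]
    have h1 := hzc a₂ a₂.2
    calc h * ↑a₂ * h⁻¹ * (h * ↑z * h⁻¹) * (h * ↑a₂ * h⁻¹)⁻¹
        = h * ((a₂ : G) * (z : G)) * (a₂ : G)⁻¹ * h⁻¹ := by group
      _ = h * ((z : G) * (a₂ : G)) * (a₂ : G)⁻¹ * h⁻¹ := by rw [h1]
      _ = h * ↑z * h⁻¹ := by group
  have hbz : b * (z : G) * b⁻¹ = (u' : G)⁻¹ * (z : G) := by
    have h1 : a₂ * e₁ * a₂⁻¹ = z⁻¹ * e₁ := by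
      rw [← ha₂, commutatorElement_def]; group
    have h2 : (a₂ : G) * (h⁻¹ * (z : G) * h) * (a₂ : G)⁻¹ = (z : G)⁻¹ * (h⁻¹ * (z : G) * h) := by
      have := congrArg Subtype.val h1
      simpa [he₁def] using this
    rw [hu_eq, hbdef]
    calc h * ↑a₂ * h⁻¹ * ↑z * (h * ↑a₂ * h⁻¹)⁻¹
        = h * ((a₂ : G) * (h⁻¹ * (z : G) * h) * (a₂ : G)⁻¹) * h⁻¹ := by group
      _ = h * ((z : G)⁻¹ * (h⁻¹ * (z : G) * h)) * h⁻¹ := by rw [h2]
      _ = (h * ↑z * h⁻¹)⁻¹ * ↑z := by group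
  have hzu : (z : G) * (u' : G) = (u' : G) * (z : G) := (hzc u' u'.2).symm
  obtain ⟨ht1, ht2⟩ := conj_sq_inverts hzu haz hau hbu hbz
  set t : G := ((a : G) * b * (a : G)) ^ 2 with htdef
  -- E is generated by z and u'
  have hgen : center ↥P ⊔ zpowers u' = (powHom hp hcls hZ).ker := by
    have hcE : center ↥P ≤ (powHom hp hcls hZ).ker := fun x hx =>
      (mem_ker_powHom hp hcls hZ).mpr (center_pow_eq_one hZ hx)
    have huE' : zpowers u' ≤ (powHom hp hcls hZ).ker :=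
      zpowers_le.mpr ((mem_ker_powHom hp hcls hZ).mpr hu'p)
    have hc : Nat.card (powHom hp hcls hZ).ker = p * Nat.card (center ↥P) := by
      rw [card_ker_powHom hp hcls hZ hexp hcard, hZ, pow_two]
    rcases eq_or_eq_of_card_eq_prime_mul hpp (le_sup_left (b := zpowers u')) (sup_le hcE huE') hc
      with h1 | h1
    · exfalso
      apply hnot
      rw [← h1]
      exact le_sup_right (a := center ↥P) (mem_zpowers u')
    · exact h1
  have hI : (powHom hp hcls hZ).ker ≤ (invSub t E hEcomm).comap (P : Subgroup G).subtype := by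
    rw [← hgen, ← hcen]
    apply sup_le
    · rw [zpowers_le]
      exact ⟨hzE, ht1⟩
    · rw [zpowers_le]
      exact ⟨huE, ht2⟩
  have ht : ∀ e ∈ E, t * e * t⁻¹ = e⁻¹ := by
    intro e he
    obtain ⟨he1, he2⟩ := (memE e).mp he
    have := hI ((mem_ker_powHom hp hcls hZ).mpr he2)
    exact this.2
  obtain ⟨m, a₀, hm, ha₀, hma⟩ := exists_normalizer_of_inverting P hEn ht
  let φ : ↥P →* ↥P :=
    { toFun := fun x => ⟨m * (x : G) * m⁻¹, (mem_normalizer_iff.mp hm x).mp x.2⟩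
      map_one' := by apply Subtype.ext; simp
      map_mul' := by intro x y; apply Subtype.ext; simp }
  refine no_inverting_hom hp hcls hZ hexp hcard φ ⟨a₀, ha₀⟩ ?_
  intro e he
  apply Subtype.ext
  have := hma e ((memE' e).mpr he)
  simpa [φ] using this

end Assembly

end Cfsg.Agent.Helper51
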