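import Mathlib
import Cfsg.Agent.Lib.ZJ
import Cfsg.Agent.Helper51.DStar
import Cfsg.Agent.Helper51.GlauRepl
import Cfsg.Agent.Helper51.Extra3Main
import Cfsg.Agent.S3061
import Cfsg.Agent.S3062

set_option autoImplicit false

namespace Cfsg.Agent.Helper51

open Subgroup
open scoped commutatorElement

section DStarThm

variable {G : Type*} [Group G]

/-- Ambient version of the defining family of `D*`. -/
def AmbFam (T A : Subgroup G) : Prop :=
  A ≤ T ∧ (∀ a ∈ A, ∀ b ∈ A, a * b = b * a) ∧
    ∀ x ∈ T, ⁅⁅A ⊔ zpowers x, A ⊔ zpowers x⁆, A ⊔ zpowers x⁆ = ⊥ → ∀ a ∈ A, a * x = x * a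

theorem ambFam_dStarOf {p : ℕ} [Fact p.Prime] (T : Subgroup G) [Finite T] (hT : IsPGroup p T) :
    AmbFam T (Cfsg.dStarOf T) := by
  have hfam := Cfsg.Agent.S3061.result hT
  refine ⟨Subgroup.map_subtype_le _, ?_, ?_⟩
  · rintro _ ⟨a, ha, rfl⟩ _ ⟨b, hb, rfl⟩
    have := comm_of_mem hfam.1 ha hb
    exact congrArg Subtype.val this
  · rintro x hx hcl _ ⟨a, ha, rfl⟩
    have h1 : ⁅⁅Cfsg.dStar T ⊔ zpowers (⟨x, hx⟩ : T), Cfsg.dStar T ⊔ zpowers (⟨x, hx⟩ : T)⁆,
        Cfsg.dStar T ⊔ zpowers (⟨x, hx⟩ : T)⁆ = ⊥ := by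
      rw [← map_eq_bot_iff_of_injective _ T.subtype_injective, map_commutator, map_commutator,
        Subgroup.map_sup, MonoidHom.map_zpowers]
      exact hcl
    have := hfam.2 ⟨x, hx⟩ h1 a ha
    exact congrArg Subtype.val this

theorem le_dStarOf_of_ambFam {T B : Subgroup G} (h : AmbFam T B) : B ≤ Cfsg.dStarOf T := by
  have hmem : B.subgroupOf T ∈ Cfsg.dStarFamily T := by
    refine ⟨⟨⟨fun a b => ?_⟩⟩, ?_⟩
    · apply Subtype.ext; apply Subtype.ext
      exact h.2.1 _ a.2 _ b.2
    · intro x hx a ha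
      apply Subtype.ext
      refine h.2.2 (x : G) x.2 ?_ a ha
      have := congrArg (Subgroup.map T.subtype) hx
      rw [Subgroup.map_bot, map_commutator, map_commutator, Subgroup.map_sup,
        map_subgroupOf_eq_of_le h.1, MonoidHom.map_zpowers] at this
      exact this
  have h1 : B.subgroupOf T ≤ Cfsg.dStar T := le_sSup hmem
  have h2 := Subgroup.map_mono (f := T.subtype) h1
  rw [map_subgroupOf_eq_of_le h.1] at h2
  exact h2

theorem ambFam_cj {T A : Subgroup G} (h : AmbFam T A) (g : G) : AmbFam (cj g T) (cj g A) := by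
  refine ⟨cj_mono g h.1, ?_, ?_⟩
  · intro a ha b hb
    obtain ⟨a', ha', rfl⟩ := mem_cj.mp ha
    obtain ⟨b', hb', rfl⟩ := mem_cj.mp hb
    have := h.2.1 a' ha' b' hb'
    calc g * a' * g⁻¹ * (g * b' * g⁻¹) = g * (a' * b') * g⁻¹ := by group
      _ = g * (b' * a') * g⁻¹ := by rw [this]
      _ = _ := by group
  · intro x hx hcl a ha
    obtain ⟨a', ha', rfl⟩ := mem_cj.mp ha
    set φ := (MulAut.conj g).toMonoidHom with hφ
    set y := g⁻¹ * x * g with hy
    have hyT : y ∈ T := mem_cj'.mp hx
    have hxy : x = φ y := by simp [hφ, hy, mul_assoc]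
    have hmap : cj g A ⊔ zpowers x = (A ⊔ zpowers y).map φ := by
      rw [Subgroup.map_sup, MonoidHom.map_zpowers, ← hxy]
    rw [hmap, ← map_commutator, ← map_commutator,
      map_eq_bot_iff_of_injective _ (MulAut.conj g).injective] at hcl
    have := h.2.2 y hyT hcl a' ha'
    calc g * a' * g⁻¹ * x = g * (a' * y) * g⁻¹ := by simp only [hy]; group
      _ = g * (y * a') * g⁻¹ := by rw [this]
      _ = x * (g * a' * g⁻¹) := by simp only [hy]; group

theorem ambFam_commute_of {T A : Subgroup G} (h : AmbFam T A) {x : G} (hx : x ∈ T)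
    {Z : Subgroup G} (h1 : ∀ a ∈ A, ⁅x, a⁆ ∈ Z) (h2 : A ≤ centralizer (Z : Set G))
    (h3 : x ∈ centralizer (Z : Set G)) : ∀ a ∈ A, a * x = x * a := by
  apply h.2.2 x hx
  rw [sup_zpowers_eq_closure]
  apply class_two_of_central_commutators (Z := Z)
  · rintro g (hg | hg)
    · exact h2 hg
    · rw [Set.mem_singleton_iff] at hg; subst hg; exact h3
  · rintro g (hg | hg) k (hk | hk)
    · have : g * k = k * g := h.2.1 g hg k hk
      have e : ⁅g, k⁆ = 1 := by
        rw [commutatorElement_def, this]; group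
      rw [e]; exact Z.one_mem
    · rw [Set.mem_singleton_iff] at hk; subst hk
      have e : ⁅g, k⁆ = ⁅k, g⁆⁻¹ := by simp only [commutatorElement_def]; group
      rw [e]; exact Z.inv_mem (h1 g hg)
    · rw [Set.mem_singleton_iff] at hg; subst hg
      exact h1 k hk
    · rw [Set.mem_singleton_iff] at hg hk; subst hg; subst hk
      simp


theorem dStarOf_normal [Finite G] {p : ℕ} [Fact p.Prime]
    (hc : centralizer (Cfsg.pCore p G : Set G) ≤ Cfsg.pCore p G)
    (hst : ∀ (P : Subgroup G) [P.Normal], IsPGroup p P → Cfsg.IsPStableOn p P) (S : Sylow p G) :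
    (Cfsg.dStarOf (S : Subgroup G)).Normal := by
  have hQn : (Cfsg.pCore p G).Normal := by
    have := Lib.pCore_characteristic (G := G) p
    infer_instance
  have hQp : IsPGroup p (Cfsg.pCore p G) := Lib.isPGroup_pCore p
  set Q := Cfsg.pCore p G with hQ
  set D := Cfsg.dStarOf (S : Subgroup G) with hDdef
  have hD : AmbFam (S : Subgroup G) D := ambFam_dStarOf (S : Subgroup G) S.2
  have hQS : ∀ T : Sylow p G, Q ≤ (T : Subgroup G) := fun T => Lib.pCore_le_sylow T
  -- S normalizes D
  have hSD : (S : Subgroup G) ≤ normalizer (D : Set G) := by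
    intro s hs
    apply mem_normalizer_of_cj_le
    intro y hy
    obtain ⟨d, hd, rfl⟩ := mem_cj.mp hy
    obtain ⟨d', hd', rfl⟩ := hd
    have hn : (Cfsg.dStar (S : Subgroup G)).Normal := Cfsg.Agent.S3062.dStar_normal _
    have := hn.conj_mem d' hd' ⟨s, hs⟩
    exact ⟨_, this, by simp⟩
  -- conjugates
  have hSDg : ∀ g : G, cj g (S : Subgroup G) ≤ normalizer ((cj g D : Subgroup G) : Set G) := by
    intro g s hs
    apply mem_normalizer_of_cj_le
    intro y hy
    obtain ⟨d, hd, rfl⟩ := mem_cj.mp hy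
    obtain ⟨d', hd', rfl⟩ := mem_cj.mp hd
    obtain ⟨s', hs', rfl⟩ := mem_cj.mp hs
    have h1 : s' * d' * s'⁻¹ ∈ D := (mem_normalizer_iff.mp (hSD hs') d').mp hd'
    refine mem_cj.mpr ⟨_, h1, ?_⟩
    group
  have hQSg : ∀ g : G, Q ≤ cj g (S : Subgroup G) := by
    intro g x hx
    have := hQS (g • S) hx
    rw [mem_sylow_smul_iff] at this
    exact mem_cj'.mpr this
  -- Step 1: D ≤ Q
  have hDQ : D ≤ Q := by
    intro z hz
    have hstQ := @hst Q hQn hQp
    have h1 : ⁅Q, zpowers z⁆ ≤ D :=
      (Subgroup.commutator_mono le_rfl ((Subgroup.zpowers_le).2 hz)).trans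
        (Lib.ZJ.commutator_le_of_le_normalizer ((hQS S).trans hSD))
    have h2 : ⁅⁅Q, zpowers z⁆, zpowers z⁆ = ⊥ := by
      rw [eq_bot_iff]
      calc ⁅⁅Q, zpowers z⁆, zpowers z⁆ ≤ ⁅D, D⁆ :=
            Subgroup.commutator_mono h1 ((Subgroup.zpowers_le).2 hz)
        _ = ⊥ := Lib.ZJ.commutator_eq_bot_of_comm hD.2.1
    have h3 := hstQ z h2
    exact Lib.ZJ.comap_pCore_quotient_centralizer_le hc (Subgroup.mem_comap.mpr h3)
  have hDgQ : ∀ g : G, cj g D ≤ Q := by
    intro g y hy
    obtain ⟨d, hd, rfl⟩ := mem_cj.mp hy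
    exact hQn.conj_mem d (hDQ hd) g
  -- Step 2: conjugates of D commute with D
  have hcomm : ∀ g : G, ∀ x ∈ cj g D, ∀ a ∈ D, a * x = x * a := by
    intro g x hx
    have hxS : x ∈ (S : Subgroup G) := hQS S (hDgQ g hx)
    have hDg := ambFam_cj hD g
    apply ambFam_commute_of hD hxS (Z := D ⊓ cj g D)
    · intro a ha
      constructor
      · have h1 : x * a * x⁻¹ ∈ D := (mem_normalizer_iff.mp (hSD hxS) a).mp ha
        rw [commutatorElement_def]
        exact D.mul_mem h1 (D.inv_mem ha)
      · have haS : a ∈ cj g (S : Subgroup G) := hQSg g (hDQ ha)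
        have h1 : a * x⁻¹ * a⁻¹ ∈ cj g D :=
          (mem_normalizer_iff.mp (hSDg g haS) x⁻¹).mp ((cj g D).inv_mem hx)
        have : ⁅x, a⁆ = x * (a * x⁻¹ * a⁻¹) := by rw [commutatorElement_def]; group
        rw [this]
        exact (cj g D).mul_mem hx h1
    · intro a ha
      rw [mem_centralizer_iff]
      intro z hz
      exact hD.2.1 z hz.1 a ha
    · rw [mem_centralizer_iff]
      intro z hz
      exact hDg.2.1 z hz.2 x hx
  -- Step 3: the normal closure is abelian
  set B := normalClosure (D : Set G) with hBdef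
  have hBn : B.Normal := normalClosure_normal
  have hconjmem : ∀ u ∈ Group.conjugatesOfSet (D : Set G), ∃ g : G, u ∈ cj g D := by
    intro u hu
    obtain ⟨a, ha, hau⟩ := Group.mem_conjugatesOfSet_iff.mp hu
    obtain ⟨g, hg⟩ := isConj_iff.mp hau
    exact ⟨g, mem_cj.mpr ⟨a, ha, hg⟩⟩
  have hcomm2 : ∀ g h : G, ∀ u ∈ cj g D, ∀ v ∈ cj h D, u * v = v * u := by
    intro g h u hu v hv
    -- conjugate back by g
    obtain ⟨a, ha, rfl⟩ := mem_cj.mp hu
    have hv' : g⁻¹ * v * g ∈ cj (g⁻¹ * h) D := by
      obtain ⟨b, hb, rfl⟩ := mem_cj.mp hv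
      refine mem_cj.mpr ⟨b, hb, ?_⟩
      group
    have := hcomm (g⁻¹ * h) _ hv' a ha
    calc g * a * g⁻¹ * v = g * (a * (g⁻¹ * v * g)) * g⁻¹ := by group
      _ = g * ((g⁻¹ * v * g) * a) * g⁻¹ := by rw [this]
      _ = v * (g * a * g⁻¹) := by group
  have hBcomm : B ≤ centralizer (B : Set G) := by
    have hsub : Group.conjugatesOfSet (D : Set G) ⊆
        centralizer (Group.conjugatesOfSet (D : Set G)) := by
      intro v hv
      rw [SetLike.mem_coe, mem_centralizer_iff]
      intro u hu
      obtain ⟨g, hg⟩ := hconjmem u hu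
      obtain ⟨h, hh⟩ := hconjmem v hv
      exact hcomm2 g h u hg v hh
    have : closure (Group.conjugatesOfSet (D : Set G)) ≤
        centralizer (Group.conjugatesOfSet (D : Set G)) := (closure_le _).mpr hsub
    rw [← centralizer_closure] at this
    exact this
  have hBab : ∀ a ∈ B, ∀ b ∈ B, a * b = b * a := by
    intro a ha b hb
    exact (mem_centralizer_iff.mp (hBcomm hb) a ha)
  have hBQ : B ≤ Q := normalClosure_le_normal hDQ
  have hDB : D ≤ B := le_normalClosure
  have hDgB : ∀ g : G, cj g D ≤ B := by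
    intro g y hy
    obtain ⟨d, hd, rfl⟩ := mem_cj.mp hy
    exact hBn.conj_mem d (hDB hd) g
  have hBp : IsPGroup p B := hQp.to_le hBQ
  -- Step 4: B is in the ambient family of S
  have hBfam : AmbFam (S : Subgroup G) B := by
    refine ⟨hBQ.trans (hQS S), hBab, ?_⟩
    intro x hxS hcl
    -- quadratic action on B
    have hquad : ⁅⁅B, zpowers x⁆, zpowers x⁆ = ⊥ := by
      rw [eq_bot_iff, ← hcl]
      exact commutator_mono (commutator_mono le_sup_left le_sup_right) le_sup_right
    have hstB := @hst B hBn hBp x hquad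
    set CB := centralizer (B : Set G) with hCB
    set Z := ⁅B, zpowers x⁆ with hZ
    have hZB : Z ≤ B := Subgroup.commutator_le_left B (zpowers x)
    have hxZ : x ∈ centralizer (Z : Set G) := by
      have h1 : Z ≤ centralizer ((zpowers x : Subgroup G) : Set G) :=
        commutator_eq_bot_iff_le_centralizer.mp hquad
      rw [mem_centralizer_iff]
      intro z hz
      exact (mem_centralizer_iff.mp (h1 hz) x (mem_zpowers x)).symm
    -- it suffices to treat conjugates of D
    have hkey : ∀ g : G, ∀ a ∈ cj g D, a * x = x * a := by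
      intro g
      -- the image of the Sylow subgroup g • S contains the p-core of the quotient
      have h1 : Cfsg.pCore p (G ⧸ CB) ≤
          ((g • S : Sylow p G) : Subgroup G).map (QuotientGroup.mk' CB) := by
        have := Lib.pCore_le_sylow
          ((g • S : Sylow p G).mapSurjective (QuotientGroup.mk'_surjective CB))
        rwa [Sylow.coe_mapSurjective] at this
      obtain ⟨s, hs, hsx⟩ := h1 hstB
      have hsS : s ∈ cj g (S : Subgroup G) := by
        rw [SetLike.mem_coe, mem_sylow_smul_iff] at hs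
        exact mem_cj'.mpr hs
      have hc' : s⁻¹ * x ∈ CB := by
        rw [QuotientGroup.mk'_apply] at hsx
        exact QuotientGroup.eq.mp hsx
      set c := s⁻¹ * x with hcdef
      have hxsc : x = s * c := by rw [hcdef]; group
      have hcB : ∀ b ∈ B, c * b = b * c := by
        intro b hb
        exact (mem_centralizer_iff.mp hc' b hb).symm
      have hDg := ambFam_cj hD g
      have hs_comm : ∀ a ∈ cj g D, a * s = s * a := by
        apply ambFam_commute_of hDg hsS (Z := Z)
        · intro a ha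
          have haB := hDgB g ha
          have hs_eq : s = x * c⁻¹ := by rw [hxsc]; group
          have h2 : ⁅s, a⁆ = ⁅x, a⁆ := by
            rw [commutatorElement_def, commutatorElement_def, hs_eq]
            have h3 : c⁻¹ * a = a * c⁻¹ := by
              have := hcB a haB
              calc c⁻¹ * a = c⁻¹ * (a * c) * c⁻¹ := by group
                _ = c⁻¹ * (c * a) * c⁻¹ := by rw [this]
                _ = a * c⁻¹ := by group
            calc x * c⁻¹ * a * (x * c⁻¹)⁻¹ * a⁻¹ = x * (c⁻¹ * a) * c * x⁻¹ * a⁻¹ := by group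
              _ = x * (a * c⁻¹) * c * x⁻¹ * a⁻¹ := by rw [h3]
              _ = x * a * x⁻¹ * a⁻¹ := by group
          rw [h2, ← commutatorElement_inv]
          exact Z.inv_mem (commutator_mem_commutator haB (mem_zpowers x))
        · intro a ha
          rw [mem_centralizer_iff]
          intro z hz
          exact hBab z (hZB hz) a (hDgB g ha)
        · have hs_eq : s = x * c⁻¹ := by rw [hxsc]; group
          rw [hs_eq]
          apply (centralizer (Z : Set G)).mul_mem hxZ
          apply (centralizer (Z : Set G)).inv_mem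
          rw [mem_centralizer_iff]
          intro z hz
          exact (hcB z (hZB hz)).symm
      intro a ha
      have h4 := hs_comm a ha
      have h5 := hcB a (hDgB g ha)
      rw [hxsc]
      calc a * (s * c) = (a * s) * c := by group
        _ = (s * a) * c := by rw [h4]
        _ = s * (a * c) := by group
        _ = s * (c * a) := by rw [h5]
        _ = s * c * a := by group
    -- extend to the normal closure
    have hsub : Group.conjugatesOfSet (D : Set G) ⊆ centralizer ({x} : Set G) := by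
      intro u hu
      obtain ⟨g, hg⟩ := hconjmem u hu
      rw [SetLike.mem_coe, mem_centralizer_singleton_iff]
      exact hkey g u hg
    have hle : B ≤ centralizer ({x} : Set G) := (closure_le _).mpr hsub
    intro a ha
    have := hle ha
    rw [mem_centralizer_singleton_iff] at this
    exact this
  have hBD : B ≤ D := le_dStarOf_of_ambFam hBfam
  have : D = B := le_antisymm hDB hBD
  rw [this]
  exact hBn

end DStarThm

end Cfsg.Agent.Helper51
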