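import Mathlib
import Cfsg.Agent.Helper51.GlauRepl
import Cfsg.Agent.Helper51.Extra3Main

set_option autoImplicit false

namespace Cfsg.Agent.Helper51

open Subgroup
open scoped commutatorElement

section Dedekind

variable {G : Type*} [Group G]

theorem comm_mem_zpowers_left {x y : G} (hx : (zpowers x).Normal) : ⁅x, y⁆ ∈ zpowers x := by
  have h1 : y * x⁻¹ * y⁻¹ ∈ zpowers x := hx.conj_mem _ ((zpowers x).inv_mem (mem_zpowers x)) y
  have : ⁅x, y⁆ = x * (y * x⁻¹ * y⁻¹) := by rw [commutatorElement_def]; group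
  rw [this]; exact (zpowers x).mul_mem (mem_zpowers x) h1

theorem comm_mem_zpowers_right {x y : G} (hy : (zpowers y).Normal) : ⁅x, y⁆ ∈ zpowers y := by
  have h1 : x * y * x⁻¹ ∈ zpowers y := hy.conj_mem _ (mem_zpowers y) x
  have : ⁅x, y⁆ = (x * y * x⁻¹) * y⁻¹ := by rw [commutatorElement_def]
  rw [this]; exact (zpowers y).mul_mem h1 ((zpowers y).inv_mem (mem_zpowers y))

theorem commute_of_mem_zpowers {x c : G} (h : c ∈ zpowers x) : Commute c x := by
  obtain ⟨k, rfl⟩ := mem_zpowers_iff.mp h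
  exact (Commute.refl x).zpow_left k

theorem comm_pow_left_of_commute {x y : G} (hx : Commute ⁅x, y⁆ x) (k : ℕ) :
    ⁅x ^ k, y⁆ = ⁅x, y⁆ ^ k := by
  induction k with
  | zero => simp
  | succ k ih =>
    rw [pow_succ', comm_mul_left', ih]
    have : x * ⁅x, y⁆ ^ k * x⁻¹ = ⁅x, y⁆ ^ k := by
      rw [← (hx.pow_left k).eq, mul_inv_cancel_right]
    rw [this, ← pow_succ]

theorem comm_pow_right_of_commute {x y : G} (hy : Commute ⁅x, y⁆ y) (k : ℕ) :
    ⁅x, y ^ k⁆ = ⁅x, y⁆ ^ k := by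
  induction k with
  | zero => simp
  | succ k ih =>
    rw [pow_succ', comm_mul_right', ih]
    have : y * ⁅x, y⁆ ^ k * y⁻¹ = ⁅x, y⁆ ^ k := by
      rw [← (hy.pow_left k).eq, mul_inv_cancel_right]
    rw [this, ← pow_succ']

variable [Finite G]

theorem zpowers_eq_of_prime_pow_order {p : ℕ} [Fact p.Prime] {x c : G} {m : ℕ} (hm : 1 ≤ m)
    (hx : orderOf x = p ^ m) (hc : c ∈ zpowers x) (hcp : c ^ p = 1) (hc1 : c ≠ 1) :
    zpowers c = zpowers (x ^ p ^ (m - 1)) := by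
  have hpp : p.Prime := Fact.out
  have horda : orderOf (x ^ p ^ (m - 1)) = p := by
    rw [orderOf_pow' x (pow_ne_zero _ hpp.ne_zero), hx,
      Nat.gcd_eq_right (pow_dvd_pow p (Nat.sub_le m 1)), Nat.pow_div (Nat.sub_le m 1) hpp.pos]
    have : m - (m - 1) = 1 := by omega
    rw [this, pow_one]
  have hle : zpowers c ≤ zpowers (x ^ p ^ (m - 1)) := by
    rw [zpowers_le]
    obtain ⟨k, rfl⟩ := mem_zpowers_iff.mp hc
    have h1 : x ^ (k * (p : ℤ)) = 1 := by rw [zpow_mul, zpow_natCast]; exact hcp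
    have h2 : (orderOf x : ℤ) ∣ k * p := orderOf_dvd_iff_zpow_eq_one.mpr h1
    rw [hx] at h2
    have h3 : ((p : ℤ) ^ (m - 1)) * p ∣ k * p := by
      have : ((p ^ m : ℕ) : ℤ) = ((p : ℤ) ^ (m - 1)) * p := by
        rw [← pow_succ]; push_cast; congr 1; omega
      rwa [this] at h2
    have h4 : (p : ℤ) ^ (m - 1) ∣ k :=
      Int.dvd_of_mul_dvd_mul_right (by exact_mod_cast hpp.ne_zero) h3
    obtain ⟨k', rfl⟩ := h4
    rw [zpow_mul]
    have : x ^ ((p : ℤ) ^ (m - 1)) = x ^ p ^ (m - 1) := by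
      rw [← zpow_natCast]; push_cast; rfl
    rw [this]
    exact zpow_mem (mem_zpowers _) k'
  exact eq_of_le_of_prime_card hle (by rw [Nat.card_zpowers, horda]) (by rwa [Ne, zpowers_eq_bot])

end Dedekind

end Cfsg.Agent.Helper51
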