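/-
helper51: weak closure in saturated fusion systems, part 1.
A guarded centralizer system and the consequence of the Alperin–Goldschmidt theorem (S5082) that we
need: if the automorphisms of `S` and of the essential subgroups of order `> t` fix a central element
`x` of `S`, then every map of the system defined on a subgroup of order `> t` fixes `x`.
-/
import Mathlib
import Cfsg.Prelude.Def_FusionSystem
import Cfsg.Agent.S5082
import Cfsg.Agent.S5097
import Cfsg.Agent.Helper87.FusionFrobenius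
import Cfsg.Agent.Helper87.FusionRS

set_option autoImplicit false

namespace Cfsg.Agent.Helper51.FusWC

open Cfsg Cfsg.FusionSystem Cfsg.Agent.Helper87

variable {Ω : Type*} [Group Ω] {S : Subgroup Ω}

theorem zpowers_le_of_mem_center {x : Ω} (hx : x ∈ S ⊓ Subgroup.centralizer (S : Set Ω)) :
    Subgroup.zpowers x ≤ S := by
  rw [Subgroup.zpowers_le]; exact hx.1

theorem le_centralizerIn_zpowers {x : Ω} (hx : x ∈ S ⊓ Subgroup.centralizer (S : Set Ω))
    {P : Subgroup Ω} (hP : P ≤ S) : P ≤ centralizerIn S (Subgroup.zpowers x) := by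
  intro y hy
  refine ⟨hP hy, Subgroup.mem_centralizer_iff.2 ?_⟩
  intro z hz
  obtain ⟨k, rfl⟩ := Subgroup.mem_zpowers_iff.1 hz
  have h1 : y * x = x * y := Subgroup.mem_centralizer_iff.1 hx.2 y (hP hy)
  exact ((Commute.zpow_right (show Commute y x from h1) k).eq).symm

/-- The guarded centralizer system: all maps of `F` on subgroups of order `≤ t`, and the maps of
`C_F(⟨x⟩)` on subgroups of order `> t`; here `x ∈ Z(S)`, so that `C_S(⟨x⟩) = S`. -/
def guardSys [Finite S] (F : FusionSystem S) (x : Ω)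
    (hx : x ∈ S ⊓ Subgroup.centralizer (S : Set Ω)) (t : ℕ) : FusionSystem S where
  Hom P := {φ | φ ∈ F.Hom P ∧ (t < Nat.card P → φ ∈ F.centralizerHom (Subgroup.zpowers x) P)}
  le_of_mem h := F.le_of_mem h.1
  injective_of_mem h := F.injective_of_mem h.1
  conj_mem := by
    intro P g hP hg
    refine ⟨F.conj_mem hP hg, fun _ => ?_⟩
    exact Cfsg.Agent.S5097.conj_mem_centralizerHom F (zpowers_le_of_mem_center hx)
      (le_centralizerIn_zpowers hx hP) (le_centralizerIn_zpowers hx (P := S) le_rfl hg)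
  comp_mem := by
    intro P Q φ ψ hφ hψ h
    refine ⟨F.comp_mem hφ.1 hψ.1 h, fun ht => ?_⟩
    have hQS : Q ≤ S := (F.le_of_mem hψ.1).1
    have : Finite Q := finite_of_le hQS
    have hcard : Nat.card P ≤ Nat.card Q := by
      refine Nat.card_le_card_of_injective (φ.codRestrict Q h) ?_
      intro a b hab
      exact F.injective_of_mem hφ.1 (congrArg Subtype.val hab)
    exact Cfsg.Agent.S5097.comp_mem_centralizerHom F (hφ.2 ht) (hψ.2 (lt_of_lt_of_le ht hcard)) h
  inv_mem := by
    intro P φ hφ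
    by_cases ht : t < Nat.card P
    · obtain ⟨ψ, hψ, hinv⟩ := Cfsg.Agent.S5097.inv_mem_centralizerHom F (hφ.2 ht)
      exact ⟨ψ, ⟨hψ.1, fun _ => hψ⟩, hinv⟩
    · obtain ⟨ψ, hψ, hinv⟩ := F.inv_mem hφ.1
      refine ⟨ψ, ⟨hψ, fun ht' => ?_⟩, hinv⟩
      exfalso
      apply ht
      have : Nat.card φ.range = Nat.card P :=
        (Nat.card_congr (MonoidHom.ofInjective (F.injective_of_mem hφ.1)).toEquiv).symm
      omega

/-- **Alperin consequence.** If every automorphism of `S` and of the essential subgroups of order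
larger than `t` fixes the central element `x`, then so does every map of the system defined on a
subgroup of order larger than `t`. -/
theorem fixes_of_big [Finite S] {p : ℕ} [Fact p.Prime] (hS : IsPGroup p S) (F : FusionSystem S)
    (hF : F.IsSaturated p) (x : Ω) (hx : x ∈ S ⊓ Subgroup.centralizer (S : Set Ω)) (t : ℕ)
    (h : ∀ P : Subgroup Ω, (P = S ∨ F.IsEssential p P) → t < Nat.card P →
      ∀ α : MulAut P, P.subtype.comp α.toMonoidHom ∈ F.Hom P →
        ∀ hxP : x ∈ P, α ⟨x, hxP⟩ = ⟨x, hxP⟩) :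
    ∀ (Q : Subgroup Ω) (φ : Q →* Ω), φ ∈ F.Hom Q → t < Nat.card Q →
      ∀ hxQ : x ∈ Q, φ ⟨x, hxQ⟩ = x := by
  have hle : F ≤ guardSys F x hx t := by
    apply Cfsg.Agent.S5082.result p hS F hF
    intro P hP
    unfold autGroup
    apply Subgroup.closure_mono
    intro α hα
    have hαF : P.subtype.comp α.toMonoidHom ∈ F.Hom P := hα
    refine ⟨hαF, fun ht => ?_⟩
    have hPS : P ≤ S := (F.le_of_mem hαF).1
    have hxP : x ∈ P := by
      rcases hP with rfl | hP
      · exact hx.1
      · exact hP.1.2 P (isConj_refl F hPS) ⟨hx.1, Subgroup.mem_centralizer_iff.2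
          (fun y hy => Subgroup.mem_centralizer_iff.1 hx.2 y (hPS hy))⟩
    have hfix := h P hP ht α hαF hxP
    have hle : P ⊔ Subgroup.zpowers x ≤ P := sup_le le_rfl (by rw [Subgroup.zpowers_le]; exact hxP)
    refine ⟨hαF, le_centralizerIn_zpowers hx hPS, fun y => ?_, ?_⟩
    · exact le_centralizerIn_zpowers hx (P := S) le_rfl ((F.le_of_mem hαF).2 y)
    · refine ⟨(P.subtype.comp α.toMonoidHom).comp (Subgroup.inclusion hle), restrict_mem F hαF hle,
        fun y => ?_, fun y => ?_⟩
      · show ((α (Subgroup.inclusion hle (Subgroup.inclusion le_sup_left y)) : P) : Ω) = ((α y : P) : Ω)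
        congr 2
      · obtain ⟨k, hk⟩ := Subgroup.mem_zpowers_iff.1 y.2
        have h1 : Subgroup.inclusion hle (Subgroup.inclusion le_sup_right y) = (⟨x, hxP⟩ : P) ^ k := by
          apply Subtype.ext
          show (y : Ω) = ((⟨x, hxP⟩ : P) ^ k : P)
          rw [Subgroup.coe_zpow]
          exact hk.symm
        show ((α (Subgroup.inclusion hle (Subgroup.inclusion le_sup_right y)) : P) : Ω) = (y : Ω)
        rw [h1, map_zpow, hfix, Subgroup.coe_zpow]
        exact hk
  intro Q φ hφ ht hxQ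
  obtain ⟨-, hc⟩ := hle Q hφ
  obtain ⟨-, -, -, ψ, -, hψext, hψfix⟩ := hc ht
  have h1 := hψext ⟨x, hxQ⟩
  have h2 := hψfix ⟨x, Subgroup.mem_zpowers x⟩
  have h3 : (Subgroup.inclusion le_sup_left (⟨x, hxQ⟩ : Q) : ↥(Q ⊔ Subgroup.zpowers x)) =
      Subgroup.inclusion le_sup_right (⟨x, Subgroup.mem_zpowers x⟩ : Subgroup.zpowers x) :=
    Subtype.ext rfl
  rw [← h1, h3, h2]

end Cfsg.Agent.Helper51.FusWC
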