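/-
helper51: weak closure in saturated fusion systems, part 4: the abstract core.
`W` is any assignment of subgroups with `W T ≤ T`, `N_S(T) ≤ N_S(W T)`, `x ∈ T → x ∈ W T`.
If (local hypothesis) for every fully normalized centric `P` with an automorphism moving the
central element `x` some automorphism of `W (N_S(P))` moves `x`, and no automorphism of `W S`
moves `x`, then no map of the system moves `x`.
-/
import Mathlib
import Cfsg.Prelude.Def_FusionSystem
import Cfsg.Agent.Helper51.FusWC3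

set_option autoImplicit false

namespace Cfsg.Agent.Helper51.FusWC

open Cfsg Cfsg.FusionSystem Cfsg.Agent.Helper87

variable {Ω : Type*} [Group Ω] {S : Subgroup Ω}

/-- `P` carries an automorphism of the system moving `x`. -/
def Mover (F : FusionSystem S) (x : Ω) (P : Subgroup Ω) : Prop :=
  ∃ α : MulAut P, IsIso F (α : P ≃* P) ∧ ∃ hxP : x ∈ P, α ⟨x, hxP⟩ ≠ ⟨x, hxP⟩

theorem core [Finite S] {p : ℕ} [Fact p.Prime] (hS : IsPGroup p S) (F : FusionSystem S)
    (hF : F.IsSaturated p) (W : Subgroup Ω → Subgroup Ω)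
    (hWle : ∀ T : Subgroup Ω, T ≤ S → W T ≤ T)
    (hWn : ∀ T : Subgroup Ω, T ≤ S → normalizerIn S T ≤ normalizerIn S (W T))
    (x : Ω) (hxZ : x ∈ S ⊓ Subgroup.centralizer (S : Set Ω))
    (hloc : ∀ P : Subgroup Ω, F.IsCentric P → F.IsFullyNormalized P → Mover F x P →
      Mover F x (W (normalizerIn S P)))
    (htop : ¬ Mover F x (W S)) :
    ∀ (Q : Subgroup Ω) (φ : Q →* Ω), φ ∈ F.Hom Q → ∀ hxQ : x ∈ Q, φ ⟨x, hxQ⟩ = x := by
  by_contra hcon
  simp only [not_forall] at hcon
  obtain ⟨Q, φ, hφ, hxQ, hne⟩ := hcon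
  have hQS : Q ≤ S := (F.le_of_mem hφ).1
  have hfinQ : Finite Q := finite_of_le hQS
  -- centric / fully normalized for `S` or essential
  have hcf : ∀ P : Subgroup Ω, (P = S ∨ F.IsEssential p P) → F.IsCentric P ∧ F.IsFullyNormalized P := by
    rintro P (rfl | hP)
    · exact ⟨isCentric_self F, isFullyNormalized_self F⟩
    · exact ⟨hP.1, hP.2.1⟩
  -- Step 1: some centric fully normalized mover exists
  have hex : ∃ P : Subgroup Ω, F.IsCentric P ∧ F.IsFullyNormalized P ∧ Mover F x P := by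
    by_contra hnone
    apply hne
    refine fixes_of_big hS F hF x hxZ 0 ?_ Q φ hφ Nat.card_pos hxQ
    intro P hP _ α hα hxP
    by_contra hmv
    exact hnone ⟨P, (hcf P hP).1, (hcf P hP).2, α, hα, hxP, hmv⟩
  -- Step 2: maximize `|N_S(P)|`
  obtain ⟨t, ⟨P, hPc, hPfn, hPm, htP⟩, hmax⟩ := exists_max_nat
    {n | ∃ P : Subgroup Ω, F.IsCentric P ∧ F.IsFullyNormalized P ∧ Mover F x P ∧
      n = Nat.card (normalizerIn S P)}
    (by obtain ⟨P, h1, h2, h3⟩ := hex; exact ⟨_, P, h1, h2, h3, rfl⟩) (Nat.card S)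
    (by rintro n ⟨P, -, -, -, rfl⟩; exact Subgroup.card_le_of_le inf_le_left)
  -- Step 3: maps on subgroups of order `> t` fix `x`
  have hM : ∀ (Q : Subgroup Ω) (φ : Q →* Ω), φ ∈ F.Hom Q → t < Nat.card Q →
      ∀ hxQ : x ∈ Q, φ ⟨x, hxQ⟩ = x := by
    refine fixes_of_big hS F hF x hxZ t ?_
    intro P' hP' htP' α hα hxP'
    by_contra hmv
    have hP'S : P' ≤ S := (hcf P' hP').1.1
    have h1 : Nat.card (normalizerIn S P') ≤ t :=
      hmax _ ⟨P', (hcf P' hP').1, (hcf P' hP').2, ⟨α, hα, hxP', hmv⟩, rfl⟩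
    have hfinN : Finite (normalizerIn S P') := finite_of_le inf_le_left
    have h2 : Nat.card P' ≤ Nat.card (normalizerIn S P') := Subgroup.card_le_of_le (le_normalizerIn hP'S)
    omega
  -- Step 4: the local hypothesis
  obtain ⟨T, hT⟩ : ∃ T : Subgroup Ω, T = normalizerIn S P := ⟨_, rfl⟩
  have hloc' := hloc P hPc hPfn hPm
  rw [← hT] at hloc' htP
  by_cases hTS : T = S
  · rw [hTS] at hloc'
    exact htop hloc'
  · obtain ⟨β, hβ, hxW, hβx⟩ := hloc'
    have hTle : T ≤ S := by rw [hT]; exact inf_le_left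
    have hlt : T < S := lt_of_le_of_ne hTle hTS
    have hRS : W T ≤ S := (hWle T hTle).trans hTle
    have hfin1 : Finite (normalizerIn S T) := finite_of_le inf_le_left
    have hfin2 : Finite (normalizerIn S (W T)) := finite_of_le inf_le_left
    have h1 : Nat.card T < Nat.card (normalizerIn S T) := card_lt_card_of_lt (lt_normalizerIn hS hlt)
    have h2 : Nat.card (normalizerIn S T) ≤ Nat.card (normalizerIn S (W T)) :=
      Subgroup.card_le_of_le (hWn T hTle)
    have ht1 : t < Nat.card (normalizerIn S (W T)) := by omega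
    obtain ⟨R', hconjR, hfnR', β', hβ', hxR', hβ'x⟩ := transport_fn hS F hF hM hRS β hβ hxW hβx ht1
    have h3 : Nat.card (normalizerIn S (W T)) ≤ Nat.card (normalizerIn S R') :=
      hfnR'.2 _ (isConj_symm F hconjR)
    obtain ⟨hDc, γ, hγ, hxD, hγx⟩ := centric_extension hS F hF hfnR' β' hβ' hxR' hβ'x
    have hDS : R' ⊔ centralizerIn S R' ≤ S := hDc.1
    have hfin3 : Finite (normalizerIn S (R' ⊔ centralizerIn S R')) := finite_of_le inf_le_left
    have h4 : Nat.card (normalizerIn S R') ≤ Nat.card (normalizerIn S (R' ⊔ centralizerIn S R')) :=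
      Subgroup.card_le_of_le (normalizerIn_le_normalizerIn_sup_centralizerIn R')
    have ht2 : t < Nat.card (normalizerIn S (R' ⊔ centralizerIn S R')) := by omega
    obtain ⟨D₂, hconjD, hfnD₂, γ₂, hγ₂, hxD₂, hγ₂x⟩ := transport_fn hS F hF hM hDS γ hγ hxD hγx ht2
    have hD₂c : F.IsCentric D₂ := ⟨hfnD₂.1, fun Q' hQ' => hDc.2 Q' (isConj_trans F hconjD hQ')⟩
    have h5 : Nat.card (normalizerIn S (R' ⊔ centralizerIn S R')) ≤ Nat.card (normalizerIn S D₂) :=
      hfnD₂.2 _ (isConj_symm F hconjD)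
    have h6 : Nat.card (normalizerIn S D₂) ≤ t :=
      hmax _ ⟨D₂, hD₂c, hfnD₂, ⟨γ₂, hγ₂, hxD₂, hγ₂x⟩, rfl⟩
    omega

end Cfsg.Agent.Helper51.FusWC
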