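/-
helper51: weak closure in saturated fusion systems, part 5: reading movers through a group
realizing the normalizer system `N_F(P)`.
-/
import Mathlib
import Cfsg.Prelude.Def_FusionSystem
import Cfsg.Agent.Helper51.FusWC4
import Cfsg.Agent.Helper87.NormModel

set_option autoImplicit false

namespace Cfsg.Agent.Helper51.FusWC

open Cfsg Cfsg.FusionSystem Cfsg.Agent.Helper87

variable {Ω : Type*} [Group Ω] {S : Subgroup Ω}

/-- an automorphism of `P` in `F` moving `x` is induced by an element of any group realizing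
`N_F(P)`, which then moves the image of `x` inside the image of `N_S(P)`. -/
theorem exists_conj_of_mover [Finite S] (F : FusionSystem S) {P : Subgroup Ω} (hPS : P ≤ S)
    (E : FusionSystem (normalizerIn S P)) (hE : F.IsNormalizerSystem P E)
    {L : Type*} [Group L] (ι : ↥(normalizerIn S P) →* L) (hreal : E.IsRealizedBy ι)
    {x : Ω} (hxT : x ∈ normalizerIn S P) (hm : Mover F x P) :
    ∃ g : L, g * ι ⟨x, hxT⟩ * g⁻¹ ∈ ι.range ∧ g * ι ⟨x, hxT⟩ * g⁻¹ ≠ ι ⟨x, hxT⟩ := by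
  obtain ⟨α, hα, hxP, hαx⟩ := hm
  obtain ⟨hinj, hr⟩ := hreal
  have hPN : P ≤ normalizerIn S P := le_normalizerIn_self hPS
  have hαE : IsIso E (α : P ≃* P) := by
    rw [← mem_autGroup_iff E hPN, autGroup_normalizerSystem F hPS E hE, mem_autGroup_iff F hPS]
    exact hα
  have hval : ∀ u : P, (P.subtype.comp (α : P ≃* P).toMonoidHom) u ∈ normalizerIn S P :=
    fun u => hPN (α u).2
  obtain ⟨g, hg⟩ := (hr P hPN _ hval).1 hαE
  refine ⟨g, ?_, ?_⟩
  · have := hg ⟨x, hxP⟩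
    exact ⟨_, this⟩
  · intro hcon
    have h1 := hg ⟨x, hxP⟩
    have h2 : (⟨(P.subtype.comp (α : P ≃* P).toMonoidHom) ⟨x, hxP⟩, hval ⟨x, hxP⟩⟩ : ↥(normalizerIn S P)) =
        ⟨x, hxT⟩ := by
      apply hinj
      rw [h1]
      exact hcon
    apply hαx
    apply Subtype.ext
    exact congrArg (fun z : ↥(normalizerIn S P) => (z : Ω)) h2

/-- an element of a group realizing `N_F(P)` which normalizes the image of `R ≤ N_S(P)` and moves
the image of `x ∈ R` gives an automorphism of `R` in `F` moving `x`. -/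
theorem mover_of_conj [Finite S] (F : FusionSystem S) {P : Subgroup Ω}
    (E : FusionSystem (normalizerIn S P)) (hE : F.IsNormalizerSystem P E)
    {L : Type*} [Group L] (ι : ↥(normalizerIn S P) →* L) (hreal : E.IsRealizedBy ι)
    {R : Subgroup Ω} (hRT : R ≤ normalizerIn S P) {x : Ω} (hxR : x ∈ R) (h : L)
    (hh : ∀ y : R, h * ι ⟨y, hRT y.2⟩ * h⁻¹ ∈ (R.subgroupOf (normalizerIn S P)).map ι)
    (hx : h * ι ⟨x, hRT hxR⟩ * h⁻¹ ≠ ι ⟨x, hRT hxR⟩) : Mover F x R := by
  obtain ⟨hinj, hr⟩ := hreal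
  have hRS : R ≤ S := hRT.trans inf_le_left
  have hfinR : Finite R := finite_of_le hRS
  have hmem : ∀ y : R, h * ι ⟨y, hRT y.2⟩ * h⁻¹ ∈ ι.range := by
    intro y
    obtain ⟨z, -, hz⟩ := hh y
    exact ⟨z, hz⟩
  obtain ⟨ψ, hψT, hιψ⟩ := exists_hom_of_conj ι hinj hRT h hmem
  have hψE : ψ ∈ E.Hom R := (hr R hRT ψ hψT).2 ⟨h, hιψ⟩
  have hψF : ψ ∈ F.Hom R := by
    rw [hE R] at hψE
    exact hψE.1
  have hψR : ∀ y : R, ψ y ∈ R := by
    intro y
    obtain ⟨z, hz, hzy⟩ := hh y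
    rw [← hιψ y] at hzy
    have := hinj hzy
    have h2 : (z : Ω) = ψ y := congrArg Subtype.val this
    rw [← h2]
    exact Subgroup.mem_subgroupOf.1 hz
  have hrange : ψ.range = R := by
    have hle : ψ.range ≤ R := by
      rintro _ ⟨y, rfl⟩; exact hψR y
    have hcard : Nat.card R ≤ Nat.card ψ.range :=
      le_of_eq (Nat.card_congr (MonoidHom.ofInjective (F.injective_of_mem hψF)).toEquiv)
    exact Subgroup.eq_of_le_of_card_ge hle hcard
  refine ⟨isoOfRange F hψF hrange, isIso_isoOfRange F hψF hrange, hxR, ?_⟩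
  intro hcon
  apply hx
  have h1 : ((isoOfRange F hψF hrange ⟨x, hxR⟩ : R) : Ω) = ψ ⟨x, hxR⟩ := isoOfRange_apply F hψF hrange _
  rw [hcon] at h1
  have h2 := hιψ ⟨x, hxR⟩
  rw [← h2]
  congr 1
  apply Subtype.ext
  exact h1.symm

end Cfsg.Agent.Helper51.FusWC
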