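import Cfsg.Agent.Helper51.WCTwo3

/-!
# The weak closure theorem (helper51): the main induction

Glauberman's theorem on weakly closed elements: if `x ∈ S` is central in `N_G(J(S))` and `p` is odd, or `x` is a
`p`-th power of an element of `Z(S)`, or `G` is `S₄`-free, then `x` is weakly closed in `S` with respect to `G`.
-/

set_option autoImplicit false
set_option linter.unusedSectionVars false
set_option linter.style.haveILetI false

namespace Cfsg.Agent.Helper51.WC

open Subgroup
open Cfsg.Agent.S4269 (cj mem_cj cj_mul cj_of_mem cj_of_mem_normalizer)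
open Cfsg.Agent.Helper71
open Cfsg.Agent.Helper1 (Jg)
open Cfsg.Agent.Lib.ZJ (maxGood goodComm intrinsic_comm)

universe u

variable {G : Type u} [Group G] [Finite G] {p : ℕ} [hp : Fact p.Prime]

/-- transport of the theorem for the group `↥K` to the ambient form -/
theorem wcAmb_of_subtype (K : Subgroup G)
    (hK : ∀ (T : Sylow p ↥K) (x : ↥K), x ∈ (T : Subgroup ↥K) →
      normalizer (JJ (T : Subgroup ↥K) : Set ↥K) ≤ centralizer ({x} : Set ↥K) →
      Cond p (T : Subgroup ↥K) x → ∀ g : ↥K, g * x * g⁻¹ ∈ (T : Subgroup ↥K) → g * x * g⁻¹ = x) :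
    WCAmb p K := by
  intro T hTK hTp hTsyl x hxT hNJ hcond g hgK hgx
  obtain ⟨T', hT'⟩ : ∃ T' : Subgroup ↥K, T' = T.subgroupOf K := ⟨_, rfl⟩
  have hT'p : IsPGroup p T' := hT' ▸ hTp.comap_subtype
  have hidx : ¬ p ∣ T'.index := by
    rw [hT']
    exact hTsyl
  have hPcoe : ((hT'p.toSylow hidx : Sylow p ↥K) : Subgroup ↥K) = T' := IsPGroup.toSylow_coe hT'p hidx
  have hmap : T'.map K.subtype = T := by
    rw [hT', subgroupOf_map_subtype, inf_eq_left.mpr hTK]
  have hJ : JJ (T'.map K.subtype) = (JJ T').map K.subtype :=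
    Cfsg.Agent.Helper1.Jg_map intrinsic_comm K.subtype T'
      (K.subtype_injective.comp T'.subtype_injective)
  rw [hmap] at hJ
  have hmem : ∀ y : ↥K, y ∈ T' ↔ (y : G) ∈ T := by
    intro y
    rw [hT', mem_subgroupOf]
  have h := hK (hT'p.toSylow hidx) ⟨x, hTK hxT⟩ ?_ ?_ ?_ ⟨g, hgK⟩ ?_
  · exact congrArg Subtype.val h
  · rw [hPcoe, hmem]
    exact hxT
  · rw [hPcoe]
    intro k hk
    have h1 : (k : G) ∈ normalizer ((JJ T').map K.subtype : Set G) :=
      Subgroup.le_normalizer_map K.subtype ⟨k, hk, rfl⟩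
    rw [← hJ] at h1
    have h2 := hNJ ⟨k.2, h1⟩
    rw [mem_centralizer_singleton_iff] at h2 ⊢
    exact Subtype.ext h2
  · rw [hPcoe]
    rcases hcond with h2 | ⟨z, hz, hzx⟩ | h2
    · exact Or.inl h2
    · obtain ⟨hz1, hz2⟩ := Subgroup.mem_inf.mp hz
      refine Or.inr (Or.inl ⟨⟨z, hTK hz1⟩, Subgroup.mem_inf.mpr ⟨?_, ?_⟩, ?_⟩)
      · rw [hmem]
        exact hz1
      · rw [mem_centralizer_iff]
        intro t ht
        apply Subtype.ext
        exact mem_centralizer_iff.mp hz2 t ((hmem t).mp ht)
      · apply Subtype.ext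
        rw [Subgroup.coe_pow]
        exact hzx
    · exact Or.inr (Or.inr fun hinv => h2 (Cfsg.Agent.Helper91.involves_of_subgroup K hinv))
  · rw [hPcoe, hmem]
    exact hgx

/-- the theorem, in terms of `JJ` -/
theorem main_aux : ∀ (n : ℕ) (G : Type u) [Group G] [Finite G], Nat.card G = n →
    ∀ (S : Sylow p G) (x : G), x ∈ (S : Subgroup G) →
      normalizer (JJ (S : Subgroup G) : Set G) ≤ centralizer ({x} : Set G) →
      Cond p (S : Subgroup G) x → ∀ g : G, g * x * g⁻¹ ∈ (S : Subgroup G) → g * x * g⁻¹ = x := by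
  intro n
  induction n using Nat.strong_induction_on with
  | _ n ih =>
  intro G _ _ hn S
  -- the theorem for proper subgroups
  have hIH : ∀ K : Subgroup G, K ≠ ⊤ → WCAmb p K := by
    intro K hK
    apply wcAmb_of_subtype
    intro T x hxT hNJ hcond g hg
    have hlt : Nat.card ↥K < n := by
      rw [← hn, ← Subgroup.card_top (G := G)]
      exact card_lt_of_lt' (lt_top_iff_ne_top.mpr hK)
    exact ih (Nat.card ↥K) hlt ↥K rfl T x hxT hNJ hcond g hg
  -- induction on the order of `x`
  suffices hx : ∀ m : ℕ, ∀ x : G, orderOf x = m → x ∈ (S : Subgroup G) →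
      normalizer (JJ (S : Subgroup G) : Set G) ≤ centralizer ({x} : Set G) →
      Cond p (S : Subgroup G) x → ∀ g : G, g * x * g⁻¹ ∈ (S : Subgroup G) → g * x * g⁻¹ = x by
    intro x
    exact hx _ x rfl
  intro m
  induction m using Nat.strong_induction_on with
  | _ m ihm =>
  intro x hm hxS hNJ hcond g hg
  by_contra hne
  have hxZ : (S : Subgroup G) ≤ centralizer ({x} : Set G) :=
    (le_normalizer.trans (normalizer_le_normalizer_JJ (S : Subgroup G))).trans hNJ
  -- `x ^ p` is weakly closed
  have hxp : ∀ g : G, g * x ^ p * g⁻¹ ∈ (S : Subgroup G) → g * x ^ p * g⁻¹ = x ^ p := by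
    by_cases hx1 : x = 1
    · intro g _
      rw [hx1]
      simp
    · have hlt : orderOf (x ^ p) < m := by
        obtain ⟨k, hk⟩ := (IsPGroup.iff_orderOf.mp S.isPGroup') ⟨x, hxS⟩
        have hk' : orderOf x = p ^ k := by
          rw [← hk, ← Subgroup.orderOf_coe]
        have hk0 : k ≠ 0 := by
          intro h0
          rw [h0, pow_zero, orderOf_eq_one_iff] at hk'
          exact hx1 hk'
        have hdvd : p ∣ orderOf x := by
          rw [hk']
          exact dvd_pow_self p hk0
        rw [orderOf_pow_of_dvd hp.out.ne_zero hdvd, ← hm]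
        exact Nat.div_lt_self (orderOf_pos x) hp.out.one_lt
      apply ihm _ hlt (x ^ p) rfl ((S : Subgroup G).pow_mem hxS p)
      · refine hNJ.trans ?_
        intro y hy
        rw [mem_centralizer_singleton_iff] at hy ⊢
        exact ((Commute.pow_right (show Commute y x from hy) p)).eq
      · by_cases hp2 : p = 2
        · refine Or.inr (Or.inl ⟨x, Subgroup.mem_inf.mpr ⟨hxS, ?_⟩, rfl⟩)
          rw [mem_centralizer_iff]
          intro s hs
          exact mem_centralizer_singleton_iff.mp (hxZ hs)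
        · exact Or.inl hp2
  -- Alperin: a subgroup of `S` containing `x` whose normalizer moves `x`
  obtain ⟨H, k, y, hHS, hkH, hkx, hyN, hyx⟩ := alperin_move S (zpowers x)
    (zpowers_le.mpr hxS) x (mem_zpowers x) g⁻¹
    (by
      intro t ht
      obtain ⟨j, rfl⟩ := mem_zpowers_iff.mp ht
      rw [inv_inv, ← conj_zpow]
      exact Subgroup.zpow_mem _ hg j)
    (by rw [inv_inv]; exact hne)
  have hxH : x ∈ H := by
    have := hkH x (mem_zpowers x)
    rwa [hkx] at this
  have hN₀ : ¬ normalizer (H : Set G) ≤ centralizer ({x} : Set G) := by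
    intro hle
    apply hyx
    have h1 := mem_centralizer_singleton_iff.mp (hle hyN)
    calc y⁻¹ * x * y = y⁻¹ * (x * y) := by group
      _ = y⁻¹ * (y * x) := by rw [h1]
      _ = x := by group
  obtain ⟨R, -, hRS, hxR, hRn⟩ := reduction S x hxZ hNJ hcond hIH (fun _ => True)
    (fun _ _ _ => trivial) (fun _ _ _ _ => trivial) (fun _ _ _ _ _ => trivial) H trivial hHS hxH hN₀
  haveI := hRn
  have hcfg : MinCfg p S x :=
    { hxZ := hxZ
      hNJ := hNJ
      hprop := by
        intro K hSK hK k hk
        rw [mem_centralizer_singleton_iff]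
        have hsyl : ¬ p ∣ (S : Subgroup G).relIndex K := fun hd =>
          S.not_dvd_index (hd.trans (Subgroup.relIndex_dvd_index_of_le hSK))
        have h1 := hIH K hK (S : Subgroup G) hSK S.isPGroup' hsyl x hxS
          (inf_le_right.trans hNJ) hcond k hk (hRS (hRn.conj_mem x hxR k))
        calc k * x = (k * x * k⁻¹) * k := by group
          _ = x * k := by rw [h1]
      hR := ⟨R, hRn, hRS, hxR⟩
      hxp := by
        intro g
        apply hxp
        rw [← conj_pow]
        exact (S : Subgroup G).pow_mem (hRS (hRn.conj_mem x hxR g)) p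
      hnc := by
        intro htop
        apply hne
        have h1 := mem_centralizer_singleton_iff.mp (htop (mem_top g))
        rw [h1]
        group }
  exact hcfg.absurd hcond hIH

/-- **Glauberman's theorem on weakly closed elements** -/
theorem weakly_closed (S : Sylow p G) (x : G) (hxS : x ∈ (S : Subgroup G))
    (hNJ : normalizer (JJ (S : Subgroup G) : Set G) ≤ centralizer ({x} : Set G))
    (hcond : Cond p (S : Subgroup G) x) :
    ∀ g : G, g * x * g⁻¹ ∈ (S : Subgroup G) → g * x * g⁻¹ = x :=
  main_aux (Nat.card G) G rfl S x hxS hNJ hcond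

end Cfsg.Agent.Helper51.WC
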