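import Cfsg.Agent.Helper51.NormMap
import Cfsg.Agent.S2799

/-!
# The weakly closed elements of a Sylow subgroup form a direct factor of its centre (helper51)

Case `p` odd: the weakly closed elements of `S` are the elements of `S ∩ Z(N_G(J(S)))` (S2799 and an easy
converse), and the norm map of `NormMap.lean` inside `N_G(J(S))` with `Y = Z(J(S))` gives the complement.
-/

set_option autoImplicit false
set_option linter.unusedSectionVars false

namespace Cfsg.Agent.Helper51.WCF

open Subgroup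
open Cfsg.Agent.Helper51.WC (JJ thompsonSubgroupAOf_eq_JJ JJ_le normalizer_le_normalizer_JJ
  mem_JJ_of_central)

universe u

variable {G : Type u} [Group G] [Finite G] {p : ℕ} [hp : Fact p.Prime]

/-- `x ∈ S` is weakly closed in `S` with respect to `G` -/
def WeaklyClosedElt (S : Subgroup G) (x : G) : Prop :=
  x ∈ S ∧ ∀ g : G, g * x * g⁻¹ ∈ S → g * x * g⁻¹ = x

theorem WeaklyClosedElt.mem_centralizer {S : Subgroup G} {x : G} (h : WeaklyClosedElt S x) :
    x ∈ centralizer (S : Set G) := by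
  rw [mem_centralizer_iff]
  intro s hs
  have h1 := h.2 s (S.mul_mem (S.mul_mem hs h.1) (S.inv_mem hs))
  calc s * x = s * x * s⁻¹ * s := by group
    _ = x * s := by rw [h1]

/-- the centre of `J(S)` -/
abbrev ZJ (S : Subgroup G) : Subgroup G :=
  Cfsg.thompsonSubgroupAOf S ⊓ centralizer (Cfsg.thompsonSubgroupAOf S : Set G)

theorem center_le_ZJ (S : Subgroup G) : S ⊓ centralizer (S : Set G) ≤ ZJ S := by
  intro z hz
  have hzS := (mem_inf.mp hz).1
  have hzC := (mem_inf.mp hz).2
  have hJS : Cfsg.thompsonSubgroupAOf S ≤ S := by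
    rw [thompsonSubgroupAOf_eq_JJ]; exact JJ_le S
  refine mem_inf.mpr ⟨?_, ?_⟩
  · rw [thompsonSubgroupAOf_eq_JJ]
    apply mem_JJ_of_central hzS
    intro s hs
    rw [mem_centralizer_singleton_iff]
    exact ((mem_centralizer_iff.mp hzC) s hs)
  · exact centralizer_le hJS hzC

theorem S_le_normalizer_J (S : Subgroup G) :
    S ≤ normalizer (Cfsg.thompsonSubgroupAOf S : Set G) := by
  rw [thompsonSubgroupAOf_eq_JJ]
  exact le_normalizer.trans (normalizer_le_normalizer_JJ S)

theorem J_le (S : Subgroup G) : Cfsg.thompsonSubgroupAOf S ≤ S := by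
  rw [thompsonSubgroupAOf_eq_JJ]; exact JJ_le S

/-- conjugation by an element normalizing `H` preserves `C_G(H)` -/
theorem conj_mem_centralizer_of_mem_normalizer {H : Subgroup G} {n y : G}
    (hn : n ∈ normalizer (H : Set G)) (hy : y ∈ centralizer (H : Set G)) :
    n * y * n⁻¹ ∈ centralizer (H : Set G) := by
  rw [mem_centralizer_iff]
  intro j hj
  have hj' : n⁻¹ * j * n ∈ H := by
    have := (mem_normalizer_iff.mp (Subgroup.inv_mem _ hn) j).mp hj
    simpa using this
  have h1 := (mem_centralizer_iff.mp hy) _ hj'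
  calc j * (n * y * n⁻¹) = n * (n⁻¹ * j * n * y) * n⁻¹ := by group
    _ = n * (y * (n⁻¹ * j * n)) * n⁻¹ := by rw [h1]
    _ = n * y * n⁻¹ * j := by group

/-- **Case `p` odd.** -/
theorem case_odd (hp2 : p ≠ 2) (S : Sylow p G) :
    ∃ W K : Subgroup G, (∀ x : G, x ∈ W ↔ WeaklyClosedElt (S : Subgroup G) x) ∧
      K ≤ (S : Subgroup G) ⊓ centralizer ((S : Subgroup G) : Set G) ∧ W ⊓ K = ⊥ ∧
      W ⊔ K = (S : Subgroup G) ⊓ centralizer ((S : Subgroup G) : Set G) := by
  set J := Cfsg.thompsonSubgroupAOf (S : Subgroup G) with hJ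
  set Nn := normalizer (J : Set G) with hN
  have hSN : (S : Subgroup G) ≤ Nn := S_le_normalizer_J _
  have hJS : J ≤ (S : Subgroup G) := J_le _
  set P : Subgroup Nn := (S : Subgroup G).subgroupOf Nn with hP
  set Y : Subgroup Nn := (ZJ (S : Subgroup G)).subgroupOf Nn with hY
  have hYn : Y.Normal := by
    refine ⟨fun y hy n => ?_⟩
    rw [hY, mem_subgroupOf] at hy ⊢
    have h1 := (mem_inf.mp hy).1
    have h2 := (mem_inf.mp hy).2
    refine mem_inf.mpr ⟨?_, ?_⟩
    · exact (mem_normalizer_iff.mp n.2 _).mp h1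
    · exact conj_mem_centralizer_of_mem_normalizer n.2 h2
  have hYc : IsMulCommutative Y := by
    refine ⟨⟨fun a b => ?_⟩⟩
    apply Subtype.ext
    apply Subtype.ext
    have ha := mem_subgroupOf.mp a.2
    have hb := mem_subgroupOf.mp b.2
    exact ((mem_centralizer_iff.mp (mem_inf.mp hb).2) _ (mem_inf.mp ha).1)
  have hPp : IsPGroup p P := S.isPGroup'.comap_subtype
  have hidx : ¬ p ∣ P.index := by
    intro hdvd
    have h1 : (S : Subgroup G).relIndex Nn * Nn.index = (S : Subgroup G).index :=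
      Subgroup.relIndex_mul_index hSN
    have h2 : p ∣ (S : Subgroup G).index := by
      rw [← h1]; exact Dvd.dvd.mul_right hdvd _
    exact S.not_dvd_index h2
  have hYP : Y ≤ P := by
    intro y hy
    rw [hY, mem_subgroupOf] at hy
    rw [hP, mem_subgroupOf]
    exact hJS (mem_inf.mp hy).1
  have hcent : ∀ z : Nn, z ∈ P ⊓ centralizer (P : Set Nn) →
      (z : G) ∈ (S : Subgroup G) ⊓ centralizer ((S : Subgroup G) : Set G) := by
    intro z hz
    have hzP := (mem_inf.mp hz).1
    have hzC := (mem_inf.mp hz).2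
    refine mem_inf.mpr ⟨mem_subgroupOf.mp hzP, ?_⟩
    rw [mem_centralizer_iff]
    intro s hs
    have h1 : (⟨s, hSN hs⟩ : Nn) ∈ P := mem_subgroupOf.mpr hs
    have h2 := (mem_centralizer_iff.mp hzC) _ h1
    exact congrArg Subtype.val h2
  have hZY : P ⊓ centralizer (P : Set Nn) ≤ Y := by
    intro z hz
    rw [hY, mem_subgroupOf]
    exact center_le_ZJ _ (hcent z hz)
  obtain ⟨K, hK1, hK2, hK3, -⟩ := NormMap.exists_complement P Y hPp hidx hYP hZY
  have hmapZ : (P ⊓ centralizer (P : Set Nn)).map Nn.subtype =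
      (S : Subgroup G) ⊓ centralizer ((S : Subgroup G) : Set G) := by
    ext x
    constructor
    · rintro ⟨n, hn, rfl⟩
      exact hcent n hn
    · intro hx
      have hxS := (mem_inf.mp hx).1
      have hxC := (mem_inf.mp hx).2
      refine ⟨⟨x, hSN hxS⟩, mem_inf.mpr ⟨mem_subgroupOf.mpr hxS, ?_⟩, rfl⟩
      rw [mem_centralizer_iff]
      intro s hs
      apply Subtype.ext
      exact (mem_centralizer_iff.mp hxC) _ (mem_subgroupOf.mp hs)
  refine ⟨(P ⊓ center Nn).map Nn.subtype, K.map Nn.subtype, ?_, ?_, ?_, ?_⟩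
  · intro x
    constructor
    · rintro ⟨n, hn, rfl⟩
      have hnS : (n : G) ∈ (S : Subgroup G) := mem_subgroupOf.mp (mem_inf.mp hn).1
      refine ⟨hnS, ?_⟩
      exact Cfsg.Agent.S2799.result S (n : G) hnS ⟨n, (mem_inf.mp hn).2, rfl⟩ (Or.inl hp2)
    · intro h
      have hxZ : x ∈ (S : Subgroup G) ⊓ centralizer ((S : Subgroup G) : Set G) :=
        mem_inf.mpr ⟨h.1, h.mem_centralizer⟩
      have hxJ : x ∈ J := (mem_inf.mp (center_le_ZJ _ hxZ)).1
      have hxN : x ∈ Nn := le_normalizer hxJ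
      refine ⟨⟨x, hxN⟩, mem_inf.mpr ⟨mem_subgroupOf.mpr h.1, ?_⟩, rfl⟩
      rw [mem_center_iff]
      intro g
      apply Subtype.ext
      have h1 : (g : G) * x * (g : G)⁻¹ ∈ J := (mem_normalizer_iff.mp g.2 _).mp hxJ
      have h2 := h.2 (g : G) (hJS h1)
      show (g : G) * x = x * (g : G)
      calc (g : G) * x = (g : G) * x * (g : G)⁻¹ * (g : G) := by group
        _ = x * (g : G) := by rw [h2]
  · exact (Subgroup.map_mono hK1).trans hmapZ.le
  · rw [← Subgroup.map_inf _ _ _ (Subgroup.subtype_injective _), hK2, Subgroup.map_bot]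
  · rw [← Subgroup.map_sup, hK3, hmapZ]

end Cfsg.Agent.Helper51.WCF
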