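/-
helper51: weak closure in saturated fusion systems, part 6: the Thompson subgroup.
The local hypothesis of the abstract core for `W = J` (abelian version) follows from the model
theorem (S5090) and Glauberman's theorem on weakly closed elements for groups (S2799).
-/
import Mathlib
import Cfsg.Prelude.Def_FusionSystem
import Cfsg.Prelude.Def_FusionReduction
import Cfsg.Agent.Helper51.FusWC5
import Cfsg.Agent.Helper51.WCFactor
import Cfsg.Agent.Helper10.ZJFunctor
import Cfsg.Agent.S2799
import Cfsg.Agent.S5090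
import Cfsg.Agent.S5096
import Cfsg.Agent.S5098

set_option autoImplicit false

namespace Cfsg.Agent.Helper51.FusWC

open Cfsg Cfsg.FusionSystem Cfsg.Agent.Helper87

universe u

/-- the centre of a finite group lies in its (abelian version) Thompson subgroup -/
theorem center_le_thompsonSubgroupA (Q : Type*) [Group Q] [Finite Q] :
    Subgroup.center Q ≤ Cfsg.thompsonSubgroupA Q := by
  obtain ⟨m, ⟨A, hA, rfl⟩, hmax⟩ := exists_max_nat
    {n | ∃ A : Subgroup Q, IsMulCommutative A ∧ n = Nat.card A}
    ⟨_, ⊥, inferInstance, rfl⟩ (Nat.card Q)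
    (by rintro n ⟨A, -, rfl⟩; exact Subgroup.card_le_card_group A)
  have hAmax : A ∈ Cfsg.maxAbelianSubgroups Q := ⟨hA, fun B hB => hmax _ ⟨B, hB, rfl⟩⟩
  intro z hz
  have hAc : A ≤ Subgroup.centralizer (A : Set Q) := Subgroup.le_centralizer_iff_isMulCommutative.2 hA
  have hzc : ∀ T : Set Q, Subgroup.zpowers z ≤ Subgroup.centralizer T := by
    intro T
    rw [Subgroup.zpowers_le]
    exact Subgroup.center_le_centralizer T hz
  have hB : IsMulCommutative ↥(A ⊔ Subgroup.zpowers z) := by
    rw [← Subgroup.le_centralizer_iff_isMulCommutative]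
    have h1 : ((A ⊔ Subgroup.zpowers z : Subgroup Q) : Set Q) ⊆
        (Subgroup.closure ((A : Set Q) ∪ (Subgroup.zpowers z : Set Q)) : Subgroup Q) := by
      rw [Subgroup.closure_union, Subgroup.closure_eq, Subgroup.closure_eq]
    refine le_trans ?_ (Subgroup.centralizer_le h1)
    rw [Subgroup.centralizer_closure]
    apply sup_le
    · intro a ha
      rw [Subgroup.mem_centralizer_iff]
      rintro b (hb | hb)
      · exact Subgroup.mem_centralizer_iff.1 (hAc ha) b hb
      · exact (Subgroup.mem_centralizer_iff.1 (hzc {a} hb) a rfl).symm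
    · exact hzc _
  have hcard := hAmax.2 _ hB
  have hle : A ≤ A ⊔ Subgroup.zpowers z := le_sup_left
  have heq : A = A ⊔ Subgroup.zpowers z := Subgroup.eq_of_le_of_card_ge hle hcard
  have hzA : z ∈ A := by
    rw [heq]
    exact Subgroup.mem_sup_right (Subgroup.mem_zpowers z)
  exact (le_sSup hAmax : A ≤ Cfsg.thompsonSubgroupA Q) hzA

variable {Ω : Type u} [Group Ω] {S : Subgroup Ω}

theorem center_le_thompsonSubgroupAOf (T : Subgroup Ω) [Finite T] :
    T ⊓ Subgroup.centralizer (T : Set Ω) ≤ Cfsg.thompsonSubgroupAOf T := by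
  intro z hz
  have hzc : (⟨z, hz.1⟩ : T) ∈ Subgroup.center T := by
    rw [Subgroup.mem_center_iff]
    intro t
    apply Subtype.ext
    exact Subgroup.mem_centralizer_iff.1 hz.2 t t.2
  exact ⟨⟨z, hz.1⟩, center_le_thompsonSubgroupA T hzc, rfl⟩

theorem thompsonSubgroupAOf_le (T : Subgroup Ω) : Cfsg.thompsonSubgroupAOf T ≤ T := by
  rw [Cfsg.Agent.Helper51.WC.thompsonSubgroupAOf_eq_JJ]; exact Cfsg.Agent.Helper51.WC.JJ_le T

theorem normalizerIn_le_normalizerIn_thompson (T : Subgroup Ω) :
    normalizerIn S T ≤ normalizerIn S (Cfsg.thompsonSubgroupAOf T) := by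
  rw [Cfsg.Agent.Helper51.WC.thompsonSubgroupAOf_eq_JJ]
  exact inf_le_inf_left S (Cfsg.Agent.Helper51.WC.normalizer_le_normalizer_JJ T)

/-- the Thompson subgroup of the image of an injective homomorphism -/
theorem thompsonSubgroupAOf_range {T : Subgroup Ω} {L : Type*} [Group L] (ι : ↥T →* L)
    (hinj : Function.Injective ι) :
    Cfsg.thompsonSubgroupAOf ι.range = ((Cfsg.thompsonSubgroupAOf T).subgroupOf T).map ι := by
  have h1 : (Cfsg.thompsonSubgroupAOf T).subgroupOf T = Cfsg.thompsonSubgroupA ↥T := by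
    unfold Cfsg.thompsonSubgroupAOf Subgroup.subgroupOf
    exact Subgroup.comap_map_eq_self_of_injective T.subtype_injective _
  rw [h1]
  unfold Cfsg.thompsonSubgroupAOf
  rw [← Cfsg.Agent.Helper10.ZJF.thompsonSubgroupA_map_equiv (MonoidHom.ofInjective hinj), Subgroup.map_map]
  congr 1

end Cfsg.Agent.Helper51.FusWC
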