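/-
helper51: weak closure in saturated fusion systems, part 7: Glauberman's theorem.
If `x ∈ Z(S)` is fixed by `Aut_F(J(S))` and `p` is odd, or `x` is a `p`-th power in `Z(S)`, or `F`
is `S₄`-free, then every map of `F` fixes `x`.
-/
import Mathlib
import Cfsg.Prelude.Def_FusionSystem
import Cfsg.Prelude.Def_FusionReduction
import Cfsg.Agent.Helper51.FusWC6

set_option autoImplicit false

namespace Cfsg.Agent.Helper51.FusWC

open Cfsg Cfsg.FusionSystem Cfsg.Agent.Helper87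

universe u

variable {Ω : Type u} [Group Ω] {S : Subgroup Ω}

theorem mem_normalizerIn_of_mem_center {x : Ω} (hxZ : x ∈ S ⊓ Subgroup.centralizer (S : Set Ω))
    {P : Subgroup Ω} (hPS : P ≤ S) : x ∈ normalizerIn S P :=
  ⟨hxZ.1, Subgroup.centralizer_le_normalizer (P : Set Ω) (Subgroup.centralizer_le hPS hxZ.2)⟩

/-- the local hypothesis of the abstract core for the Thompson subgroup -/
theorem local_J [Finite S] {p : ℕ} [Fact p.Prime] (hS : IsPGroup p S) (F : FusionSystem S)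
    (hF : F.IsSaturated p) (x : Ω) (hxZ : x ∈ S ⊓ Subgroup.centralizer (S : Set Ω))
    (hcond : p ≠ 2 ∨ (∃ z ∈ S ⊓ Subgroup.centralizer (S : Set Ω), z ^ p = x) ∨
      F.IsSectionFree p (Equiv.Perm (Fin 4)))
    (P : Subgroup Ω) (hPc : F.IsCentric P) (hPfn : F.IsFullyNormalized P) (hm : Mover F x P) :
    Mover F x (Cfsg.thompsonSubgroupAOf (normalizerIn S P)) := by
  have hPS : P ≤ S := hPc.1
  obtain ⟨E, hE⟩ := Cfsg.Agent.S5096.result F P hPS
  have hfinT : Finite ↥(normalizerIn S P) := finite_of_le inf_le_left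
  have hEsat := Cfsg.Agent.S5098.result p hS F hF P hPfn E hE
  have hTp : IsPGroup p ↥(normalizerIn S P) := hS.to_le inf_le_left
  have hcon : E.IsConstrained p :=
    ⟨hEsat, P, isNormal_normalizerSystem F hPS E hE, isCentric_normalizerSystem F hPc E hE⟩
  obtain ⟨L, hLg, ι, hmodel⟩ := Cfsg.Agent.S5090.result p hTp E hcon
  have hfree : F.IsSectionFree p (Equiv.Perm (Fin 4)) → ¬ Cfsg.Involves (Equiv.Perm (Fin 4)) L :=
    fun h => h P hPfn hPc E hE L ι hmodel
  obtain ⟨hfin, hreal, ⟨Tsyl, hTsyl⟩, -⟩ := hmodel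
  have hinj := hreal.1
  have hxT : x ∈ normalizerIn S P := mem_normalizerIn_of_mem_center hxZ hPS
  obtain ⟨g, hg1, hg2⟩ := exists_conj_of_mover F hPS E hE ι hreal hxT hm
  have hJT : Cfsg.thompsonSubgroupAOf (normalizerIn S P) ≤ normalizerIn S P := thompsonSubgroupAOf_le _
  have hxJ : x ∈ Cfsg.thompsonSubgroupAOf (normalizerIn S P) := by
    apply center_le_thompsonSubgroupAOf
    exact ⟨hxT, Subgroup.centralizer_le inf_le_left hxZ.2⟩
  have hJeq : Cfsg.thompsonSubgroupAOf (Tsyl : Subgroup L) =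
      ((Cfsg.thompsonSubgroupAOf (normalizerIn S P)).subgroupOf (normalizerIn S P)).map ι := by
    rw [hTsyl]; exact thompsonSubgroupAOf_range ι hinj
  by_contra hnm
  apply hg2
  have hxS : ι ⟨x, hxT⟩ ∈ (Tsyl : Subgroup L) := by rw [hTsyl]; exact ⟨_, rfl⟩
  have hxN : ι ⟨x, hxT⟩ ∈ Subgroup.normalizer ((Cfsg.thompsonSubgroupAOf (Tsyl : Subgroup L)) : Set L) :=
    Cfsg.Agent.Helper51.WCF.S_le_normalizer_J (Tsyl : Subgroup L) hxS
  refine Cfsg.Agent.S2799.result Tsyl (ι ⟨x, hxT⟩) hxS ?_ ?_ g (by rw [hTsyl]; exact hg1)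
  · refine ⟨⟨ι ⟨x, hxT⟩, hxN⟩, Subgroup.mem_center_iff.2 ?_, rfl⟩
    intro n
    by_contra hne
    apply hnm
    refine mover_of_conj F E hE ι hreal hJT hxJ (n : L) ?_ ?_
    · intro y
      rw [← hJeq]
      have hy : ι ⟨y, hJT y.2⟩ ∈ Cfsg.thompsonSubgroupAOf (Tsyl : Subgroup L) := by
        rw [hJeq]
        exact ⟨⟨y, hJT y.2⟩, Subgroup.mem_subgroupOf.2 y.2, rfl⟩
      exact (Subgroup.mem_normalizer_iff.1 n.2 _).1 hy
    · intro hcon
      apply hne
      apply Subtype.ext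
      show (n : L) * ι ⟨x, hxT⟩ = ι ⟨x, hxT⟩ * (n : L)
      calc (n : L) * ι ⟨x, hxT⟩ = (n : L) * ι ⟨x, hxT⟩ * (n : L)⁻¹ * (n : L) := by group
        _ = ι ⟨x, hxT⟩ * (n : L) := by rw [hcon]
  · rcases hcond with h | ⟨z, hz, hzx⟩ | h
    · exact Or.inl h
    · right; left
      have hzT : z ∈ normalizerIn S P := mem_normalizerIn_of_mem_center hz hPS
      refine ⟨ι ⟨z, hzT⟩, ⟨by rw [hTsyl]; exact ⟨_, rfl⟩, Subgroup.mem_centralizer_iff.2 ?_⟩, ?_⟩
      · intro w hw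
        rw [SetLike.mem_coe, hTsyl] at hw
        obtain ⟨w', rfl⟩ := hw
        rw [← map_mul, ← map_mul]
        congr 1
        apply Subtype.ext
        exact Subgroup.mem_centralizer_iff.1 hz.2 _ w'.2.1
      · rw [← map_pow]
        congr 1
        apply Subtype.ext
        exact hzx
    · exact Or.inr (Or.inr (hfree h))

/-- **Glauberman's theorem on weakly closed elements, for saturated fusion systems.** -/
theorem weak_closure_J [Finite S] {p : ℕ} [Fact p.Prime] (hS : IsPGroup p S) (F : FusionSystem S)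
    (hF : F.IsSaturated p) (x : Ω) (hxZ : x ∈ S ⊓ Subgroup.centralizer (S : Set Ω))
    (hcond : p ≠ 2 ∨ (∃ z ∈ S ⊓ Subgroup.centralizer (S : Set Ω), z ^ p = x) ∨
      F.IsSectionFree p (Equiv.Perm (Fin 4)))
    (htop : ¬ Mover F x (Cfsg.thompsonSubgroupAOf S)) :
    ∀ (Q : Subgroup Ω) (φ : Q →* Ω), φ ∈ F.Hom Q → ∀ hxQ : x ∈ Q, φ ⟨x, hxQ⟩ = x :=
  core hS F hF (fun T => Cfsg.thompsonSubgroupAOf T) (fun T _ => thompsonSubgroupAOf_le T)
    (fun T _ => normalizerIn_le_normalizerIn_thompson T) x hxZ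
    (fun P hPc hPfn hm => local_J hS F hF x hxZ hcond P hPc hPfn hm) htop

end Cfsg.Agent.Helper51.FusWC
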