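/-
helper51: weak closure in saturated fusion systems, part 8: centres.
`Z(N_F(J(S)))` versus `Z(F)`.
-/
import Mathlib
import Cfsg.Prelude.Def_FusionSystem
import Cfsg.Prelude.Def_FusionReduction
import Cfsg.Agent.Helper51.FusWC7
import Cfsg.Agent.S5084
import Cfsg.Agent.S5144

set_option autoImplicit false

namespace Cfsg.Agent.Helper51.FusWC

open Cfsg Cfsg.FusionSystem Cfsg.Agent.Helper87

universe u

variable {Ω : Type u} [Group Ω] {S : Subgroup Ω}

/-- elements of the centre of a normalizer system `N_F(J)`, `J` normalized by `S`, are central in `S`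
and fixed by `Aut_F(J)`. -/
theorem center_normalizerSystem_facts [Finite S] (F : FusionSystem S) {J : Subgroup Ω} (hJS : J ≤ S)
    (hSJ : S ≤ Subgroup.normalizer (J : Set Ω)) (N : FusionSystem (normalizerIn S J))
    (hN : F.IsNormalizerSystem J N) {y : Ω} (hy : y ∈ N.center) :
    y ∈ S ⊓ Subgroup.centralizer (S : Set Ω) ∧ ¬ Mover F y J := by
  have hfinN : Finite ↥(normalizerIn S J) := finite_of_le inf_le_left
  have hSN : S ≤ normalizerIn S J := le_inf le_rfl hSJ
  have hZ : N.IsCentral N.center := Cfsg.Agent.S5144.result N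
  refine ⟨⟨(hZ.1 hy).1, Subgroup.mem_centralizer_iff.2 ?_⟩, ?_⟩
  · intro s hs
    obtain ⟨ψ, -, hψ1, hψ2⟩ := hZ.2 N.center (conjHom N.center s) (N.conj_mem hZ.1 (hSN hs))
    have h1 := hψ1 ⟨y, hy⟩
    have h2 := hψ2 ⟨y, hy⟩
    have h3 : (Subgroup.inclusion le_sup_left (⟨y, hy⟩ : N.center) : ↥(N.center ⊔ N.center)) =
        Subgroup.inclusion le_sup_right (⟨y, hy⟩ : N.center) := Subtype.ext rfl
    rw [h3, h2] at h1
    have h4 : y = s * y * s⁻¹ := h1
    calc s * y = s * y * s⁻¹ * s := by group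
      _ = y * s := by rw [← h4]
  · rintro ⟨β, hβ, hyJ, hβy⟩
    have hJN : J ≤ normalizerIn S J := le_normalizerIn_self hJS
    have hβN : IsIso N (β : J ≃* J) := by
      rw [← mem_autGroup_iff N hJN, autGroup_normalizerSystem F hJS N hN, mem_autGroup_iff F hJS]
      exact hβ
    obtain ⟨ψ, -, hψ1, hψ2⟩ := hZ.2 J _ hβN
    have h1 := hψ1 ⟨y, hyJ⟩
    have h2 := hψ2 ⟨y, hy⟩
    have h3 : (Subgroup.inclusion le_sup_left (⟨y, hyJ⟩ : J) : ↥(J ⊔ N.center)) =
        Subgroup.inclusion le_sup_right (⟨y, hy⟩ : N.center) := Subtype.ext rfl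
    rw [h3, h2] at h1
    apply hβy
    apply Subtype.ext
    exact h1.symm

theorem le_normalizer_thompsonSubgroupAOf (T : Subgroup Ω) :
    T ≤ Subgroup.normalizer ((Cfsg.thompsonSubgroupAOf T : Subgroup Ω) : Set Ω) := by
  rw [Cfsg.Agent.Helper51.WC.thompsonSubgroupAOf_eq_JJ]
  exact Subgroup.le_normalizer.trans (Cfsg.Agent.Helper51.WC.normalizer_le_normalizer_JJ T)

/-- elements of `Z(N_F(J(S)))` satisfying Glauberman's condition are central in `F` -/
theorem mem_center_of_mem_center_normalizer [Finite S] {p : ℕ} [Fact p.Prime] (hS : IsPGroup p S)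
    (F : FusionSystem S) (hF : F.IsSaturated p)
    (N : FusionSystem (normalizerIn S (Cfsg.thompsonSubgroupAOf S)))
    (hN : F.IsNormalizerSystem (Cfsg.thompsonSubgroupAOf S) N) {y : Ω} (hy : y ∈ N.center)
    (hcond : p ≠ 2 ∨ (∃ z ∈ S ⊓ Subgroup.centralizer (S : Set Ω), z ^ p = y) ∨
      F.IsSectionFree p (Equiv.Perm (Fin 4))) : y ∈ F.center := by
  have hJS : Cfsg.thompsonSubgroupAOf S ≤ S := thompsonSubgroupAOf_le S
  have hSJ := le_normalizer_thompsonSubgroupAOf S
  have hyS : y ∈ S := (center_normalizerSystem_facts F hJS hSJ N hN hy).1.1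
  have hcentral : F.IsCentral (Subgroup.zpowers y) := by
    rw [Cfsg.Agent.S5084.result p hS F hF]
    refine ⟨by rw [Subgroup.zpowers_le]; exact hyS, ?_⟩
    intro w hw w' hww'
    obtain ⟨k, rfl⟩ := Subgroup.mem_zpowers_iff.1 hw
    have hwN : y ^ k ∈ N.center := Subgroup.zpow_mem _ hy k
    obtain ⟨hwZ, hwtop⟩ := center_normalizerSystem_facts F hJS hSJ N hN hwN
    have hwcond : p ≠ 2 ∨ (∃ z ∈ S ⊓ Subgroup.centralizer (S : Set Ω), z ^ p = y ^ k) ∨
        F.IsSectionFree p (Equiv.Perm (Fin 4)) := by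
      rcases hcond with h | ⟨z, hz, hzy⟩ | h
      · exact Or.inl h
      · refine Or.inr (Or.inl ⟨z ^ k, Subgroup.zpow_mem _ hz k, ?_⟩)
        rw [← hzy, ← zpow_natCast, ← zpow_natCast, ← zpow_mul, ← zpow_mul, mul_comm]
      · exact Or.inr (Or.inr h)
    obtain ⟨φ, hφ, hφw⟩ := hww'
    rw [← hφw]
    exact weak_closure_J hS F hF (y ^ k) hwZ hwcond hwtop _ φ hφ (Subgroup.mem_zpowers _)
  have hle : Subgroup.zpowers y ≤ F.center := le_sSup hcentral
  exact hle (Subgroup.mem_zpowers y)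

/-- `Z(F) ≤ Z(N_F(J))` for `J` normalized by `S`. -/
theorem center_le_center_normalizer [Finite S] {p : ℕ} [Fact p.Prime] (hS : IsPGroup p S)
    (F : FusionSystem S) (hF : F.IsSaturated p) {J : Subgroup Ω} (hJS : J ≤ S)
    (hSJ : S ≤ Subgroup.normalizer (J : Set Ω)) (N : FusionSystem (normalizerIn S J))
    (hN : F.IsNormalizerSystem J N) : F.center ≤ N.center := by
  have hfinN : Finite ↥(normalizerIn S J) := finite_of_le inf_le_left
  have hSN : S ≤ normalizerIn S J := le_inf le_rfl hSJ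
  have hJfn : F.IsFullyNormalized J :=
    ⟨hJS, fun Q _ => Subgroup.card_le_of_le (inf_le_left.trans hSN)⟩
  have hNsat := Cfsg.Agent.S5098.result p hS F hF J hJfn N hN
  have hNp : IsPGroup p ↥(normalizerIn S J) := hS.to_le inf_le_left
  have hZF : F.IsCentral F.center := Cfsg.Agent.S5144.result F
  obtain ⟨hle, hall⟩ := (Cfsg.Agent.S5084.result p hS F hF F.center).1 hZF
  have hcentral : N.IsCentral F.center := by
    rw [Cfsg.Agent.S5084.result p hNp N hNsat]
    refine ⟨hle.trans hSN, fun x hx y hxy => ?_⟩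
    obtain ⟨φ, hφ, hφx⟩ := hxy
    rw [hN] at hφ
    exact hall x hx y ⟨φ, hφ.1, hφx⟩
  exact le_sSup hcentral

end Cfsg.Agent.Helper51.FusWC
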