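/-
helper51: weak closure in saturated fusion systems, part 9: positive characteristic functors
satisfying the local centre condition control weak closure of elements.
-/
import Mathlib
import Cfsg.Prelude.Def_FusionSystem
import Cfsg.Prelude.Def_FusionReduction
import Cfsg.Agent.Helper51.FusWC8
import Cfsg.Agent.Lib.Cores

set_option autoImplicit false

namespace Cfsg.Agent.Helper51.FusWC

open Cfsg Cfsg.FusionSystem Cfsg.Agent.Helper87

universe u

/-- the value of a functor on a subgroup, as a subgroup of the ambient group -/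
abbrev Wf (W : ∀ (Q : Type u) [Group Q], Subgroup Q) {Ω : Type u} [Group Ω] (T : Subgroup Ω) :
    Subgroup Ω :=
  (W ↥T).map T.subtype

section functor

variable (W : ∀ (Q : Type u) [Group Q], Subgroup Q) {p : ℕ}
  (hW2 : ∀ (Q R : Type u) [Group Q] [Group R] [Finite Q], IsPGroup p Q → ∀ φ : Q ≃* R,
    (W Q).map φ.toMonoidHom = W R)

theorem Wf_le {Ω : Type u} [Group Ω] (T : Subgroup Ω) : Wf W T ≤ T := Subgroup.map_subtype_le _

include hW2 in
theorem conj_mem_Wf {Ω : Type u} [Group Ω] (T : Subgroup Ω) [Finite T] (hT : IsPGroup p T) {g : Ω}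
    (hg : g ∈ Subgroup.normalizer (T : Set Ω)) {y : Ω} (hy : y ∈ Wf W T) :
    g * y * g⁻¹ ∈ Wf W T := by
  obtain ⟨y', hy', rfl⟩ := hy
  have h := hW2 ↥T ↥T hT (conjAut T g hg)
  refine ⟨conjAut T g hg y', ?_, rfl⟩
  rw [← h]
  exact ⟨y', hy', rfl⟩

include hW2 in
theorem normalizer_le_normalizer_Wf {Ω : Type u} [Group Ω] (T : Subgroup Ω) [Finite T]
    (hT : IsPGroup p T) :
    Subgroup.normalizer (T : Set Ω) ≤ Subgroup.normalizer ((Wf W T : Subgroup Ω) : Set Ω) := by
  intro g hg
  apply mem_normalizer_of_conj_mem_of_inv_conj_mem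
  · intro y hy; exact conj_mem_Wf W hW2 T hT hg hy
  · intro y hy
    have := conj_mem_Wf W hW2 T hT (Subgroup.inv_mem _ hg) hy
    rwa [inv_inv] at this

include hW2 in
theorem Wf_range {Ω L : Type u} [Group Ω] [Group L] (T : Subgroup Ω) [Finite T] (hT : IsPGroup p T)
    (ι : ↥T →* L) (hinj : Function.Injective ι) :
    Wf W ι.range = ((Wf W T).subgroupOf T).map ι := by
  have h1 : (Wf W T).subgroupOf T = W ↥T :=
    Subgroup.comap_map_eq_self_of_injective (Subgroup.subtype_injective T) _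
  rw [h1]
  have h2 := hW2 ↥T ↥ι.range hT (MonoidHom.ofInjective hinj)
  show (W ↥ι.range).map ι.range.subtype = _
  rw [← h2, Subgroup.map_map]
  rfl

end functor

variable {Ω : Type u} [Group Ω] {S : Subgroup Ω}

/-- the local hypothesis of the abstract core for a functor satisfying the local centre condition -/
theorem local_W [Finite S] {p : ℕ} [Fact p.Prime] (W : ∀ (Q : Type u) [Group Q], Subgroup Q)
    (hW2 : ∀ (Q R : Type u) [Group Q] [Group R] [Finite Q], IsPGroup p Q → ∀ φ : Q ≃* R,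
      (W Q).map φ.toMonoidHom = W R)
    (hWZ : ∀ (Q : Type u) [Group Q] [Finite Q], IsPGroup p Q → Subgroup.center Q ≤ W Q)
    (hC : ∀ (G : Type u) [Group G] [Finite G] (P : Sylow p G),
      Cfsg.pCore p G ⊓ Subgroup.center G = Cfsg.pCore p G ⊓
        (Subgroup.center ↥(Subgroup.normalizer (((W ↥(P : Subgroup G)).map
          (P : Subgroup G).subtype : Subgroup G) : Set G))).map
          (Subgroup.normalizer (((W ↥(P : Subgroup G)).map
            (P : Subgroup G).subtype : Subgroup G) : Set G)).subtype)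
    (hS : IsPGroup p S) (F : FusionSystem S)
    (hF : F.IsSaturated p) (x : Ω) (hxZ : x ∈ S ⊓ Subgroup.centralizer (S : Set Ω))
    (P : Subgroup Ω) (hPc : F.IsCentric P) (hPfn : F.IsFullyNormalized P) (hm : Mover F x P) :
    Mover F x (Wf W (normalizerIn S P)) := by
  have hPS : P ≤ S := hPc.1
  obtain ⟨E, hE⟩ := Cfsg.Agent.S5096.result F P hPS
  have hfinT : Finite ↥(normalizerIn S P) := finite_of_le inf_le_left
  have hEsat := Cfsg.Agent.S5098.result p hS F hF P hPfn E hE
  have hTp : IsPGroup p ↥(normalizerIn S P) := hS.to_le inf_le_left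
  have hcon : E.IsConstrained p :=
    ⟨hEsat, P, isNormal_normalizerSystem F hPS E hE, isCentric_normalizerSystem F hPc E hE⟩
  obtain ⟨L, hLg, ι, hmodel⟩ := Cfsg.Agent.S5090.result p hTp E hcon
  obtain ⟨hfin, hreal, ⟨Tsyl, hTsyl⟩, hCL⟩ := hmodel
  have hinj := hreal.1
  have hxT : x ∈ normalizerIn S P := mem_normalizerIn_of_mem_center hxZ hPS
  obtain ⟨g, hg1, hg2⟩ := exists_conj_of_mover F hPS E hE ι hreal hxT hm
  have hWT : Wf W (normalizerIn S P) ≤ normalizerIn S P := Wf_le W _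
  have hxW : x ∈ Wf W (normalizerIn S P) := by
    refine ⟨⟨x, hxT⟩, hWZ _ hTp (Subgroup.mem_center_iff.2 ?_), rfl⟩
    intro t
    apply Subtype.ext
    exact Subgroup.mem_centralizer_iff.1 hxZ.2 _ t.2.1
  have hWeq : Wf W (Tsyl : Subgroup L) =
      ((Wf W (normalizerIn S P)).subgroupOf (normalizerIn S P)).map ι := by
    rw [hTsyl]; exact Wf_range W hW2 _ hTp ι hinj
  by_contra hnm
  apply hg2
  have hxS : ι ⟨x, hxT⟩ ∈ (Tsyl : Subgroup L) := by rw [hTsyl]; exact ⟨_, rfl⟩
  have hxN : ι ⟨x, hxT⟩ ∈ Subgroup.normalizer ((Wf W (Tsyl : Subgroup L) : Subgroup L) : Set L) :=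
    normalizer_le_normalizer_Wf W hW2 (Tsyl : Subgroup L) Tsyl.2 (Subgroup.le_normalizer hxS)
  -- the image of `x` lies in `O_p(L)`
  have hxcore : ι ⟨x, hxT⟩ ∈ Cfsg.pCore p L := by
    apply hCL
    refine Subgroup.mem_centralizer_iff.2 ?_
    intro w hw
    have hw' : w ∈ (Tsyl : Subgroup L) := Cfsg.Agent.Lib.pCore_le_sylow Tsyl hw
    rw [hTsyl] at hw'
    obtain ⟨w', rfl⟩ := hw'
    rw [← map_mul, ← map_mul]
    congr 1
    apply Subtype.ext
    exact Subgroup.mem_centralizer_iff.1 hxZ.2 _ w'.2.1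
  -- and in the centre of the normalizer of `W`
  have hxZN : ι ⟨x, hxT⟩ ∈ Cfsg.pCore p L ⊓
      (Subgroup.center ↥(Subgroup.normalizer (((W ↥(Tsyl : Subgroup L)).map
          (Tsyl : Subgroup L).subtype : Subgroup L) : Set L))).map
          (Subgroup.normalizer (((W ↥(Tsyl : Subgroup L)).map
            (Tsyl : Subgroup L).subtype : Subgroup L) : Set L)).subtype := by
    refine ⟨hxcore, ⟨ι ⟨x, hxT⟩, hxN⟩, Subgroup.mem_center_iff.2 ?_, rfl⟩
    intro n
    by_contra hne
    apply hnm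
    refine mover_of_conj F E hE ι hreal hWT hxW (n : L) ?_ ?_
    · intro y
      rw [← hWeq]
      have hy : ι ⟨y, hWT y.2⟩ ∈ Wf W (Tsyl : Subgroup L) := by
        rw [hWeq]
        exact ⟨⟨y, hWT y.2⟩, Subgroup.mem_subgroupOf.2 y.2, rfl⟩
      exact (Subgroup.mem_normalizer_iff.1 n.2 _).1 hy
    · intro hcon
      apply hne
      apply Subtype.ext
      show (n : L) * ι ⟨x, hxT⟩ = ι ⟨x, hxT⟩ * (n : L)
      calc (n : L) * ι ⟨x, hxT⟩ = (n : L) * ι ⟨x, hxT⟩ * (n : L)⁻¹ * (n : L) := by group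
        _ = ι ⟨x, hxT⟩ * (n : L) := by rw [hcon]
  rw [← hC L Tsyl] at hxZN
  have hc := Subgroup.mem_center_iff.1 hxZN.2 g
  calc g * ι ⟨x, hxT⟩ * g⁻¹ = ι ⟨x, hxT⟩ * g * g⁻¹ := by rw [hc]
    _ = ι ⟨x, hxT⟩ := by group

/-- a functor satisfying the local centre condition controls weak closure of elements -/
theorem center_eq_of_functor [Finite S] {p : ℕ} [Fact p.Prime]
    (W : ∀ (Q : Type u) [Group Q], Subgroup Q)
    (hW2 : ∀ (Q R : Type u) [Group Q] [Group R] [Finite Q], IsPGroup p Q → ∀ φ : Q ≃* R,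
      (W Q).map φ.toMonoidHom = W R)
    (hWZ : ∀ (Q : Type u) [Group Q] [Finite Q], IsPGroup p Q → Subgroup.center Q ≤ W Q)
    (hC : ∀ (G : Type u) [Group G] [Finite G] (P : Sylow p G),
      Cfsg.pCore p G ⊓ Subgroup.center G = Cfsg.pCore p G ⊓
        (Subgroup.center ↥(Subgroup.normalizer (((W ↥(P : Subgroup G)).map
          (P : Subgroup G).subtype : Subgroup G) : Set G))).map
          (Subgroup.normalizer (((W ↥(P : Subgroup G)).map
            (P : Subgroup G).subtype : Subgroup G) : Set G)).subtype)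
    (hS : IsPGroup p S) (F : FusionSystem S) (hF : F.IsSaturated p)
    (N : FusionSystem (normalizerIn S (Wf W S)))
    (hN : F.IsNormalizerSystem (Wf W S) N) : N.center = F.center := by
  have hJS : Wf W S ≤ S := Wf_le W S
  have hSJ : S ≤ Subgroup.normalizer ((Wf W S : Subgroup Ω) : Set Ω) :=
    Subgroup.le_normalizer.trans (normalizer_le_normalizer_Wf W hW2 S hS)
  apply le_antisymm
  · intro y hy
    have hyS : y ∈ S := (center_normalizerSystem_facts F hJS hSJ N hN hy).1.1
    have hcentral : F.IsCentral (Subgroup.zpowers y) := by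
      rw [Cfsg.Agent.S5084.result p hS F hF]
      refine ⟨by rw [Subgroup.zpowers_le]; exact hyS, ?_⟩
      intro w hw w' hww'
      obtain ⟨k, rfl⟩ := Subgroup.mem_zpowers_iff.1 hw
      have hwN : y ^ k ∈ N.center := Subgroup.zpow_mem _ hy k
      obtain ⟨hwZ, hwtop⟩ := center_normalizerSystem_facts F hJS hSJ N hN hwN
      obtain ⟨φ, hφ, hφw⟩ := hww'
      rw [← hφw]
      refine core hS F hF (fun T => Wf W T) (fun T _ => Wf_le W T) ?_ (y ^ k) hwZ
        (fun P hPc hPfn hm => local_W W hW2 hWZ hC hS F hF (y ^ k) hwZ P hPc hPfn hm) hwtop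
        _ φ hφ (Subgroup.mem_zpowers _)
      intro T hT
      have hfinT : Finite ↥T := finite_of_le hT
      exact inf_le_inf_left S (normalizer_le_normalizer_Wf W hW2 T (hS.to_le hT))
    have hle : Subgroup.zpowers y ≤ F.center := le_sSup hcentral
    exact hle (Subgroup.mem_zpowers y)
  · exact center_le_center_normalizer hS F hF hJS hSJ N hN

end Cfsg.Agent.Helper51.FusWC
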