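/-
helper51: quadratic elements and `p`-th powers, part 2: a Frattini-type lemma.
If every proper subgroup containing the Sylow subgroup `T` lies in the proper subgroup `M`, and
`K ≤ M` is normal in `L`, then `K ∩ T ≤ O_p(L)`.
-/
import Mathlib
import Cfsg.Agent.Lib.Cores

set_option autoImplicit false

namespace Cfsg.Agent.Helper51.QuadPow

open Cfsg

variable {L : Type*} [Group L]

theorem inf_le_pCore_of_unique_max {p : ℕ} [Fact p.Prime] [Finite L] (T : Sylow p L)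
    (M : Subgroup L) (hM : M ≠ ⊤)
    (hover : ∀ H : Subgroup L, (T : Subgroup L) ≤ H → H ≠ ⊤ → H ≤ M)
    (K : Subgroup L) [hK : K.Normal] (hKM : K ≤ M) :
    K ⊓ (T : Subgroup L) ≤ Cfsg.pCore p L := by
  -- a Sylow subgroup of `K` inside a Sylow subgroup `T'` of `L`
  obtain ⟨P₁⟩ := (inferInstance : Nonempty (Sylow p ↥K))
  have hP₁p : IsPGroup p ((P₁ : Subgroup ↥K).map K.subtype) := P₁.2.map _
  obtain ⟨T', hT'⟩ := hP₁p.exists_le_sylow
  obtain ⟨h, hh⟩ := MulAction.exists_smul_eq L T' T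
  -- conjugate it into `T`
  set P : Sylow p ↥K := (MulAut.conjNormal h : MulAut K) • P₁ with hP
  have hPT : (P : Subgroup ↥K).map K.subtype ≤ (T : Subgroup L) := by
    rintro _ ⟨y, hy, rfl⟩
    rw [hP, Sylow.pointwise_smul_def, Subgroup.pointwise_smul_def] at hy
    obtain ⟨y₁, hy₁, rfl⟩ := hy
    have h1 : ((y₁ : ↥K) : L) ∈ (T' : Subgroup L) := hT' ⟨y₁, hy₁, rfl⟩
    have h2 : h * ((y₁ : ↥K) : L) * h⁻¹ ∈ (T : Subgroup L) := by
      rw [← hh]
      show h * ((y₁ : ↥K) : L) * h⁻¹ ∈ ((h • T' : Sylow p L) : Subgroup L)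
      rw [Sylow.smul_def, Sylow.pointwise_smul_def, Subgroup.pointwise_smul_def]
      exact ⟨_, h1, rfl⟩
    exact h2
  -- its image is `K ∩ T`
  have hPeq : (P : Subgroup ↥K).map K.subtype = K ⊓ (T : Subgroup L) := by
    apply le_antisymm (le_inf (Subgroup.map_subtype_le _) hPT)
    have h1 : IsPGroup p ((K ⊓ (T : Subgroup L)).subgroupOf K) :=
      (T.2.to_le inf_le_right).comap_subtype
    have h2 : (P : Subgroup ↥K) ≤ (K ⊓ (T : Subgroup L)).subgroupOf K := fun y hy =>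
      Subgroup.mem_subgroupOf.2 ⟨y.2, hPT ⟨y, hy, rfl⟩⟩
    have h3 := P.is_maximal' h1 h2
    intro y hy
    have : (⟨y, hy.1⟩ : ↥K) ∈ (P : Subgroup ↥K) := by
      rw [← h3]; exact Subgroup.mem_subgroupOf.2 hy
    exact ⟨⟨y, hy.1⟩, this, rfl⟩
  -- `T` normalizes it
  have hTN : (T : Subgroup L) ≤ Subgroup.normalizer (((P : Subgroup ↥K).map K.subtype : Subgroup L) : Set L) := by
    rw [hPeq]
    intro t ht
    have key : ∀ s ∈ (T : Subgroup L), ∀ y ∈ K ⊓ (T : Subgroup L), s * y * s⁻¹ ∈ K ⊓ (T : Subgroup L) :=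
      fun s hs y hy => ⟨hK.conj_mem y hy.1 s,
        Subgroup.mul_mem _ (Subgroup.mul_mem _ hs hy.2) (Subgroup.inv_mem _ hs)⟩
    rw [Subgroup.mem_normalizer_iff]
    intro y
    refine ⟨key t ht y, fun hy => ?_⟩
    have := key t⁻¹ (Subgroup.inv_mem _ ht) _ hy
    have e : t⁻¹ * (t * y * t⁻¹) * t⁻¹⁻¹ = y := by group
    rwa [e] at this
  have hfr := Sylow.normalizer_sup_eq_top P
  by_cases hX : Subgroup.normalizer (((P : Subgroup ↥K).map K.subtype : Subgroup L) : Set L) = ⊤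
  · rw [← hPeq]
    exact Cfsg.Agent.Lib.le_pCore (Subgroup.normalizer_eq_top_iff.1 hX) (P.2.map _)
  · exfalso
    apply hM
    rw [eq_top_iff, ← hfr]
    exact sup_le (hover _ hTN hX) hKM

end Cfsg.Agent.Helper51.QuadPow
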