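/-
helper51: quadratic elements and `p`-th powers, part 3: the group lemma.
`W` a functor on finite `p`-groups such that in every finite group in which `W(T)` (`T` Sylow) is not
normal some `g ∈ T \ O_p` is quadratic on `Z(O_p)`.  If `z ∈ Z(T) ∩ O_p(L)` and `N_L(W(T))`
centralizes `z ^ p`, then `z ^ p` is central in `L`.
-/
import Mathlib
import Cfsg.Agent.Lib.Cores
import Cfsg.Agent.Helper51.Dedekind
import Cfsg.Agent.Helper51.FusWC9
import Cfsg.Agent.Helper51.QuadPow2

set_option autoImplicit false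

namespace Cfsg.Agent.Helper51.QuadPow

open Cfsg Cfsg.Agent.Helper51.FusWC Cfsg.Agent.Helper51 Cfsg.Agent.Helper87
open scoped commutatorElement

universe u

section zcore

variable {L : Type u} [Group L]

/-- `Z(O_p(L))` as a subgroup of `L` -/
abbrev zCore (p : ℕ) (L : Type u) [Group L] : Subgroup L :=
  (Subgroup.center ↥(Cfsg.pCore p L)).map (Cfsg.pCore p L).subtype

theorem mem_zCore_iff {p : ℕ} {v : L} :
    v ∈ zCore p L ↔ v ∈ Cfsg.pCore p L ∧ ∀ q ∈ Cfsg.pCore p L, q * v = v * q := by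
  constructor
  · rintro ⟨w, hw, rfl⟩
    exact ⟨w.2, fun q hq => congrArg Subtype.val (Subgroup.mem_center_iff.1 hw ⟨q, hq⟩)⟩
  · rintro ⟨hv, h⟩
    exact ⟨⟨v, hv⟩, Subgroup.mem_center_iff.2 (fun q => Subtype.ext (h q q.2)), rfl⟩

theorem pCore_normal (p : ℕ) : (Cfsg.pCore p L).Normal :=
  haveI := Cfsg.Agent.Lib.pCore_characteristic (G := L) p
  Subgroup.normal_of_characteristic _

theorem conj_mem_zCore {p : ℕ} {v : L} (hv : v ∈ zCore p L) (h : L) : h * v * h⁻¹ ∈ zCore p L := by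
  have hn := pCore_normal (L := L) p
  rw [mem_zCore_iff] at hv ⊢
  refine ⟨hn.conj_mem v hv.1 h, fun q hq => ?_⟩
  have hq' : h⁻¹ * q * h ∈ Cfsg.pCore p L := by
    have := hn.conj_mem q hq h⁻¹
    rwa [inv_inv] at this
  have hc := hv.2 _ hq'
  calc q * (h * v * h⁻¹) = h * ((h⁻¹ * q * h) * v) * h⁻¹ := by group
    _ = h * (v * (h⁻¹ * q * h)) * h⁻¹ := by rw [hc]
    _ = h * v * h⁻¹ * q := by group

end zcore

section functor

variable (W : ∀ (Q : Type u) [Group Q], Subgroup Q) {p : ℕ}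
  (hW2 : ∀ (Q R : Type u) [Group Q] [Group R] [Finite Q], IsPGroup p Q → ∀ φ : Q ≃* R,
    (W Q).map φ.toMonoidHom = W R)

include hW2 in
/-- functoriality of `Wf` along an injective homomorphism -/
theorem Wf_map {A B : Type u} [Group A] [Group B] (T₀ : Subgroup A) [Finite T₀] (hT₀ : IsPGroup p T₀)
    (f : A →* B) (hf : Function.Injective f) : (Wf W T₀).map f = Wf W (T₀.map f) := by
  have h2 := hW2 ↥T₀ ↥(T₀.map f) hT₀ (T₀.equivMapOfInjective f hf)
  show ((W ↥T₀).map T₀.subtype).map f = (W ↥(T₀.map f)).map (T₀.map f).subtype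
  rw [← h2, Subgroup.map_map, Subgroup.map_map]
  rfl

include hW2 in
/-- **the group lemma** -/
theorem pow_central [Fact p.Prime]
    (hq : ∀ (G : Type u) [Group G] [Finite G] (P : Sylow p G),
      ¬ (((W ↥(P : Subgroup G)).map (P : Subgroup G).subtype : Subgroup G)).Normal →
      ∃ g : G, g ∈ (P : Subgroup G) ∧ g ∉ Cfsg.pCore p G ∧
        ⁅⁅Subgroup.center ↥(Cfsg.pCore p G) |>.map (Cfsg.pCore p G).subtype, Subgroup.zpowers g⁆,
          Subgroup.zpowers g⁆ = ⊥) :
    ∀ (n : ℕ) (L : Type u) [Group L] [Finite L] (T : Sylow p L), Nat.card L = n →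
      ∀ z : L, z ∈ (T : Subgroup L) → (∀ t ∈ (T : Subgroup L), t * z = z * t) →
        z ∈ Cfsg.pCore p L →
        (∀ m ∈ Subgroup.normalizer ((Wf W (T : Subgroup L) : Subgroup L) : Set L),
          m * z ^ p = z ^ p * m) →
        ∀ g : L, g * z ^ p = z ^ p * g := by
  intro n
  induction n using Nat.strong_induction_on with
  | _ n ih =>
  intro L _ _ T hn z hzT hzZ hzQ hN
  by_contra hcon
  have hpp : p.Prime := Fact.out
  -- (1) proper subgroups containing `T` centralize `z ^ p`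
  have hover : ∀ H : Subgroup L, (T : Subgroup L) ≤ H → H ≠ ⊤ →
      H ≤ Subgroup.centralizer {z ^ p} := by
    intro H hTH hH h hh
    have hcard : Nat.card H < n := by
      have := card_lt_card_of_lt (lt_top_iff_ne_top.2 hH)
      rwa [Subgroup.card_top, hn] at this
    have hT' : ((T.subtype hTH : Sylow p ↥H) : Subgroup ↥H) = (T : Subgroup L).subgroupOf H :=
      Sylow.coe_subtype T hTH
    have hmap : (Wf W ((T.subtype hTH : Sylow p ↥H) : Subgroup ↥H)).map H.subtype =
        Wf W (T : Subgroup L) := by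
      rw [Wf_map W hW2 _ (T.subtype hTH).2 H.subtype H.subtype_injective]
      have : ((T.subtype hTH : Sylow p ↥H) : Subgroup ↥H).map H.subtype = (T : Subgroup L) := by
        rw [hT', Subgroup.subgroupOf_map_subtype]; exact inf_eq_left.2 hTH
      rw [this]
    have key := ih (Nat.card H) hcard ↥H (T.subtype hTH) rfl ⟨z, hTH hzT⟩ ?_ ?_ ?_ ?_ ⟨h, hh⟩
    · rw [Subgroup.mem_centralizer_iff]
      intro y hy
      rw [Set.mem_singleton_iff] at hy
      rw [hy]
      have := congrArg Subtype.val key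
      simpa using this.symm
    · rw [hT']; exact Subgroup.mem_subgroupOf.2 hzT
    · intro t ht
      rw [hT'] at ht
      exact Subtype.ext (hzZ t (Subgroup.mem_subgroupOf.1 ht))
    · have hle : (Cfsg.pCore p L).subgroupOf H ≤ Cfsg.pCore p ↥H := by
        haveI := pCore_normal (L := L) p
        exact Cfsg.Agent.Lib.le_pCore inferInstance
          ((Cfsg.Agent.Lib.isPGroup_pCore (G := L) p).comap_subtype)
      exact hle (Subgroup.mem_subgroupOf.2 hzQ)
    · intro m hm
      have hm' : (m : L) ∈ Subgroup.normalizer ((Wf W (T : Subgroup L) : Subgroup L) : Set L) := by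
        rw [← hmap]
        exact Subgroup.le_normalizer_map H.subtype ⟨m, hm, rfl⟩
      have := hN (m : L) hm'
      apply Subtype.ext
      simpa using this
  -- (2) `W(T)` is not normal
  have hnn : ¬ (Wf W (T : Subgroup L)).Normal := by
    intro hnorm
    apply hcon
    intro g
    exact hN g (by rw [Subgroup.normalizer_eq_top_iff.2 hnorm]; trivial)
  -- (3) a quadratic element of minimal order
  obtain ⟨g₀, hg₀T, hg₀Q, hg₀quad⟩ := hq L T hnn
  have hex : ∃ g : L, g ∈ (T : Subgroup L) ∧ g ∉ Cfsg.pCore p L ∧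
      ∀ v ∈ zCore p L, Commute ⁅v, g⁆ g := by
    refine ⟨g₀, hg₀T, hg₀Q, fun v hv => ?_⟩
    rw [← commutatorElement_eq_one_iff_commute]
    have h1 : ⁅v, g₀⁆ ∈ ⁅zCore p L, Subgroup.zpowers g₀⁆ :=
      Subgroup.commutator_mem_commutator hv (Subgroup.mem_zpowers g₀)
    have h2 : ⁅⁅v, g₀⁆, g₀⁆ ∈ ⁅⁅zCore p L, Subgroup.zpowers g₀⁆, Subgroup.zpowers g₀⁆ :=
      Subgroup.commutator_mem_commutator h1 (Subgroup.mem_zpowers g₀)
    rw [hg₀quad] at h2
    exact Subgroup.mem_bot.1 h2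
  obtain ⟨g, ⟨hgT, hgQ, hgquad⟩, hmin⟩ := WellFounded.has_min (measure (fun g : L => orderOf g)).wf
    {g : L | g ∈ (T : Subgroup L) ∧ g ∉ Cfsg.pCore p L ∧ ∀ v ∈ zCore p L, Commute ⁅v, g⁆ g} hex
  -- elements of `Z(O_p(L))` commute with each other and with `⁅v, g⁆`
  have hcv : ∀ v ∈ zCore p L, ∀ k : L, Commute ⁅v, k⁆ v := by
    intro v hv k
    have h1 : ⁅v, k⁆ ∈ zCore p L := by
      have e : ⁅v, k⁆ = v * (k * v⁻¹ * k⁻¹) := by rw [commutatorElement_def]; group
      rw [e]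
      exact Subgroup.mul_mem _ hv (conj_mem_zCore (Subgroup.inv_mem _ hv) k)
    exact ((mem_zCore_iff.1 h1).2 v (mem_zCore_iff.1 hv).1).symm
  -- (4) `g ^ p ∈ O_p(L)`
  have hgp : g ^ p ∈ Cfsg.pCore p L := by
    by_contra hnot
    apply hmin (g ^ p) ⟨Subgroup.pow_mem _ hgT p, hnot, fun v hv => ?_⟩
    · show orderOf (g ^ p) < orderOf g
      obtain ⟨k, hk⟩ := (IsPGroup.iff_orderOf.1 T.2) ⟨g, hgT⟩
      rw [Subgroup.orderOf_mk] at hk
      have hk0 : k ≠ 0 := by
        rintro rfl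
        rw [pow_zero, orderOf_eq_one_iff] at hk
        exact hgQ (hk ▸ Subgroup.one_mem _)
      rw [orderOf_pow' g hpp.ne_zero, hk, Nat.gcd_eq_right (dvd_pow_self p hk0)]
      exact Nat.div_lt_self (pow_pos hpp.pos k) hpp.one_lt
    · rw [comm_pow_right_of_commute (hgquad v hv) p]
      exact (hgquad v hv).pow_pow p p
  -- (5) `z ∈ Z(O_p(L))`
  have hzZQ : z ∈ zCore p L :=
    mem_zCore_iff.2 ⟨hzQ, fun q hq => hzZ q (Cfsg.Agent.Lib.pCore_le_sylow T hq)⟩
  -- (6) `g` centralizes all conjugates of `z ^ p`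
  have hgK : g ∈ (Subgroup.centralizer {z ^ p}).normalCore := by
    rw [Subgroup.normalCore, Subgroup.mem_mk]
    intro b
    show b * g * b⁻¹ ∈ Subgroup.centralizer {z ^ p}
    rw [Subgroup.mem_centralizer_iff]
    intro y hy
    rw [Set.mem_singleton_iff] at hy
    rw [hy]
    -- v := b⁻¹ z b
    have hv : b⁻¹ * z * b ∈ zCore p L := by
      have := conj_mem_zCore hzZQ b⁻¹
      rwa [inv_inv] at this
    have hvp : (b⁻¹ * z * b) ^ p = b⁻¹ * z ^ p * b := by
      have := conj_pow (a := b⁻¹) (b := z) (i := p)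
      rwa [inv_inv] at this
    have hc1 := hgquad _ hv
    have hc2 := hcv _ hv g
    have h1 : ⁅b⁻¹ * z * b, g ^ p⁆ = 1 := by
      rw [commutatorElement_eq_one_iff_commute]
      exact ((mem_zCore_iff.1 hv).2 _ hgp).symm
    have h2 : ⁅(b⁻¹ * z * b) ^ p, g⁆ = 1 := by
      rw [comm_pow_left_of_commute hc2, ← comm_pow_right_of_commute hc1, h1]
    rw [commutatorElement_eq_one_iff_commute, hvp] at h2
    have h3 : b⁻¹ * z ^ p * b * g = g * (b⁻¹ * z ^ p * b) := h2.eq
    calc z ^ p * (b * g * b⁻¹) = b * (b⁻¹ * z ^ p * b * g) * b⁻¹ := by group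
      _ = b * (g * (b⁻¹ * z ^ p * b)) * b⁻¹ := by rw [h3]
      _ = b * g * b⁻¹ * z ^ p := by group
  -- (7) Frattini
  have hM : Subgroup.centralizer {z ^ p} ≠ (⊤ : Subgroup L) := by
    intro htop
    apply hcon
    intro g'
    have : g' ∈ Subgroup.centralizer {z ^ p} := by rw [htop]; trivial
    exact (Subgroup.mem_centralizer_iff.1 this (z ^ p) rfl).symm
  have := inf_le_pCore_of_unique_max T _ hM hover (Subgroup.centralizer {z ^ p}).normalCore
    (Subgroup.normalCore_le _) ⟨hgK, hgT⟩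
  exact hgQ this

end functor

end Cfsg.Agent.Helper51.QuadPow
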