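/-
helper51: weak closure in saturated fusion systems, part 10: functors with the quadratic element
condition control the `p`-th powers of the elements of `Z(S)`.
-/
import Mathlib
import Cfsg.Prelude.Def_FusionSystem
import Cfsg.Prelude.Def_FusionReduction
import Cfsg.Agent.Helper51.FusWC9
import Cfsg.Agent.Helper51.QuadPow3

set_option autoImplicit false

namespace Cfsg.Agent.Helper51.FusWC

open Cfsg Cfsg.FusionSystem Cfsg.Agent.Helper87

universe u

variable {Ω : Type u} [Group Ω] {S : Subgroup Ω}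

/-- the elements of the subgroup generated by the `p`-th powers of the elements of `Z(S)` are
`p`-th powers of elements of `Z(S)` -/
theorem exists_pow_eq_of_mem_closure (p : ℕ) {w : Ω}
    (hw : w ∈ Subgroup.closure ((fun z : Ω => z ^ p) ''
      ((S ⊓ Subgroup.centralizer (S : Set Ω) : Subgroup Ω) : Set Ω))) :
    ∃ z ∈ S ⊓ Subgroup.centralizer (S : Set Ω), z ^ p = w := by
  induction hw using Subgroup.closure_induction with
  | mem w hw =>
    obtain ⟨z, hz, rfl⟩ := hw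
    exact ⟨z, hz, rfl⟩
  | one => exact ⟨1, Subgroup.one_mem _, one_pow p⟩
  | mul a b _ _ ha hb =>
    obtain ⟨z₁, hz₁, rfl⟩ := ha
    obtain ⟨z₂, hz₂, rfl⟩ := hb
    refine ⟨z₁ * z₂, Subgroup.mul_mem _ hz₁ hz₂, ?_⟩
    have hc : Commute z₁ z₂ := (Subgroup.mem_centralizer_iff.1 hz₂.2 z₁ hz₁.1)
    exact hc.mul_pow p
  | inv a _ ha =>
    obtain ⟨z, hz, rfl⟩ := ha
    exact ⟨z⁻¹, Subgroup.inv_mem _ hz, inv_pow z p⟩

/-- the local hypothesis of the abstract core for a functor with the quadratic element condition -/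
theorem local_Wq [Finite S] {p : ℕ} [Fact p.Prime] (W : ∀ (Q : Type u) [Group Q], Subgroup Q)
    (hW2 : ∀ (Q R : Type u) [Group Q] [Group R] [Finite Q], IsPGroup p Q → ∀ φ : Q ≃* R,
      (W Q).map φ.toMonoidHom = W R)
    (hWZ : ∀ (Q : Type u) [Group Q] [Finite Q], IsPGroup p Q → Subgroup.center Q ≤ W Q)
    (hq : ∀ (G : Type u) [Group G] [Finite G] (P : Sylow p G),
      ¬ (((W ↥(P : Subgroup G)).map (P : Subgroup G).subtype : Subgroup G)).Normal →
      ∃ g : G, g ∈ (P : Subgroup G) ∧ g ∉ Cfsg.pCore p G ∧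
        ⁅⁅Subgroup.center ↥(Cfsg.pCore p G) |>.map (Cfsg.pCore p G).subtype, Subgroup.zpowers g⁆,
          Subgroup.zpowers g⁆ = ⊥)
    (hS : IsPGroup p S) (F : FusionSystem S)
    (hF : F.IsSaturated p) (z : Ω) (hzZ : z ∈ S ⊓ Subgroup.centralizer (S : Set Ω))
    (P : Subgroup Ω) (hPc : F.IsCentric P) (hPfn : F.IsFullyNormalized P)
    (hm : Mover F (z ^ p) P) :
    Mover F (z ^ p) (Wf W (normalizerIn S P)) := by
  have hxZ : z ^ p ∈ S ⊓ Subgroup.centralizer (S : Set Ω) := Subgroup.pow_mem _ hzZ p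
  have hPS : P ≤ S := hPc.1
  obtain ⟨E, hE⟩ := Cfsg.Agent.S5096.result F P hPS
  have hfinT : Finite ↥(normalizerIn S P) := finite_of_le inf_le_left
  have hEsat := Cfsg.Agent.S5098.result p hS F hF P hPfn E hE
  have hTp : IsPGroup p ↥(normalizerIn S P) := hS.to_le inf_le_left
  have hcon : E.IsConstrained p :=
    ⟨hEsat, P, isNormal_normalizerSystem F hPS E hE, isCentric_normalizerSystem F hPc E hE⟩
  obtain ⟨L, hLg, ι, hmodel⟩ := Cfsg.Agent.S5090.result p hTp E hcon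
  obtain ⟨hfin, hreal, ⟨Tsyl, hTsyl⟩, hCL⟩ := hmodel
  have hinj := hreal.1
  have hzT : z ∈ normalizerIn S P := mem_normalizerIn_of_mem_center hzZ hPS
  have hxT : z ^ p ∈ normalizerIn S P := mem_normalizerIn_of_mem_center hxZ hPS
  obtain ⟨g, hg1, hg2⟩ := exists_conj_of_mover F hPS E hE ι hreal hxT hm
  have hWT : Wf W (normalizerIn S P) ≤ normalizerIn S P := Wf_le W _
  have hxW : z ^ p ∈ Wf W (normalizerIn S P) := by
    refine ⟨⟨z ^ p, hxT⟩, hWZ _ hTp (Subgroup.mem_center_iff.2 ?_), rfl⟩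
    intro t
    apply Subtype.ext
    exact Subgroup.mem_centralizer_iff.1 hxZ.2 _ t.2.1
  have hWeq : Wf W (Tsyl : Subgroup L) =
      ((Wf W (normalizerIn S P)).subgroupOf (normalizerIn S P)).map ι := by
    rw [hTsyl]; exact Wf_range W hW2 _ hTp ι hinj
  by_contra hnm
  apply hg2
  have hpow : ι ⟨z ^ p, hxT⟩ = ι ⟨z, hzT⟩ ^ p := by
    rw [← map_pow]; rfl
  have hzS : ι ⟨z, hzT⟩ ∈ (Tsyl : Subgroup L) := by rw [hTsyl]; exact ⟨_, rfl⟩
  -- the image of `z` is central in the Sylow subgroup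
  have hzc : ∀ t ∈ (Tsyl : Subgroup L), t * ι ⟨z, hzT⟩ = ι ⟨z, hzT⟩ * t := by
    intro w hw
    rw [hTsyl] at hw
    obtain ⟨w', rfl⟩ := hw
    rw [← map_mul, ← map_mul]
    congr 1
    apply Subtype.ext
    exact Subgroup.mem_centralizer_iff.1 hzZ.2 _ w'.2.1
  -- and lies in `O_p(L)`
  have hzcore : ι ⟨z, hzT⟩ ∈ Cfsg.pCore p L := by
    apply hCL
    refine Subgroup.mem_centralizer_iff.2 ?_
    intro w hw
    exact hzc w (Cfsg.Agent.Lib.pCore_le_sylow Tsyl hw)
  -- the normalizer of `W` centralizes the image of `z ^ p`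
  have hN : ∀ n ∈ Subgroup.normalizer ((Wf W (Tsyl : Subgroup L) : Subgroup L) : Set L),
      n * ι ⟨z, hzT⟩ ^ p = ι ⟨z, hzT⟩ ^ p * n := by
    intro n hn
    by_contra hne
    apply hnm
    refine mover_of_conj F E hE ι hreal hWT hxW n ?_ ?_
    · intro y
      rw [← hWeq]
      have hy : ι ⟨y, hWT y.2⟩ ∈ Wf W (Tsyl : Subgroup L) := by
        rw [hWeq]
        exact ⟨⟨y, hWT y.2⟩, Subgroup.mem_subgroupOf.2 y.2, rfl⟩
      exact (Subgroup.mem_normalizer_iff.1 hn _).1 hy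
    · intro hcon
      apply hne
      rw [← hpow]
      calc n * ι ⟨z ^ p, hxT⟩ = n * ι ⟨z ^ p, hxT⟩ * n⁻¹ * n := by group
        _ = ι ⟨z ^ p, hxT⟩ * n := by rw [hcon]
  have hall := Cfsg.Agent.Helper51.QuadPow.pow_central W hW2 hq (Nat.card L) L Tsyl rfl
    (ι ⟨z, hzT⟩) hzS hzc hzcore hN g
  rw [hpow]
  calc g * ι ⟨z, hzT⟩ ^ p * g⁻¹ = ι ⟨z, hzT⟩ ^ p * g * g⁻¹ := by rw [hall]
    _ = ι ⟨z, hzT⟩ ^ p := by group

/-- a functor with the quadratic element condition controls the `p`-th powers of `Z(S)` -/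
theorem pow_mem_center_of_functor [Finite S] {p : ℕ} [Fact p.Prime]
    (W : ∀ (Q : Type u) [Group Q], Subgroup Q)
    (hW2 : ∀ (Q R : Type u) [Group Q] [Group R] [Finite Q], IsPGroup p Q → ∀ φ : Q ≃* R,
      (W Q).map φ.toMonoidHom = W R)
    (hWZ : ∀ (Q : Type u) [Group Q] [Finite Q], IsPGroup p Q → Subgroup.center Q ≤ W Q)
    (hq : ∀ (G : Type u) [Group G] [Finite G] (P : Sylow p G),
      ¬ (((W ↥(P : Subgroup G)).map (P : Subgroup G).subtype : Subgroup G)).Normal →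
      ∃ g : G, g ∈ (P : Subgroup G) ∧ g ∉ Cfsg.pCore p G ∧
        ⁅⁅Subgroup.center ↥(Cfsg.pCore p G) |>.map (Cfsg.pCore p G).subtype, Subgroup.zpowers g⁆,
          Subgroup.zpowers g⁆ = ⊥)
    (hS : IsPGroup p S) (F : FusionSystem S) (hF : F.IsSaturated p)
    (N : FusionSystem (normalizerIn S (Wf W S)))
    (hN : F.IsNormalizerSystem (Wf W S) N) :
    Subgroup.closure ((fun z => z ^ p) '' ((S ⊓ Subgroup.centralizer (S : Set Ω) : Subgroup Ω) : Set Ω))
      ⊓ N.center ≤ F.center := by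
  have hJS : Wf W S ≤ S := Wf_le W S
  have hSJ : S ≤ Subgroup.normalizer ((Wf W S : Subgroup Ω) : Set Ω) :=
    Subgroup.le_normalizer.trans (normalizer_le_normalizer_Wf W hW2 S hS)
  rintro y ⟨hy1, hy⟩
  obtain ⟨z, hzZ, hzy⟩ := exists_pow_eq_of_mem_closure p hy1
  have hyS : y ∈ S := (center_normalizerSystem_facts F hJS hSJ N hN hy).1.1
  have hcentral : F.IsCentral (Subgroup.zpowers y) := by
    rw [Cfsg.Agent.S5084.result p hS F hF]
    refine ⟨by rw [Subgroup.zpowers_le]; exact hyS, ?_⟩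
    intro w hw w' hww'
    obtain ⟨k, rfl⟩ := Subgroup.mem_zpowers_iff.1 hw
    have hwN : y ^ k ∈ N.center := Subgroup.zpow_mem _ hy k
    obtain ⟨hwZ, hwtop⟩ := center_normalizerSystem_facts F hJS hSJ N hN hwN
    have hzk : z ^ k ∈ S ⊓ Subgroup.centralizer (S : Set Ω) := Subgroup.zpow_mem _ hzZ k
    have hpw : (z ^ k) ^ p = y ^ k := by
      rw [← hzy, ← zpow_natCast, ← zpow_natCast, ← zpow_mul, ← zpow_mul, mul_comm]
    obtain ⟨φ, hφ, hφw⟩ := hww'
    rw [← hφw]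
    rw [← hpw] at hwtop
    have hcore := core hS F hF (fun T => Wf W T) (fun T _ => Wf_le W T) ?_ ((z ^ k) ^ p)
      (Subgroup.pow_mem _ hzk p)
      (fun P hPc hPfn hm => local_Wq W hW2 hWZ hq hS F hF (z ^ k) hzk P hPc hPfn hm) hwtop
    · have hmem : (z ^ k) ^ p ∈ Subgroup.zpowers (y ^ k) := by
        rw [hpw]; exact Subgroup.mem_zpowers _
      have := hcore _ φ hφ hmem
      have e : (⟨(z ^ k) ^ p, hmem⟩ : Subgroup.zpowers (y ^ k)) =
          ⟨y ^ k, Subgroup.mem_zpowers _⟩ := Subtype.ext hpw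
      rw [e] at this
      rw [this, hpw]
    · intro T hT
      have hfinT : Finite ↥T := finite_of_le hT
      exact inf_le_inf_left S (normalizer_le_normalizer_Wf W hW2 T (hS.to_le hT))
  have hle : Subgroup.zpowers y ≤ F.center := le_sSup hcentral
  exact hle (Subgroup.mem_zpowers y)

end Cfsg.Agent.Helper51.FusWC
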