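/-
helper51: weak closure in saturated fusion systems, part 2: transport lemmas.
* `transport_mover`: conjugating an automorphism that moves `x` along an isomorphism fixing `x`.
* `transport_fn`: moving a subgroup with an automorphism moving `x` to a fully normalized conjugate,
  when all maps on large subgroups fix `x`.
* `centric_extension`: for `R` fully normalized and `β ∈ Aut_F(R)` moving `x`, the subgroup
  `D = R C_S(R)` is centric, `N_S(R) ≤ N_S(D)` and some element of `Aut_F(D)` moves `x`.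
-/
import Mathlib
import Cfsg.Prelude.Def_FusionSystem
import Cfsg.Agent.Helper51.FusWC1
import Cfsg.Agent.Helper87.FusionExtend
import Cfsg.Agent.Helper87.FusionRS
import Cfsg.Agent.Helper85.Basic

set_option autoImplicit false

namespace Cfsg.Agent.Helper51.FusWC

open Cfsg Cfsg.FusionSystem Cfsg.Agent.Helper87

variable {Ω : Type*} [Group Ω] {S : Subgroup Ω}

theorem eq_top_of_isConj [Finite S] (F : FusionSystem S) {Q : Subgroup Ω} (h : F.IsConj S Q) : Q = S := by
  obtain ⟨e, he⟩ := (isConj_iff F S Q).mp h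
  have hQS : Q ≤ S := he.le_right
  have hcard : Nat.card S = Nat.card Q := Nat.card_congr e.toEquiv
  by_contra hne
  have hlt : Q < S := lt_of_le_of_ne hQS hne
  have := card_lt_card_of_lt hlt
  omega

theorem isCentric_self [Finite S] (F : FusionSystem S) : F.IsCentric S :=
  ⟨le_rfl, fun Q hQ => by rw [eq_top_of_isConj F hQ]; exact inf_le_left⟩

theorem isFullyNormalized_self [Finite S] (F : FusionSystem S) : F.IsFullyNormalized S :=
  ⟨le_rfl, fun Q hQ => by rw [eq_top_of_isConj F hQ]⟩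

/-- Conjugating a mover along an isomorphism which fixes `x`. -/
theorem transport_mover (F : FusionSystem S) {R R' : Subgroup Ω} (e : R ≃* R') (he : IsIso F e)
    (β : MulAut R) (hβ : IsIso F (β : R ≃* R)) {x : Ω} (hxR : x ∈ R)
    (hex : ((e ⟨x, hxR⟩ : R') : Ω) = x) (hmove : β ⟨x, hxR⟩ ≠ ⟨x, hxR⟩) :
    ∃ β' : MulAut R', IsIso F (β' : R' ≃* R') ∧ ∃ hxR' : x ∈ R', β' ⟨x, hxR'⟩ ≠ ⟨x, hxR'⟩ := by
  have hxR' : x ∈ R' := by rw [← hex]; exact (e ⟨x, hxR⟩).2
  have hex' : e ⟨x, hxR⟩ = ⟨x, hxR'⟩ := Subtype.ext hex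
  refine ⟨e.symm.trans ((β : R ≃* R).trans e), (he.symm).trans (hβ.trans he), hxR', ?_⟩
  intro hcon
  apply hmove
  have h1 : (e.symm.trans ((β : R ≃* R).trans e)) ⟨x, hxR'⟩ = e (β (e.symm ⟨x, hxR'⟩)) := rfl
  have h2 : e.symm ⟨x, hxR'⟩ = ⟨x, hxR⟩ := by rw [← hex', MulEquiv.symm_apply_apply]
  have h3 : e (β ⟨x, hxR⟩) = e ⟨x, hxR⟩ := by
    rw [h2] at h1
    rw [← h1, hex']
    exact hcon
  exact e.injective h3

/-- Moving a subgroup with a mover to a fully normalized conjugate. -/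
theorem transport_fn [Finite S] {p : ℕ} [Fact p.Prime] (hS : IsPGroup p S) (F : FusionSystem S)
    (hF : F.IsSaturated p) {x : Ω} {t : ℕ}
    (hM : ∀ (Q : Subgroup Ω) (φ : Q →* Ω), φ ∈ F.Hom Q → t < Nat.card Q →
      ∀ hxQ : x ∈ Q, φ ⟨x, hxQ⟩ = x)
    {R : Subgroup Ω} (hRS : R ≤ S) (β : MulAut R) (hβ : IsIso F (β : R ≃* R)) (hxR : x ∈ R)
    (hmove : β ⟨x, hxR⟩ ≠ ⟨x, hxR⟩) (ht : t < Nat.card (normalizerIn S R)) :
    ∃ R' : Subgroup Ω, F.IsConj R R' ∧ F.IsFullyNormalized R' ∧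
      ∃ β' : MulAut R', IsIso F (β' : R' ≃* R') ∧ ∃ hxR' : x ∈ R', β' ⟨x, hxR'⟩ ≠ ⟨x, hxR'⟩ := by
  obtain ⟨R', hconj, hfn⟩ := exists_isConj_fullyNormalized F hRS
  obtain ⟨hfc, hfa⟩ := fullyAutomized_fullyCentralized_of_fullyNormalized hS F hF hfn
  have hrec := receptive_of_fullyCentralized hS F hF hfc
  obtain ⟨e, he⟩ := (isConj_iff F R R').mp hconj
  obtain ⟨φ, hφ, e', he', hφx⟩ := exists_extension_normalizerIn hS F hfa hrec e he
  have hxN : x ∈ normalizerIn S R := le_normalizerIn hRS hxR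
  have h1 := hM _ φ hφ ht hxN
  have h2 := hφx ⟨x, hxR⟩
  have hex : ((e' ⟨x, hxR⟩ : R') : Ω) = x := by rw [← h2]; exact h1
  obtain ⟨β', hβ', hxR', hmove'⟩ := transport_mover F e' he' β hβ hxR hex hmove
  exact ⟨R', hconj, hfn, β', hβ', hxR', hmove'⟩

theorem centralizerIn_le_extender (R : Subgroup Ω) (φ : R →* Ω) :
    centralizerIn S R ≤ extender S R φ := by
  intro g hg
  rw [mem_extender_iff]
  refine ⟨hg.1, Subgroup.centralizer_le_normalizer (R : Set Ω) hg.2, 1, S.one_mem, fun y hy => ?_⟩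
  have h1 : g * (y : Ω) * g⁻¹ = y := by
    have := Subgroup.mem_centralizer_iff.1 hg.2 y y.2
    rw [← this, mul_inv_cancel_right]
  have h2 : (⟨g * (y : Ω) * g⁻¹, hy⟩ : R) = y := Subtype.ext h1
  rw [h2]; simp

theorem normalizerIn_le_normalizerIn_sup_centralizerIn (R : Subgroup Ω) :
    normalizerIn S R ≤ normalizerIn S (R ⊔ centralizerIn S R) := by
  intro g hg
  refine ⟨hg.1, ?_⟩
  have key : ∀ k : Ω, k ∈ S → k ∈ Subgroup.normalizer (R : Set Ω) →
      ∀ y ∈ R ⊔ centralizerIn S R, k * y * k⁻¹ ∈ R ⊔ centralizerIn S R := by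
    intro k hkS hkN y hy
    have hle : R ⊔ centralizerIn S R ≤
        (R ⊔ centralizerIn S R).comap (MulAut.conj k).toMonoidHom := by
      apply sup_le
      · intro z hz
        show k * z * k⁻¹ ∈ R ⊔ centralizerIn S R
        exact Subgroup.mem_sup_left ((Subgroup.mem_normalizer_iff.1 hkN z).1 hz)
      · intro z hz
        show k * z * k⁻¹ ∈ R ⊔ centralizerIn S R
        apply Subgroup.mem_sup_right
        refine ⟨S.mul_mem (S.mul_mem hkS hz.1) (S.inv_mem hkS), Subgroup.mem_centralizer_iff.2 ?_⟩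
        intro r hr
        have hr' : k⁻¹ * r * k ∈ R := by
          have := (Subgroup.mem_normalizer_iff.1 (Subgroup.inv_mem _ hkN) r).1 hr
          simpa using this
        have hc := Subgroup.mem_centralizer_iff.1 hz.2 _ hr'
        calc r * (k * z * k⁻¹) = k * ((k⁻¹ * r * k) * z) * k⁻¹ := by group
          _ = k * (z * (k⁻¹ * r * k)) * k⁻¹ := by rw [hc]
          _ = k * z * k⁻¹ * r := by group
    exact hle hy
  apply mem_normalizer_of_conj_mem_of_inv_conj_mem (key g hg.1 hg.2)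
  intro y hy
  have := key g⁻¹ (S.inv_mem hg.1) (Subgroup.inv_mem _ hg.2) y hy
  simpa using this

end Cfsg.Agent.Helper51.FusWC
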