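/-
helper51: weak closure in saturated fusion systems, part 3: for `R` fully normalized and
`β ∈ Aut_F(R)` moving `x`, the subgroup `R C_S(R)` is centric and carries an automorphism moving `x`.
-/
import Mathlib
import Cfsg.Prelude.Def_FusionSystem
import Cfsg.Agent.Helper51.FusWC2

set_option autoImplicit false

namespace Cfsg.Agent.Helper51.FusWC

open Cfsg Cfsg.FusionSystem Cfsg.Agent.Helper87

variable {Ω : Type*} [Group Ω] {S : Subgroup Ω}

theorem centric_extension [Finite S] {p : ℕ} [Fact p.Prime] (hS : IsPGroup p S) (F : FusionSystem S)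
    (hF : F.IsSaturated p) {R : Subgroup Ω} (hfn : F.IsFullyNormalized R) (β : MulAut R)
    (hβ : IsIso F (β : R ≃* R)) {x : Ω} (hxR : x ∈ R) (hmove : β ⟨x, hxR⟩ ≠ ⟨x, hxR⟩) :
    F.IsCentric (R ⊔ centralizerIn S R) ∧
      ∃ γ : MulAut ↥(R ⊔ centralizerIn S R), IsIso F (γ : ↥(R ⊔ centralizerIn S R) ≃* _) ∧
        ∃ hxD : x ∈ R ⊔ centralizerIn S R, γ ⟨x, hxD⟩ ≠ ⟨x, hxD⟩ := by
  have hRS : R ≤ S := hfn.1
  obtain ⟨hfc, hfa⟩ := fullyAutomized_fullyCentralized_of_fullyNormalized hS F hF hfn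
  have hrec := receptive_of_fullyCentralized hS F hF hfc
  have hDS : R ⊔ centralizerIn S R ≤ S := sup_le hRS inf_le_left
  have hfinD : Finite ↥(R ⊔ centralizerIn S R) := finite_of_le hDS
  -- the map `φ₀`
  obtain ⟨φ₀, hφ₀⟩ : ∃ φ₀ : R →* Ω, φ₀ = R.subtype.comp (β : R ≃* R).toMonoidHom := ⟨_, rfl⟩
  have hφ₀x : ∀ u : R, φ₀ u = ((β u : R) : Ω) := fun u => by rw [hφ₀]; rfl
  have hφ₀F : φ₀ ∈ F.Hom R := by rw [hφ₀]; exact hβ
  have hrange : φ₀.range = R := by
    ext y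
    constructor
    · rintro ⟨u, rfl⟩
      rw [hφ₀x]; exact (β u).2
    · intro hy
      refine ⟨β.symm ⟨y, hy⟩, ?_⟩
      rw [hφ₀x]
      show ((β (β.symm ⟨y, hy⟩) : R) : Ω) = y
      rw [MulEquiv.apply_symm_apply]
  obtain ⟨ψ, hψ, hψx⟩ := hrec.2 R φ₀ hφ₀F hrange
  have hDle : R ⊔ centralizerIn S R ≤ extender S R φ₀ :=
    sup_le (le_extender_of_mem F hφ₀F) (centralizerIn_le_extender R φ₀)
  obtain ⟨γ₀, hγ₀⟩ : ∃ γ₀ : ↥(R ⊔ centralizerIn S R) →* Ω, γ₀ = ψ.comp (Subgroup.inclusion hDle) := ⟨_, rfl⟩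
  have hγ₀F : γ₀ ∈ F.Hom (R ⊔ centralizerIn S R) := by rw [hγ₀]; exact restrict_mem F hψ hDle
  have hγR : ∀ u : R, γ₀ (Subgroup.inclusion le_sup_left u) = ((β u : R) : Ω) := by
    intro u
    rw [← hφ₀x, hγ₀]
    exact hψx u u.2 (hDle (le_sup_left (a := R) u.2))
  -- `γ₀` maps `D` into `D`
  have hγD : ∀ y : ↥(R ⊔ centralizerIn S R), γ₀ y ∈ R ⊔ centralizerIn S R := by
    refine Helper85.forall_mem_of_sup ((R ⊔ centralizerIn S R).comap γ₀) (fun u => ?_) (fun c => ?_)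
    · show γ₀ _ ∈ R ⊔ centralizerIn S R
      rw [hγR]; exact Subgroup.mem_sup_left (β u).2
    · show γ₀ _ ∈ R ⊔ centralizerIn S R
      apply Subgroup.mem_sup_right
      refine ⟨(F.le_of_mem hγ₀F).2 _, Subgroup.mem_centralizer_iff.2 ?_⟩
      intro r hr
      have hu : γ₀ (Subgroup.inclusion le_sup_left (β.symm ⟨r, hr⟩)) = r := by
        rw [hγR]
        show ((β (β.symm ⟨r, hr⟩) : R) : Ω) = r
        rw [MulEquiv.apply_symm_apply]
      rw [← hu, ← map_mul, ← map_mul]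
      congr 1
      apply Subtype.ext
      show ((β.symm ⟨r, hr⟩ : R) : Ω) * (c : Ω) = (c : Ω) * ((β.symm ⟨r, hr⟩ : R) : Ω)
      exact Subgroup.mem_centralizer_iff.1 c.2.2 _ (β.symm ⟨r, hr⟩).2
  have hrangeD : γ₀.range = R ⊔ centralizerIn S R := by
    have hle : γ₀.range ≤ R ⊔ centralizerIn S R := by
      rintro _ ⟨y, rfl⟩; exact hγD y
    have hcard : Nat.card ↥(R ⊔ centralizerIn S R) ≤ Nat.card γ₀.range :=
      le_of_eq (Nat.card_congr (MonoidHom.ofInjective (F.injective_of_mem hγ₀F)).toEquiv)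
    exact Subgroup.eq_of_le_of_card_ge hle hcard
  have hxD : x ∈ R ⊔ centralizerIn S R := Subgroup.mem_sup_left hxR
  refine ⟨?_, isoOfRange F hγ₀F hrangeD, isIso_isoOfRange F hγ₀F hrangeD, hxD, ?_⟩
  · -- centric
    refine ⟨hDS, fun D' hD' => ?_⟩
    obtain ⟨f, hf⟩ := (isConj_iff F _ D').mp hD'
    obtain ⟨φR, hφR⟩ : ∃ φR : R →* Ω,
        φR = (D'.subtype.comp f.toMonoidHom).comp (Subgroup.inclusion le_sup_left) := ⟨_, rfl⟩
    have hφRx : ∀ u : R, φR u = ((f (Subgroup.inclusion le_sup_left u) : D') : Ω) := fun u => by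
      rw [hφR]; rfl
    have hφRF : φR ∈ F.Hom R := by rw [hφR]; exact restrict_mem F hf le_sup_left
    have hconjR : F.IsConj R φR.range := ⟨φR, hφRF, rfl⟩
    have hcardle := hfc.2 _ hconjR
    have hfinC : Finite (centralizerIn S φR.range) := finite_of_le inf_le_left
    have hmem : ∀ c : centralizerIn S R,
        ((f (Subgroup.inclusion le_sup_right c) : D') : Ω) ∈ centralizerIn S φR.range := by
      intro c
      refine ⟨hf.le_right (f _).2, Subgroup.mem_centralizer_iff.2 ?_⟩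
      rintro _ ⟨u, rfl⟩
      rw [hφRx]
      rw [← Subgroup.coe_mul, ← Subgroup.coe_mul, ← map_mul, ← map_mul]
      congr 2
      apply Subtype.ext
      exact Subgroup.mem_centralizer_iff.1 c.2.2 _ u.2
    have hjinj : Function.Injective
        (fun c : centralizerIn S R => (⟨_, hmem c⟩ : centralizerIn S φR.range)) := by
      intro a b hab
      have h1 : ((f (Subgroup.inclusion le_sup_right a) : D') : Ω) =
          ((f (Subgroup.inclusion le_sup_right b) : D') : Ω) :=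
        congrArg (fun z : centralizerIn S φR.range => (z : Ω)) hab
      have h2 := f.injective (Subtype.ext h1)
      exact Subtype.ext (congrArg (fun z : ↥(R ⊔ centralizerIn S R) => (z : Ω)) h2)
    have hjbij := hjinj.bijective_of_nat_card_le hcardle
    intro y hy
    have hyR : y ∈ centralizerIn S φR.range := by
      refine ⟨hy.1, Subgroup.mem_centralizer_iff.2 ?_⟩
      rintro _ ⟨u, rfl⟩
      rw [hφRx]
      exact Subgroup.mem_centralizer_iff.1 hy.2 _ (f _).2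
    obtain ⟨c, hc⟩ := hjbij.2 ⟨y, hyR⟩
    have h3 : ((f (Subgroup.inclusion le_sup_right c) : D') : Ω) = y := congrArg Subtype.val hc
    rw [← h3]; exact (f _).2
  · intro hcon
    apply hmove
    apply Subtype.ext
    have h1 : ((isoOfRange F hγ₀F hrangeD ⟨x, hxD⟩ : ↥(R ⊔ centralizerIn S R)) : Ω) = γ₀ ⟨x, hxD⟩ :=
      isoOfRange_apply F hγ₀F hrangeD _
    have h2 := hγR ⟨x, hxR⟩
    have h3 : (Subgroup.inclusion le_sup_left (⟨x, hxR⟩ : R) : ↥(R ⊔ centralizerIn S R)) = ⟨x, hxD⟩ := rfl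
    rw [h3] at h2
    rw [← h2, ← h1, hcon]

end Cfsg.Agent.Helper51.FusWC
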