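import Cfsg.Agent.Helper87.FusionEssential
import Cfsg.Agent.Helper88.CtrlBase

set_option autoImplicit false

/-! # An essential-subgroup criterion: centralizer of a normal abelian subgroup whose automizer moves an invariant subgroup -/

namespace Cfsg.Agent.Helper51.FusZ2

open Cfsg Cfsg.FusionSystem Cfsg.Agent.Helper87

variable {Ω : Type*} [Group Ω] {S : Subgroup Ω}

/-- The automorphisms of `C` preserving (in both directions) membership in `Z`. -/
def stab (C Z : Subgroup Ω) : Subgroup (MulAut C) where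
  carrier := {α | ∀ x : C, (x : Ω) ∈ Z ↔ ((α x : C) : Ω) ∈ Z}
  one_mem' := fun _ => Iff.rfl
  mul_mem' := by
    intro a b ha hb x
    exact (hb x).trans (ha (b x))
  inv_mem' := by
    intro a ha x
    have h := ha (a⁻¹ x)
    rw [MulAut.apply_inv_self] at h
    exact h.symm

theorem mem_stab_iff (C Z : Subgroup Ω) (α : MulAut C) :
    α ∈ stab C Z ↔ ∀ x : C, (x : Ω) ∈ Z ↔ ((α x : C) : Ω) ∈ Z := Iff.rfl

/-- `C_S(T)` is normalized by `S` when `T` is. -/
theorem le_normalizer_centralizerIn {T : Subgroup Ω} (hTn : S ≤ Subgroup.normalizer (T : Set Ω)) :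
    S ≤ Subgroup.normalizer (centralizerIn S T : Set Ω) := by
  have key : ∀ g ∈ S, ∀ x ∈ centralizerIn S T, g * x * g⁻¹ ∈ centralizerIn S T := by
    intro g hg x hx
    refine Subgroup.mem_inf.mpr ⟨S.mul_mem (S.mul_mem hg hx.1) (S.inv_mem hg), ?_⟩
    rw [Subgroup.mem_centralizer_iff]
    intro y hy
    have hy' : g⁻¹ * y * g ∈ T := by
      have := (Subgroup.mem_normalizer_iff.mp (hTn (S.inv_mem hg)) y).mp hy
      simpa using this
    have hc := Subgroup.mem_centralizer_iff.mp hx.2 (g⁻¹ * y * g) hy'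
    -- hc : g⁻¹ * y * g * x = x * (g⁻¹ * y * g)
    calc y * (g * x * g⁻¹) = g * ((g⁻¹ * y * g) * x) * g⁻¹ := by group
      _ = g * (x * (g⁻¹ * y * g)) * g⁻¹ := by rw [hc]
      _ = g * x * g⁻¹ * y := by group
  intro g hg
  rw [Subgroup.mem_normalizer_iff]
  intro x
  constructor
  · exact key g hg x
  · intro hx
    have := key g⁻¹ (S.inv_mem hg) _ hx
    have e : g⁻¹ * (g * x * g⁻¹) * g⁻¹⁻¹ = x := by group
    rwa [e] at this

/-- **Criterion.** Let `T ≤ S` be abelian and normalized by `S`, and let `Z` be a subgroup whose membership is preserved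
by every map of the saturated system `F` defined on `S`. Assume every subgroup containing `C = C_S(T)` and an element of
`S` outside `C` contains `S`, that `C ≠ S`, and that some map of `F` from `T` onto `T` moves an element of `Z ∩ T`
outside `Z`. Then `C` is `F`-essential. -/
theorem isEssential_centralizerIn [Finite S] {p : ℕ} [Fact p.Prime] (hS : IsPGroup p S) (F : FusionSystem S)
    (hF : F.IsSaturated p) (T Z : Subgroup Ω) (hTS : T ≤ S) (hTn : S ≤ Subgroup.normalizer (T : Set Ω))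
    (hTab : T ≤ Subgroup.centralizer (T : Set Ω))
    (hZ : ∀ ψ : S →* Ω, ψ ∈ F.Hom S → ∀ x : S, (x : Ω) ∈ Z ↔ ψ x ∈ Z)
    (hmaxC : ∀ N : Subgroup Ω, centralizerIn S T ≤ N → (∃ g ∈ N, g ∈ S ∧ g ∉ centralizerIn S T) → S ≤ N)
    (hCne : ∃ g ∈ S, g ∉ centralizerIn S T)
    (φ : T →* Ω) (hφ : φ ∈ F.Hom T) (hφr : φ.range = T)
    (hmove : ∃ (z : Ω) (hz : z ∈ T), z ∈ Z ∧ φ ⟨z, hz⟩ ∉ Z) :
    F.IsEssential p (centralizerIn S T) := by
  set C := centralizerIn S T with hCdef
  have hCS : C ≤ S := inf_le_left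
  have hTC : T ≤ C := le_inf hTS hTab
  have hCn : S ≤ Subgroup.normalizer (C : Set Ω) := le_normalizer_centralizerIn hTn
  have hCfn : F.IsFullyNormalized C := Cfsg.Agent.Helper88.Ctrl.isFullyNormalized_of_le_normalizer F hCS hCn
  obtain ⟨hCc, hCa⟩ := fullyAutomized_fullyCentralized_of_fullyNormalized hS F hF hCfn
  have hCr : F.IsReceptive C := receptive_of_fullyCentralized hS F hF hCc
  have hTfn : F.IsFullyNormalized T := Cfsg.Agent.Helper88.Ctrl.isFullyNormalized_of_le_normalizer F hTS hTn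
  obtain ⟨hTc, hTa⟩ := fullyAutomized_fullyCentralized_of_fullyNormalized hS F hF hTfn
  have hTr : F.IsReceptive T := receptive_of_fullyCentralized hS F hF hTc
  have hClt : C < S := by
    refine lt_of_le_of_ne hCS ?_
    intro h
    obtain ⟨g, hgS, hgC⟩ := hCne
    exact hgC (h ▸ hgS)
  -- inner automorphisms preserve `Z`
  have hInn : Inn C ≤ stab C Z := by
    rintro ν ⟨r, rfl⟩
    rw [mem_stab_iff]
    intro x
    have h := hZ (conjHom S (r : Ω)) (F.conj_mem le_rfl (hCS r.2)) ⟨x, hCS x.2⟩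
    exact h
  -- automorphisms with a larger extender preserve `Z`
  have key : ∀ α ∈ F.autGroup C,
      (∃ g ∈ extender S C (C.subtype.comp (α : C ≃* C).toMonoidHom), g ∉ C) → α ∈ stab C Z := by
    intro α hα ⟨g, hgN, hgC⟩
    have hαiso : IsIso F (α : C ≃* C) := (mem_autGroup_iff F hCS α).mp hα
    have hCN := le_extender_of_aut hCS α
    have hgS : g ∈ S := ((mem_extender_iff S C _ g).mp hgN).1
    have hSN : S ≤ extender S C (C.subtype.comp (α : C ≃* C).toMonoidHom) := hmaxC _ hCN ⟨g, hgN, hgS, hgC⟩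
    obtain ⟨ψ, hψ, hψx⟩ := hCr.2 C _ hαiso (range_subtype_comp_equiv (α : C ≃* C))
    have hψS := restrict_mem F hψ hSN
    rw [mem_stab_iff]
    intro x
    have h := hZ _ hψS ⟨x, hCS x.2⟩
    have e : (ψ.comp (Subgroup.inclusion hSN)) ⟨x, hCS x.2⟩ = ((α x : C) : Ω) := by
      have := hψx (x : Ω) x.2 (hCN x.2)
      exact this
    rw [e] at h
    exact h
  -- the extension of `φ` to `C` is an automorphism of `C` moving `Z`
  have hne : ¬ F.autGroup C ≤ stab C Z := by
    intro hle
    have hCN : C ≤ extender S T φ := by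
      intro c hc
      rw [mem_extender_iff]
      refine ⟨hCS hc, hTn (hCS hc), 1, S.one_mem, fun x hx => ?_⟩
      have hcx : c * (x : Ω) * c⁻¹ = x := by
        have := Subgroup.mem_centralizer_iff.mp hc.2 (x : Ω) x.2
        -- this : x * c = c * x
        rw [← this]; group
      have e1 : (⟨c * (x : Ω) * c⁻¹, hx⟩ : T) = x := Subtype.ext hcx
      rw [e1]; simp
    obtain ⟨ψ, hψ, hψx⟩ := hTr.2 T φ hφ hφr
    have hψC := restrict_mem F hψ hCN
    have hTN : T ≤ extender S T φ := hTC.trans hCN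
    -- values of ψ on C lie in C
    have hval : ∀ c : C, (ψ.comp (Subgroup.inclusion hCN)) c ∈ C := by
      intro c
      refine Subgroup.mem_inf.mpr ⟨(F.le_of_mem hψC).2 c, ?_⟩
      rw [Subgroup.mem_centralizer_iff]
      intro y hy
      have hy' : y ∈ φ.range := by rw [hφr]; exact hy
      obtain ⟨y', rfl⟩ := hy'
      have e1 : φ y' = ψ ⟨(y' : Ω), hTN y'.2⟩ := (hψx (y' : Ω) y'.2 (hTN y'.2)).symm
      rw [e1]
      show ψ ⟨(y' : Ω), hTN y'.2⟩ * ψ (Subgroup.inclusion hCN c) = ψ (Subgroup.inclusion hCN c) * ψ ⟨(y' : Ω), hTN y'.2⟩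
      rw [← map_mul, ← map_mul]
      congr 1
      apply Subtype.ext
      show (y' : Ω) * (c : Ω) = (c : Ω) * (y' : Ω)
      exact Subgroup.mem_centralizer_iff.mp c.2.2 (y' : Ω) y'.2
    let ψ' : C →* C := (ψ.comp (Subgroup.inclusion hCN)).codRestrict C hval
    have hinj : Function.Injective ψ' := by
      intro a b hab
      exact F.injective_of_mem hψC (congrArg Subtype.val hab)
    have : Finite C := Finite.of_injective (Subgroup.inclusion hCS) (Subgroup.inclusion_injective hCS)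
    have hbij : Function.Bijective ψ' := ⟨hinj, Finite.injective_iff_surjective.mp hinj⟩
    let α : MulAut C := MulEquiv.ofBijective ψ' hbij
    have hαiso : IsIso F (α : C ≃* C) := by
      unfold IsIso
      exact mem_of_eq F hψC (fun x => rfl)
    have hα : α ∈ F.autGroup C := (mem_autGroup_iff F hCS α).mpr hαiso
    obtain ⟨z, hzT, hzZ, hφz⟩ := hmove
    have h := (mem_stab_iff C Z α).mp (hle hα) ⟨z, hTC hzT⟩
    apply hφz
    have e : ((α ⟨z, hTC hzT⟩ : C) : Ω) = φ ⟨z, hzT⟩ := hψx z hzT (hCN (hTC hzT))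
    rw [← e]
    exact h.mp hzZ
  obtain ⟨hcen, hn, hE⟩ := stronglyPEmbedded_of_extendable hS F hCa hCr hClt (stab C Z) hInn key hne
  exact ⟨hcen, hCfn, hn, _, hE⟩

end Cfsg.Agent.Helper51.FusZ2
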