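import Mathlib
import Cfsg.Agent.Helper51.GlauFamily
import Cfsg.Agent.Helper51.Dedekind
import Cfsg.Agent.Helper51.DStar

set_option autoImplicit false

namespace Cfsg.Agent.Helper51

open Subgroup
open scoped commutatorElement

section GlauRepl2

variable {S : Type*} [Group S]

/-- Elements of order dividing `n` of a commutative subgroup. -/
def omSub (A : Subgroup S) (hA : IsMulCommutative A) (n : ℕ) : Subgroup S where
  carrier := {x | x ∈ A ∧ x ^ n = 1}
  one_mem' := ⟨A.one_mem, one_pow n⟩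
  mul_mem' := by
    rintro a b ⟨ha, ha'⟩ ⟨hb, hb'⟩
    refine ⟨A.mul_mem ha hb, ?_⟩
    have hc : Commute a b := comm_of_mem hA ha hb
    rw [hc.mul_pow, ha', hb', one_mul]
  inv_mem' := by
    rintro a ⟨ha, ha'⟩
    exact ⟨A.inv_mem ha, by rw [inv_pow, ha', inv_one]⟩

theorem mem_omSub {A : Subgroup S} {hA : IsMulCommutative A} {n : ℕ} {x : S} :
    x ∈ omSub A hA n ↔ x ∈ A ∧ x ^ n = 1 := Iff.rfl

theorem omegaOne_eq_omSub (p : ℕ) (A : Subgroup S) (hA : IsMulCommutative A) :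
    Cfsg.omegaOne p A = omSub A hA p := by
  apply le_antisymm
  · unfold Cfsg.omegaOne
    rw [closure_le]
    intro x hx
    exact hx
  · intro x hx
    exact subset_closure hx

variable {A B : Subgroup S} {β : S}

theorem gen_pow_eq_one_of_odd (hA : IsMulCommutative A)
    (hβN : β ∈ normalizer ((normalizer (A : Set S) : Subgroup S) : Set S)) {a : S} (ha : a ∈ A)
    {e : ℕ} (he : Odd e) (hae : a ^ e = 1) : ⁅a, β⁆ ^ e = 1 := by
  rw [gen_eq]
  have hy : β * a⁻¹ * β⁻¹ ∈ cj β A := conj_mem_cj (A.inv_mem ha)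
  have hc : ⁅β * a⁻¹ * β⁻¹, a⁆ ∈ gZ A β := by
    rw [← commutatorElement_inv]
    exact inv_mem (comm_mem_gZ hβN ha hy)
  have hca : Commute ⁅β * a⁻¹ * β⁻¹, a⁆ a := (gZ_comm hA hc (mem_sup_left ha)).symm
  have hcy : Commute ⁅β * a⁻¹ * β⁻¹, a⁆ (β * a⁻¹ * β⁻¹) :=
    (gZ_comm hA hc (mem_sup_right hy)).symm
  apply mul_pow_eq_one_of_odd hca hcy he hae
  · rw [conj_pow, inv_pow, hae]; group
  · rw [← comm_pow_right_of_commute hca, hae, commutatorElement_one_right]

theorem card_omSub_le [Finite S] [B.Normal] {p : ℕ} [Fact p.Prime] (hp : p ≠ 2)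
    (hA : IsMulCommutative A) (hBA : ⁅B, B⁆ ≤ A) (hβ : β ∈ B)
    (hβN : β ∈ normalizer ((normalizer (A : Set S) : Subgroup S) : Set S))
    (hAs : IsMulCommutative (gStar A β)) :
    Nat.card (omSub A hA p) ≤ Nat.card (omSub (gStar A β) hAs p) := by
  have hodd : Odd p := (Fact.out : p.Prime).odd_of_ne_two hp
  have hYV : omSub A hA p ⊓ gZ A β = omSub (gStar A β) hAs p ⊓ gZ A β := by
    ext x
    simp only [mem_inf, mem_omSub]
    constructor
    · rintro ⟨⟨-, h2⟩, h3, h4⟩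
      exact ⟨⟨mem_sup_left (mem_inf.mpr ⟨h3, h4⟩), h2⟩, h3, h4⟩
    · rintro ⟨⟨-, h2⟩, h3, h4⟩
      exact ⟨⟨h3, h2⟩, h3, h4⟩
  have key := (card_mul_le_of_coset_map' (Y := omSub A hA p ⊓ gZ A β) (X := omSub A hA p)
    (V := omSub (gStar A β) hAs p ⊓ gZ A β) (W := omSub (gStar A β) hAs p)
    inf_le_left inf_le_left (fun a => ⁅a, β⁆)
    (fun a ha => ⟨mem_sup_right (gen_mem_gX ha.1), gen_pow_eq_one_of_odd hA hβN ha.1 hodd ha.2⟩)
    (by
      intro a ha c hc h
      refine mem_inf.mpr ⟨mul_mem (inv_mem ha) hc, ?_⟩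
      exact (gen_inv_mul_mem_iff hA hBA hβ ha.1 hc.1).mp (mem_inf.mp h).2)).1
  rw [hYV, mul_comm] at key
  exact Nat.le_of_mul_le_mul_left key Nat.card_pos

/-- Glauberman replacement with all the extra conclusions, `B` normal. -/
theorem replacement_normal [Finite S] {p : ℕ} [Fact p.Prime] (hS : IsPGroup p S) (hp : p ≠ 2)
    (B : Subgroup S) [B.Normal] (A : Subgroup S) (hA : IsMulCommutative A) (hBA : ⁅B, B⁆ ≤ A)
    (hnot : ¬ B ≤ normalizer (A : Set S)) :
    ∃ Astar : Subgroup S, IsMulCommutative Astar ∧ Nat.card Astar = Nat.card A ∧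
      A ⊓ B < Astar ⊓ B ∧ Astar ≤ normalizer (A : Set S) ∧
      Astar ≤ normalClosure (A : Set S) ∧ Monoid.exponent Astar ∣ Monoid.exponent A ∧
      Nat.card (Cfsg.omegaOne p A) ≤ Nat.card (Cfsg.omegaOne p Astar) := by
  obtain ⟨x, hx, hxN, hxn⟩ := exists_mem_normalizer_not_mem hS hnot
  have hx' : x ∈ ((normalizer (A : Set S) ⊔ B : Subgroup S) : Set S) := hx
  rw [mul_normal] at hx'
  obtain ⟨n, hn, β, hβ, rfl⟩ := hx'
  have hβN : β ∈ normalizer ((normalizer (A : Set S) : Subgroup S) : Set S) := by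
    have : β = n⁻¹ * (n * β) := by group
    rw [this]
    exact mul_mem (inv_mem (le_normalizer hn)) hxN
  have hβA : β ∉ normalizer (A : Set S) := by
    intro h
    exact hxn (mul_mem hn h)
  obtain ⟨h1, h2, -, h4, -, -, h7, -, -, h10⟩ :=
    Cfsg.Agent.S0650.main hS B (fun h => absurd h hp) A hA hBA β hβ hβN hβA
  refine ⟨gStar A β, h2, h1, h4, h7, ?_, h10 hp, ?_⟩
  · refine sup_le (inf_le_left.trans le_normalClosure) (gX_le_sup.trans (sup_le le_normalClosure ?_))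
    intro y hy
    obtain ⟨a, ha, rfl⟩ := mem_cj.mp hy
    exact (normalClosure_normal (s := (A : Set S))).conj_mem a (le_normalClosure ha) β
  · rw [omegaOne_eq_omSub p A hA, omegaOne_eq_omSub p _ h2]
    exact card_omSub_le hp hA hBA hβ hβN h2

end GlauRepl2

end Cfsg.Agent.Helper51
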