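import Mathlib
import Cfsg.Agent.Helper51.GlauRepl2

set_option autoImplicit false

namespace Cfsg.Agent.Helper51

open Subgroup
open scoped commutatorElement

section GlauRepl3

variable {G : Type*} [Group G]

theorem omegaOne_subgroupOf_map (p : ℕ) {A H : Subgroup G} (hAH : A ≤ H) :
    (Cfsg.omegaOne p (A.subgroupOf H)).map H.subtype = Cfsg.omegaOne p A := by
  unfold Cfsg.omegaOne
  rw [MonoidHom.map_closure]
  congr 1
  ext x
  constructor
  · rintro ⟨y, ⟨hy1, hy2⟩, rfl⟩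
    refine ⟨mem_subgroupOf.mp hy1, ?_⟩
    have := congrArg Subtype.val hy2
    simpa using this
  · rintro ⟨hx1, hx2⟩
    refine ⟨⟨x, hAH hx1⟩, ⟨mem_subgroupOf.mpr hx1, ?_⟩, rfl⟩
    apply Subtype.ext
    simpa using hx2

theorem replacement_general [Finite G] {p : ℕ} [Fact p.Prime] (hp : p ≠ 2) (hG : IsPGroup p G)
    (A B : Subgroup G) (hA : IsMulCommutative A) (hBA : ⁅B, B⁆ ≤ A)
    (hAB : A ≤ normalizer (B : Set G)) (hBnA : ¬ B ≤ normalizer (A : Set G)) :
    ∃ Astar : Subgroup G, IsMulCommutative Astar ∧ Nat.card Astar = Nat.card A ∧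
      A ⊓ B < Astar ⊓ B ∧ Astar ≤ normalizer (A : Set G) ∧
      Astar ≤ normalClosure (A : Set G) ∧ Monoid.exponent Astar ∣ Monoid.exponent A ∧
      Nat.card (Cfsg.omegaOne p A) ≤ Nat.card (Cfsg.omegaOne p Astar) := by
  set H : Subgroup G := A ⊔ B with hH
  have hAH : A ≤ H := le_sup_left
  have hBH : B ≤ H := le_sup_right
  have hHN : H ≤ normalizer (B : Set G) := sup_le hAB le_normalizer
  have hBn : (B.subgroupOf H).Normal := (normal_subgroupOf_iff_le_normalizer hBH).mpr hHN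
  have hA' : IsMulCommutative (A.subgroupOf H) := by
    refine ⟨⟨?_⟩⟩
    rintro ⟨⟨a, ha'⟩, ha⟩ ⟨⟨b, hb'⟩, hb⟩
    apply Subtype.ext
    apply Subtype.ext
    exact comm_of_mem hA (mem_subgroupOf.mp ha) (mem_subgroupOf.mp hb)
  have hBA' : ⁅B.subgroupOf H, B.subgroupOf H⁆ ≤ A.subgroupOf H := by
    rw [← map_le_map_iff_of_injective H.subtype_injective, map_commutator,
      map_subgroupOf_eq_of_le hBH, map_subgroupOf_eq_of_le hAH]
    exact hBA
  have hnot' : ¬ B.subgroupOf H ≤ normalizer ((A.subgroupOf H : Subgroup H) : Set H) := by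
    intro hle
    apply hBnA
    intro b hb
    apply mem_normalizer_of_cj_le
    intro y hy
    obtain ⟨a, ha, rfl⟩ := mem_cj.mp hy
    have h1 : (⟨b, hBH hb⟩ : H) ∈ normalizer ((A.subgroupOf H : Subgroup H) : Set H) :=
      hle (mem_subgroupOf.mpr hb)
    have h2 := (mem_normalizer_iff.mp h1 ⟨a, hAH ha⟩).mp (mem_subgroupOf.mpr ha)
    exact mem_subgroupOf.mp h2
  obtain ⟨As, h1, h2, h3, h4, h5, h6, h7⟩ :=
    replacement_normal (hG.to_subgroup H) hp (B.subgroupOf H) (A.subgroupOf H) hA' hBA' hnot'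
  have hcardA : Nat.card (A.subgroupOf H) = Nat.card A :=
    Nat.card_congr (subgroupOfEquivOfLe hAH).toEquiv
  refine ⟨As.map H.subtype, ?_, ?_, ?_, ?_, ?_, ?_, ?_⟩
  · refine ⟨⟨?_⟩⟩
    rintro ⟨_, ⟨a, ha, rfl⟩⟩ ⟨_, ⟨b, hb, rfl⟩⟩
    apply Subtype.ext
    have := comm_of_mem h1 ha hb
    exact congrArg (fun z : H => (z : G)) this
  · rw [card_map_of_injective H.subtype_injective, h2, hcardA]
  · rw [SetLike.lt_iff_le_and_exists] at h3 ⊢
    obtain ⟨hle, y, hy, hyn⟩ := h3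
    refine ⟨?_, y.1, ?_, ?_⟩
    · intro x hx
      have hxH : x ∈ H := hAH (mem_inf.mp hx).1
      have : (⟨x, hxH⟩ : H) ∈ A.subgroupOf H ⊓ B.subgroupOf H :=
        mem_inf.mpr ⟨mem_subgroupOf.mpr (mem_inf.mp hx).1, mem_subgroupOf.mpr (mem_inf.mp hx).2⟩
      have h' := hle this
      exact mem_inf.mpr ⟨⟨_, (mem_inf.mp h').1, rfl⟩, (mem_inf.mp hx).2⟩
    · exact mem_inf.mpr ⟨⟨y, (mem_inf.mp hy).1, rfl⟩, mem_subgroupOf.mp (mem_inf.mp hy).2⟩
    · intro h
      exact hyn (mem_inf.mpr ⟨mem_subgroupOf.mpr (mem_inf.mp h).1, (mem_inf.mp hy).2⟩)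
  · rintro _ ⟨y, hy, rfl⟩
    apply mem_normalizer_of_cj_le
    intro z hz
    obtain ⟨a, ha, rfl⟩ := mem_cj.mp hz
    have h2' := (mem_normalizer_iff.mp (h4 hy) ⟨a, hAH ha⟩).mp (mem_subgroupOf.mpr ha)
    exact mem_subgroupOf.mp h2'
  · rw [map_le_iff_le_comap]
    refine h5.trans ?_
    apply normalClosure_le_normal
    intro a ha
    exact le_normalClosure (mem_subgroupOf.mp ha)
  · have e1 : Monoid.exponent (As.map H.subtype) = Monoid.exponent As :=
      (Monoid.exponent_eq_of_mulEquiv (As.equivMapOfInjective H.subtype H.subtype_injective)).symm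
    have e2 : Monoid.exponent (A.subgroupOf H) = Monoid.exponent A :=
      Monoid.exponent_eq_of_mulEquiv (subgroupOfEquivOfLe hAH)
    rw [e1, ← e2]
    exact h6
  · have hAs : As ≤ (As.map H.subtype).subgroupOf H := by
      intro y hy
      exact mem_subgroupOf.mpr ⟨y, hy, rfl⟩
    have hAs' : (As.map H.subtype).subgroupOf H = As := by
      rw [subgroupOf, comap_map_eq_self_of_injective H.subtype_injective]
    have hle : As.map H.subtype ≤ H := by
      rintro _ ⟨y, -, rfl⟩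
      exact y.2
    rw [← omegaOne_subgroupOf_map p hAH, ← omegaOne_subgroupOf_map p hle, hAs',
      card_map_of_injective H.subtype_injective, card_map_of_injective H.subtype_injective]
    exact h7

end GlauRepl3

end Cfsg.Agent.Helper51
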