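import Cfsg.Agent.Helper95.Hig.Basic
import Cfsg.Prelude.Def_Transfer
import Cfsg.Prelude.Def_BaumannBlocks

/-! Helper51, piece (HRP) of the HIG farm (S3050, architect helper95, board #14698). -/

set_option autoImplicit false

namespace Cfsg.Agent.Helper51.Hig

open Cfsg.Agent.Helper40.SL2Hom
open Cfsg.Agent.Helper95.Hig

universe u v

section grp
variable {G : Type v} [Group G]
variable {K : Type u} [Field K]

/-- an element of order 3 of `G ⧸ Q` (`Q` a 2-group) lifts to an element of order 3 of `G` -/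
theorem hrp_lift [Finite G] (Q : Subgroup G) [hn : Q.Normal] (hQ : IsPGroup 2 ↥Q)
    (t : G ⧸ Q) (ht : orderOf t = 3) :
    ∃ g : G, orderOf g = 3 ∧ (QuotientGroup.mk g : G ⧸ Q) = t := by
  obtain ⟨g0, rfl⟩ := QuotientGroup.mk_surjective t
  have h3 : g0 ^ 3 ∈ Q := by
    rw [← QuotientGroup.eq_one_iff, QuotientGroup.mk_pow, ← ht, pow_orderOf_eq_one]
  obtain ⟨k, hk⟩ := hQ ⟨g0 ^ 3, h3⟩
  have hk' : (g0 ^ 3) ^ (2 ^ k) = 1 := by
    have := congrArg (fun z : ↥Q => (z : G)) hk
    simpa using this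
  -- `4 ^ k = 1 + 3 * s`
  obtain ⟨s, hs⟩ : ∃ s : ℕ, 4 ^ k = 1 + 3 * s := by
    have : 4 ^ k % 3 = 1 := by
      rw [Nat.pow_mod]; norm_num
    exact ⟨4 ^ k / 3, by omega⟩
  refine ⟨g0 ^ (4 ^ k), ?_, ?_⟩
  · have hprime : Nat.Prime 3 := by norm_num
    have : Fact (Nat.Prime 3) := ⟨hprime⟩
    apply orderOf_eq_prime
    · rw [← pow_mul, mul_comm, pow_mul]
      have : (4 : ℕ) ^ k = 2 ^ k * 2 ^ k := by
        rw [← mul_pow]; norm_num
      rw [this, pow_mul, hk', one_pow]
    · intro h1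
      have h2 : (QuotientGroup.mk (g0 ^ (4 ^ k)) : G ⧸ Q) = QuotientGroup.mk g0 := by
        rw [hs, pow_add, pow_one, pow_mul, QuotientGroup.mk_mul]
        have : (QuotientGroup.mk ((g0 ^ 3) ^ s) : G ⧸ Q) = 1 := by
          rw [QuotientGroup.eq_one_iff]
          exact Q.pow_mem h3 s
        rw [this, mul_one]
      rw [h1, QuotientGroup.mk_one] at h2
      rw [← h2, orderOf_one] at ht
      omega
  · rw [hs, pow_add, pow_one, pow_mul, QuotientGroup.mk_mul]
    have : (QuotientGroup.mk ((g0 ^ 3) ^ s) : G ⧸ Q) = 1 := by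
      rw [QuotientGroup.eq_one_iff]
      exact Q.pow_mem h3 s
    rw [this, mul_one]

theorem hrp [Finite G] (Q : Subgroup G) [hn : Q.Normal] (hQ : IsPGroup 2 ↥Q)
    (A : Type v) [CommGroup A] (j : A ≃* ↥Q) (e : G ⧸ Q ≃* SL2 K)
    (hfpf : ∀ g : G, orderOf g = 3 → ∀ y ∈ Q, g * y * g⁻¹ = y → y = 1)
    (ρ : Representation ℤ (SL2 K) (Additive A))
    (hρ : ∀ (g : G) (a : A), ρ (e (QuotientGroup.mk g)) (Additive.ofMul a)
        = Additive.ofMul (j.symm (⟨g * (j a : G) * g⁻¹, hn.conj_mem _ (j a).2 g⟩ : ↥Q))) :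
    IsHig K ρ.asModule := by
  intro τ hτ x
  -- lift `τ` to an element of order 3
  have hτ' : orderOf (e.symm τ) = 3 := by rw [MulEquiv.orderOf_eq]; exact hτ
  obtain ⟨g, hg, hgτ⟩ := hrp_lift Q hQ (e.symm τ) hτ'
  have hτg : e (QuotientGroup.mk g) = τ := by rw [hgτ, MulEquiv.apply_symm_apply]
  -- the key computation in `Additive A`
  have key : ∀ y : Additive A, y + ρ τ y + ρ τ (ρ τ y) = 0 := by
    intro y
    set z : Additive A := y + ρ τ y + ρ τ (ρ τ y) with hz
    have hT3 : ρ τ (ρ τ (ρ τ y)) = y := by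
      have h1 : ρ τ * ρ τ * ρ τ = 1 := by
        rw [← map_mul, ← map_mul, ← pow_three', ← hτ, pow_orderOf_eq_one, map_one]
      have := congrArg (fun f : Module.End ℤ (Additive A) => f y) h1
      simpa [Module.End.mul_apply] using this
    have hfix : ρ τ z = z := by
      rw [hz, map_add, map_add, hT3]
      abel
    -- translate to the group
    have hz' : z = Additive.ofMul (Additive.toMul z) := rfl
    set b : A := Additive.toMul z with hb
    rw [hz', ← hτg, hρ] at hfix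
    have h2 : j.symm (⟨g * (j b : G) * g⁻¹, hn.conj_mem _ (j b).2 g⟩ : ↥Q) = b :=
      Additive.ofMul.injective hfix
    have h3 : (⟨g * (j b : G) * g⁻¹, hn.conj_mem _ (j b).2 g⟩ : ↥Q) = j b :=
      (MulEquiv.symm_apply_eq j).mp h2
    have h4 : g * (j b : G) * g⁻¹ = (j b : G) := congrArg Subtype.val h3
    have h5 : (j b : G) = 1 := hfpf g hg _ (j b).2 h4
    have h6 : j b = 1 := Subtype.ext h5
    have h7 : b = 1 := by
      rw [← j.map_one] at h6
      exact j.injective h6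
    rw [hz', h7]
    rfl
  rw [act_asModule, act_asModule]
  apply ρ.asModuleEquiv.injective
  rw [map_add, map_add, map_zero]
  simp only [LinearEquiv.apply_symm_apply]
  exact key _

end grp

end Cfsg.Agent.Helper51.Hig
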