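import Cfsg.Agent.Helper95.Hig.Basic

/-!
Helper51, piece (ZRL) of the HIG farm (S3050, architect helper95, board #14680):
block form of `U γ` over `ℤ` with respect to a `Split`.
-/

set_option autoImplicit false

namespace Cfsg.Agent.Helper51.Hig

open Cfsg.Agent.Helper40.SL2Hom
open Cfsg.Agent.Helper95.Hig

universe u v w

section mod
variable {K : Type u} [Field K] [CharP K 2] {V : Type v} [AddCommGroup V] [Module (ZG K) V]

/-- `U γ` preserves `Fix1` (it commutes with `U 1`). -/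
theorem zrl_mem_Fix1 (γ : K) (c : Fix1 K V) : act (U γ) (c : V) ∈ Fix1 K V := by
  rw [mem_Fix1, ← act_mul, U_comm, act_mul]
  have hc : act (U (1 : K)) (c : V) = (c : V) := c.2
  rw [hc]

/-- `φ (U γ c) = (U γ c, 0)` -/
theorem zrl_phi_fix (s : Split K V) (γ : K) (c : Fix1 K V) :
    s.φ (act (U γ) (c : V)) = (⟨act (U γ) (c : V), zrl_mem_Fix1 γ c⟩, 0) :=
  s.hfix ⟨act (U γ) (c : V), zrl_mem_Fix1 γ c⟩

theorem zrl_Ap_eq (s : Split K V) (γ : K) (c : Fix1 K V) :
    s.Ap γ c = ⟨act (U γ) (c : V), zrl_mem_Fix1 γ c⟩ := by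
  rw [Split.Ap_apply, zrl_phi_fix]

theorem zrl_phi_fix' (s : Split K V) (γ : K) (c : Fix1 K V) :
    s.φ (act (U γ) (c : V)) = (s.Ap γ c, 0) := by
  rw [zrl_Ap_eq, zrl_phi_fix]

theorem zrl_phi_W (s : Split K V) (γ : K) (d : Fix1 K V) :
    s.φ (act (U γ) (act (W : SL2 K) (d : V))) = (s.Bt γ d, s.Dt γ d) := by
  rw [Split.Bt_apply, Split.Dt_apply]

/-- first fact: the block form -/
theorem zrl_block (s : Split K V) (γ : K) (c d : Fix1 K V) :
    s.φ (act (U γ) (s.φ.symm (c, d))) = (s.Ap γ c + s.Bt γ d, s.Dt γ d) := by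
  rw [s.symm_eq, map_add, map_add, zrl_phi_fix', zrl_phi_W]
  simp

/-- (ZRL) -/
theorem zrl (s : Split K V) (γ : K) :
    (∀ c d : Fix1 K V, s.φ (act (U γ) (s.φ.symm (c, d))) = (s.Ap γ c + s.Bt γ d, s.Dt γ d)) ∧
    (∀ c : Fix1 K V, ((s.Ap γ c : Fix1 K V) : V) = act (U γ) (c : V)) ∧
    (∀ c : Fix1 K V, s.Bt γ c + s.Bt γ c = s.Dt γ c - s.Ap γ c) ∧
    (∀ c : Fix1 K V, s.Ap γ (s.Bt γ c) + s.Bt γ (s.Dt γ c) = 0) ∧
    (∀ c : Fix1 K V, s.Ap γ (s.Ap γ c) = c) := by
  refine ⟨zrl_block s γ, ?_, ?_, ?_, ?_⟩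
  · intro c
    rw [zrl_Ap_eq]
  · intro d
    -- `U 1 (U γ (W d)) = U γ (U 1 (W d))`
    have h1 : act (U (1 : K)) (act (U γ) (s.φ.symm (0, d))) =
        act (U γ) (act (U (1 : K)) (s.φ.symm (0, d))) := by
      rw [← act_mul, ← act_mul, U_comm]
    have h2 : act (U γ) (s.φ.symm (0, d)) = s.φ.symm (s.Bt γ d, s.Dt γ d) := by
      apply s.φ.injective
      rw [zrl_block, AddEquiv.apply_symm_apply]
      simp
    have h3 : act (U (1 : K)) (s.φ.symm (0, d)) = s.φ.symm (-d, -d) := by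
      apply s.φ.injective
      rw [s.hU1, AddEquiv.apply_symm_apply]
      simp
    rw [h2, h3] at h1
    have h4 := congrArg s.φ h1
    rw [s.hU1, zrl_block] at h4
    have h5 := congrArg Prod.fst h4
    simp only [map_neg] at h5
    -- h5 : Bt d - Dt d = -Ap d + -Bt d
    have h6 : s.Bt γ d - s.Dt γ d = -(s.Ap γ d) + -(s.Bt γ d) := h5
    have : s.Bt γ d + s.Bt γ d = (s.Bt γ d - s.Dt γ d) + s.Dt γ d + s.Bt γ d := by abel
    rw [this, h6]
    abel
  · intro d
    have h2 : act (U γ) (s.φ.symm (0, d)) = s.φ.symm (s.Bt γ d, s.Dt γ d) := by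
      apply s.φ.injective
      rw [zrl_block, AddEquiv.apply_symm_apply]
      simp
    have h1 : act (U γ) (act (U γ) (s.φ.symm (0, d))) = s.φ.symm (0, d) := by
      rw [← act_mul, U_sq, act_one]
    rw [h2] at h1
    have h4 := congrArg s.φ h1
    rw [zrl_block, AddEquiv.apply_symm_apply] at h4
    exact congrArg Prod.fst h4
  · intro c
    have h2 : act (U γ) (s.φ.symm (c, 0)) = s.φ.symm (s.Ap γ c, 0) := by
      apply s.φ.injective
      rw [zrl_block, AddEquiv.apply_symm_apply]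
      simp
    have h1 : act (U γ) (act (U γ) (s.φ.symm (c, 0))) = s.φ.symm (c, 0) := by
      rw [← act_mul, U_sq, act_one]
    rw [h2] at h1
    have h4 := congrArg s.φ h1
    rw [zrl_block, AddEquiv.apply_symm_apply] at h4
    have h5 := congrArg Prod.fst h4
    simpa using h5

end mod

end Cfsg.Agent.Helper51.Hig
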