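import Mathlib
import Cfsg.Agent.Helper51.Dedekind
import Cfsg.Agent.Helper70.Q8
import Cfsg.Prelude.Def_Transfer

set_option autoImplicit false

namespace Cfsg.Agent.Helper51

open Subgroup
open scoped commutatorElement

section Dedekind2

variable {G : Type*} [Group G] [Finite G]

theorem eq_of_mem_zpowers_of_sq {a c : G} (ha : a ^ 2 = 1) (hc : c ∈ zpowers a) (hc1 : c ≠ 1) : c = a := by
  obtain ⟨j, rfl⟩ := mem_zpowers_iff.mp hc
  rcases Int.even_or_odd j with ⟨i, rfl⟩ | ⟨i, rfl⟩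
  · exfalso; apply hc1
    rw [← two_mul, zpow_mul, zpow_ofNat, ha, one_zpow]
  · rw [zpow_add, zpow_mul, zpow_ofNat, ha, one_zpow, one_mul, zpow_one]

theorem minimal_pair (hn : ∀ H : Subgroup G, H.Normal) {x y : G} (hxy : x * y ≠ y * x)
    (hmin : ∀ x' y' : G, x' * y' ≠ y' * x' → orderOf x + orderOf y ≤ orderOf x' + orderOf y') :
    orderOf x = 4 ∧ orderOf y = 4 ∧ x ^ 2 = y ^ 2 ∧ ⁅x, y⁆ = x ^ 2 := by
  wlog hle : orderOf y ≤ orderOf x generalizing x y with H
  · have hyx : y * x ≠ x * y := fun h => hxy h.symm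
    have hmin' : ∀ x' y' : G, x' * y' ≠ y' * x' →
        orderOf y + orderOf x ≤ orderOf x' + orderOf y' := by
      intro x' y' h; rw [add_comm]; exact hmin x' y' h
    obtain ⟨h1, h2, h3, h4⟩ := H hyx hmin' (le_of_not_ge hle)
    refine ⟨h2, h1, h3.symm, ?_⟩
    have hy4 : y ^ 4 = 1 := by rw [← h1]; exact pow_orderOf_eq_one y
    have : (y ^ 2)⁻¹ = y ^ 2 := by
      rw [inv_eq_iff_mul_eq_one, ← pow_add]; exact hy4
    rw [← commutatorElement_inv, h4, this, h3]
  set c := ⁅x, y⁆ with hcdef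
  have hc1 : c ≠ 1 := fun h => hxy (commutatorElement_eq_one_iff_mul_comm.mp h)
  have hcx : c ∈ zpowers x := comm_mem_zpowers_left (hn _)
  have hcy : c ∈ zpowers y := comm_mem_zpowers_right (hn _)
  have hccx : Commute c x := commute_of_mem_zpowers hcx
  have hccy : Commute c y := commute_of_mem_zpowers hcy
  have hox : 0 < orderOf x := orderOf_pos x
  have hoy : 0 < orderOf y := orderOf_pos y
  have key_x : ∀ q : ℕ, q.Prime → q ∣ orderOf x → c ^ q = 1 := by
    intro q hq hqx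
    have hlt : orderOf (x ^ q) < orderOf x := by
      rw [orderOf_pow' x hq.ne_zero, Nat.gcd_eq_right hqx]
      exact Nat.div_lt_self hox hq.one_lt
    by_contra hne
    have h1 : x ^ q * y ≠ y * x ^ q := by
      intro h
      apply hne
      rw [hcdef, ← comm_pow_left_of_commute hccx q]
      exact commutatorElement_eq_one_iff_mul_comm.mpr h
    have := hmin _ _ h1
    omega
  have key_y : ∀ q : ℕ, q.Prime → q ∣ orderOf y → c ^ q = 1 := by
    intro q hq hqy
    have hlt : orderOf (y ^ q) < orderOf y := by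
      rw [orderOf_pow' y hq.ne_zero, Nat.gcd_eq_right hqy]
      exact Nat.div_lt_self hoy hq.one_lt
    by_contra hne
    have h1 : x * y ^ q ≠ y ^ q * x := by
      intro h
      apply hne
      rw [hcdef, ← comm_pow_right_of_commute hccy q]
      exact commutatorElement_eq_one_iff_mul_comm.mpr h
    have := hmin _ _ h1
    omega
  have hx1 : orderOf x ≠ 1 := by
    intro h
    rw [orderOf_eq_one_iff] at h
    apply hxy; rw [h, one_mul, mul_one]
  have hy1 : orderOf y ≠ 1 := by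
    intro h
    rw [orderOf_eq_one_iff] at h
    apply hxy; rw [h, one_mul, mul_one]
  obtain ⟨p, hp, hpx⟩ := Nat.exists_prime_and_dvd hx1
  haveI : Fact p.Prime := ⟨hp⟩
  have hcp : orderOf c = p := orderOf_eq_prime (key_x p hp hpx) hc1
  have hcpow : c ^ p = 1 := key_x p hp hpx
  have hux : ∀ {r : ℕ}, r.Prime → r ∣ orderOf x → r = p := by
    intro r hr hrx
    haveI : Fact r.Prime := ⟨hr⟩
    have := orderOf_eq_prime (key_x r hr hrx) hc1
    rw [hcp] at this; exact this.symm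
  have huy : ∀ {r : ℕ}, r.Prime → r ∣ orderOf y → r = p := by
    intro r hr hry
    haveI : Fact r.Prime := ⟨hr⟩
    have := orderOf_eq_prime (key_y r hr hry) hc1
    rw [hcp] at this; exact this.symm
  obtain ⟨m, hm⟩ : ∃ m, orderOf x = p ^ m := ⟨_, Nat.eq_prime_pow_of_unique_prime_dvd hox.ne' hux⟩
  obtain ⟨n, hn'⟩ : ∃ n, orderOf y = p ^ n := ⟨_, Nat.eq_prime_pow_of_unique_prime_dvd hoy.ne' huy⟩
  have hm1 : 1 ≤ m := by
    rcases Nat.eq_zero_or_pos m with h | h
    · rw [h, pow_zero] at hm; exact absurd hm hx1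
    · exact h
  have hn1 : 1 ≤ n := by
    rcases Nat.eq_zero_or_pos n with h | h
    · rw [h, pow_zero] at hn'; exact absurd hn' hy1
    · exact h
  have hnm : n ≤ m := by
    rw [hm, hn'] at hle
    exact (Nat.pow_le_pow_iff_right hp.one_lt).mp hle
  set a := x ^ p ^ (m - 1) with hadef
  set b := y ^ p ^ (n - 1) with hbdef
  have hza : zpowers c = zpowers a := zpowers_eq_of_prime_pow_order hm1 hm hcx hcpow hc1
  have hzb : zpowers c = zpowers b := zpowers_eq_of_prime_pow_order hn1 hn' hcy hcpow hc1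
  have hba : b ∈ zpowers a := by rw [← hza, hzb]; exact mem_zpowers b
  obtain ⟨t, ht⟩ : ∃ t : ℕ, a ^ t = b := by
    rw [← mem_powers_iff_mem_zpowers] at hba
    exact (Submonoid.mem_powers_iff _ _).mp hba
  set k := t * p ^ (m - n) with hkdef
  set u := (x ^ k)⁻¹ with hudef
  have hux' : Commute u x := ((Commute.refl x).pow_left k).inv_left
  have hy₁ : x * (u * y) ≠ u * y * x := by
    intro h
    apply hxy
    have h2 : u * (x * y) = u * (y * x) := by
      calc u * (x * y) = x * (u * y) := by rw [← mul_assoc, hux'.eq, mul_assoc]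
        _ = u * y * x := h
        _ = u * (y * x) := mul_assoc _ _ _
    exact mul_left_cancel h2
  have hord : orderOf y ≤ orderOf (u * y) := by
    have := hmin x (u * y) hy₁
    omega
  have hyu : ⁅y, u⁆ = c ^ k := by
    have h1 : ⁅x ^ k, y⁆ = c ^ k := comm_pow_left_of_commute hccx k
    have hdX : Commute (c ^ k) (x ^ k) := (hccx.pow_right k).pow_left k
    calc ⁅y, u⁆ = (x ^ k)⁻¹ * ⁅x ^ k, y⁆ * x ^ k := by
          simp only [hudef, commutatorElement_def]; group
      _ = (x ^ k)⁻¹ * c ^ k * x ^ k := by rw [h1]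
      _ = c ^ k := by rw [mul_assoc, hdX.eq, inv_mul_cancel_left]
  have hcu : Commute ⁅y, u⁆ u := by
    rw [hyu]
    exact ((hccx.pow_right k).pow_left k).inv_right
  have hcy' : Commute ⁅y, u⁆ y := by
    rw [hyu]; exact hccy.pow_left k
  have hpow := mul_pow_class_two hcu hcy' (p ^ (n - 1))
  have hupow : u ^ p ^ (n - 1) = b⁻¹ := by
    rw [hudef, inv_pow, ← pow_mul, hkdef, ← ht, hadef, ← pow_mul]
    congr 2
    rw [mul_assoc, ← pow_add, mul_comm]
    congr 2
    omega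
  set C := (p ^ (n - 1)).choose 2 with hCdef
  have hy₁pow : (u * y) ^ p ^ (n - 1) = c ^ (k * C) := by
    rw [hpow, hupow, ← hbdef, inv_mul_cancel, one_mul, hyu, ← pow_mul]
  have hndiv : ¬ p ∣ k * C := by
    intro hdiv
    have h1 : (u * y) ^ p ^ (n - 1) = 1 := by
      rw [hy₁pow]
      apply orderOf_dvd_iff_pow_eq_one.mp
      rw [hcp]; exact hdiv
    have h2 : orderOf (u * y) ∣ p ^ (n - 1) := orderOf_dvd_of_pow_eq_one h1
    have h3 : orderOf (u * y) ≤ p ^ (n - 1) := Nat.le_of_dvd (pow_pos hp.pos _) h2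
    have h4 : p ^ (n - 1) < p ^ n := Nat.pow_lt_pow_right hp.one_lt (by omega)
    rw [hn'] at hord
    omega
  have hndivk : ¬ p ∣ k := fun h => hndiv (Dvd.dvd.mul_right h _)
  have hndivC : ¬ p ∣ C := fun h => hndiv (Dvd.dvd.mul_left h _)
  have hmn : m = n := by
    by_contra hne
    apply hndivk
    rw [hkdef]
    apply Dvd.dvd.mul_left
    exact dvd_pow_self p (by omega)
  have hp2 : p ^ (n - 1) = 2 := by
    by_contra hne
    apply hndivC
    rw [hCdef, hp.dvd_choose_pow_iff]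
    exact ⟨by norm_num, fun h => hne h.symm⟩
  have hp_eq : p = 2 := by
    have h1 : p ∣ 2 := by
      rw [← hp2]
      apply dvd_pow_self
      intro h0
      rw [h0, pow_zero] at hp2
      omega
    exact (Nat.prime_dvd_prime_iff_eq hp Nat.prime_two).mp h1
  have hn2 : n = 2 := by
    rw [hp_eq] at hp2
    have : n - 1 = 1 := Nat.pow_right_injective (le_refl 2) (by simpa using hp2)
    omega
  subst hmn
  rw [hp_eq, hn2] at hm hn'
  have hox4 : orderOf x = 4 := by rw [hm]; norm_num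
  have hoy4 : orderOf y = 4 := by rw [hn']; norm_num
  have ha2 : a = x ^ 2 := by rw [hadef, hp_eq, hn2]; norm_num
  have hb2 : b = y ^ 2 := by rw [hbdef, hp_eq, hn2]; norm_num
  have hx4 : x ^ 4 = 1 := by rw [← hox4]; exact pow_orderOf_eq_one x
  have hy4 : y ^ 4 = 1 := by rw [← hoy4]; exact pow_orderOf_eq_one y
  have hca : c = a := by
    apply eq_of_mem_zpowers_of_sq _ _ hc1
    · rw [ha2, ← pow_mul]; exact hx4
    · rw [← hza]; exact mem_zpowers c
  have hcb : c = b := by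
    apply eq_of_mem_zpowers_of_sq _ _ hc1
    · rw [hb2, ← pow_mul]; exact hy4
    · rw [← hzb]; exact mem_zpowers c
  refine ⟨hox4, hoy4, ?_, ?_⟩
  · rw [← ha2, ← hb2, ← hca, ← hcb]
  · rw [← ha2, ← hca]


theorem exists_minimal_pair (hna : ∃ x y : G, x * y ≠ y * x) :
    ∃ x y : G, x * y ≠ y * x ∧
      ∀ x' y' : G, x' * y' ≠ y' * x' → orderOf x + orderOf y ≤ orderOf x' + orderOf y' := by
  classical
  let P : ℕ → Prop := fun n => ∃ x y : G, x * y ≠ y * x ∧ orderOf x + orderOf y = n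
  have hP : ∃ n, P n := by obtain ⟨x, y, h⟩ := hna; exact ⟨_, x, y, h, rfl⟩
  obtain ⟨x, y, hxy, hsum⟩ := Nat.find_spec hP
  refine ⟨x, y, hxy, fun x' y' h => ?_⟩
  rw [hsum]
  exact Nat.find_min' hP ⟨x', y', h, rfl⟩

theorem card_mul_relIndex' {K L : Subgroup G} (h : K ≤ L) :
    Nat.card K * K.relIndex L = Nat.card L := by
  rw [← relIndex_bot_left, ← relIndex_bot_left]
  exact relIndex_mul_relIndex ⊥ K L bot_le h

theorem conj_eq_or_inv_of_order_four (hn : ∀ H : Subgroup G, H.Normal) {x : G}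
    (hox : orderOf x = 4) (g : G) : g * x * g⁻¹ = x ∨ g * x * g⁻¹ = x⁻¹ := by
  have hx4 : x ^ 4 = 1 := by rw [← hox]; exact pow_orderOf_eq_one x
  have hx2 : x ^ 2 ≠ 1 := pow_ne_one_of_lt_orderOf (by norm_num) (by rw [hox]; norm_num)
  have hx1 : x ≠ 1 := by
    intro h; rw [h, orderOf_one] at hox; omega
  have hmem : g * x * g⁻¹ ∈ zpowers x := (hn (zpowers x)).conj_mem _ (mem_zpowers x) g
  rw [← mem_powers_iff_mem_zpowers] at hmem
  obtain ⟨n, hn'⟩ := (Submonoid.mem_powers_iff _ _).mp hmem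
  have hmod : x ^ (n % 4) = g * x * g⁻¹ := by
    rw [← hn', ← hox, pow_mod_orderOf]
  have hlt : n % 4 < 4 := Nat.mod_lt _ (by norm_num)
  have hsq : (g * x * g⁻¹) ^ 2 ≠ 1 := by
    rw [conj_pow]
    intro h
    apply hx2
    have : x ^ 2 = g⁻¹ * (g * x ^ 2 * g⁻¹) * g := by group
    rw [this, h]; group
  interval_cases hr : n % 4
  · exfalso
    rw [pow_zero] at hmod
    apply hx1
    have : x = g⁻¹ * (g * x * g⁻¹) * g := by group
    rw [this, ← hmod]; group
  · left; rw [← hmod, pow_one]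
  · exfalso
    apply hsq
    rw [← hmod, ← pow_mul]; exact hx4
  · right
    rw [← hmod, eq_inv_iff_mul_eq_one, ← pow_succ]; exact hx4


theorem quat_rels {x y : G} (hoy : orderOf y = 4) (hsq : x ^ 2 = y ^ 2) (hc : ⁅x, y⁆ = x ^ 2) :
    y * x * y⁻¹ = x⁻¹ ∧ x * y * x⁻¹ = y⁻¹ := by
  have hy4 : y ^ 4 = 1 := by rw [← hoy]; exact pow_orderOf_eq_one y
  constructor
  · have h1 : y * x⁻¹ * y⁻¹ = x := by
      calc y * x⁻¹ * y⁻¹ = x⁻¹ * (x * y * x⁻¹ * y⁻¹) := by group
        _ = x⁻¹ * x ^ 2 := by rw [← commutatorElement_def, hc]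
        _ = x := by group
    have : y * x * y⁻¹ = (y * x⁻¹ * y⁻¹)⁻¹ := by group
    rw [this, h1]
  · calc x * y * x⁻¹ = (x * y * x⁻¹ * y⁻¹) * y := by group
      _ = y ^ 2 * y := by rw [← commutatorElement_def, hc, hsq]
      _ = y⁻¹ := by
        rw [← pow_succ, eq_inv_iff_mul_eq_one, ← pow_succ]; exact hy4

theorem card_closure_quat (hn : ∀ H : Subgroup G, H.Normal) {x y : G} (hox : orderOf x = 4)
    (hoy : orderOf y = 4) (hsq : x ^ 2 = y ^ 2) (hc : ⁅x, y⁆ = x ^ 2) :
    Nat.card (closure ({x, y} : Set G)) = 8 := by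
  have hx2 : x ^ 2 ≠ 1 := pow_ne_one_of_lt_orderOf (by norm_num) (by rw [hox]; norm_num)
  have hxy : x * y ≠ y * x := by
    intro h
    apply hx2
    rw [← hc]; exact commutatorElement_eq_one_iff_mul_comm.mpr h
  set K := zpowers x with hK
  set H := zpowers y with hH
  haveI : K.Normal := hn K
  have hcK : Nat.card K = 4 := by rw [hK, Nat.card_zpowers, hox]
  have hcH : Nat.card H = 4 := by rw [hH, Nat.card_zpowers, hoy]
  have hcmem : x ^ 2 ∈ K ⊓ H := by
    refine ⟨pow_mem (mem_zpowers x) 2, ?_⟩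
    rw [hsq]; exact pow_mem (mem_zpowers y) 2
  have hdvd : Nat.card ↥(K ⊓ H) ∣ 4 := by
    rw [← hcH]; exact Subgroup.card_dvd_of_le inf_le_right
  have hne1 : Nat.card ↥(K ⊓ H) ≠ 1 := by
    intro h
    have := Subgroup.eq_bot_of_card_eq _ h
    rw [this, mem_bot] at hcmem
    exact hx2 hcmem
  have hne4 : Nat.card ↥(K ⊓ H) ≠ 4 := by
    intro h
    have : K ⊓ H = H := Subgroup.eq_of_le_of_card_ge inf_le_right (by rw [h, hcH])
    have hyK : y ∈ K := by
      have : y ∈ K ⊓ H := by rw [this]; exact mem_zpowers y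
      exact this.1
    exact hxy (commute_of_mem_zpowers hyK).eq.symm
  have hc2 : Nat.card ↥(K ⊓ H) = 2 := by
    have h4 : (4 : ℕ) = 2 ^ 2 := by norm_num
    rw [h4] at hdvd
    obtain ⟨j, hj, hj'⟩ := (Nat.dvd_prime_pow Nat.prime_two).mp hdvd
    interval_cases j
    · exact absurd hj' hne1
    · simpa using hj'
    · exact absurd (by simpa using hj') hne4
  have hr1 : (K ⊓ H).relIndex H = 2 := by
    have := card_mul_relIndex' (inf_le_right : K ⊓ H ≤ H)
    rw [hc2, hcH] at this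
    omega
  have hr2 : K.relIndex (H ⊔ K) = 2 := by
    rw [relIndex_sup_right, ← inf_relIndex_right, hr1]
  have hcl : closure ({x, y} : Set G) = H ⊔ K := by
    rw [Set.insert_eq, Subgroup.closure_union, ← zpowers_eq_closure, ← zpowers_eq_closure, sup_comm]
  rw [hcl]
  have := card_mul_relIndex' (le_sup_right : K ≤ H ⊔ K)
  rw [hcK, hr2] at this
  omega

theorem nonempty_iso_quat (hn : ∀ H : Subgroup G, H.Normal) {x y : G} (hox : orderOf x = 4)
    (hoy : orderOf y = 4) (hsq : x ^ 2 = y ^ 2) (hc : ⁅x, y⁆ = x ^ 2) :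
    Nonempty (↥(closure ({x, y} : Set G)) ≃* QuaternionGroup 2) := by
  have hcard := card_closure_quat hn hox hoy hsq hc
  obtain ⟨h1, h2⟩ := quat_rels hoy hsq hc
  have hxQ : x ∈ closure ({x, y} : Set G) := subset_closure (by simp)
  have hyQ : y ∈ closure ({x, y} : Set G) := subset_closure (by simp)
  refine Helper70.nonempty_mulEquiv_quaternion hcard ⟨x, hxQ⟩ ⟨y, hyQ⟩ ?_ ?_ ?_ ?_
  · have := closure_closure_coe_preimage (k := ({x, y} : Set G))
    convert this using 2
    ext z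
    simp [Subtype.ext_iff]
  · apply Subtype.ext
    simp only [SubgroupClass.coe_pow, OneMemClass.coe_one]
    rw [← hox]; exact pow_orderOf_eq_one x
  · apply Subtype.ext
    simpa using h1
  · apply Subtype.ext
    simpa using hsq.symm


theorem quat2_pow_four (q : QuaternionGroup 2) : q ^ 4 = 1 := by
  revert q; decide

theorem quat2_sq_eq_one (q : QuaternionGroup 2) (h : q ^ 2 = 1) :
    q = 1 ∨ q = QuaternionGroup.a 2 := by
  revert q; decide

/-- `{g ∈ C | g ^ n = 1}` for an abelian subgroup `C`. -/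
def powTorsion (C : Subgroup G) (hC : ∀ g ∈ C, ∀ h ∈ C, g * h = h * g) (n : ℕ) : Subgroup G where
  carrier := {g | g ∈ C ∧ g ^ n = 1}
  one_mem' := ⟨C.one_mem, one_pow n⟩
  mul_mem' := by
    rintro a b ⟨ha, ha'⟩ ⟨hb, hb'⟩
    refine ⟨C.mul_mem ha hb, ?_⟩
    have : Commute a b := hC a ha b hb
    rw [this.mul_pow, ha', hb', one_mul]
  inv_mem' := by
    rintro a ⟨ha, ha'⟩
    exact ⟨C.inv_mem ha, by rw [inv_pow, ha', inv_one]⟩

theorem mem_powTorsion {C : Subgroup G} {hC : ∀ g ∈ C, ∀ h ∈ C, g * h = h * g} {n : ℕ} {g : G} :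
    g ∈ powTorsion C hC n ↔ g ∈ C ∧ g ^ n = 1 := Iff.rfl

theorem eq_one_of_sq_of_odd_pow {g : G} {m : ℕ} (hm : Odd m) (h2 : g ^ 2 = 1) (hgm : g ^ m = 1) :
    g = 1 := by
  obtain ⟨j, rfl⟩ := hm
  rw [pow_succ, pow_mul, h2, one_pow, one_mul] at hgm
  exact hgm


theorem hamiltonian_structure (hna : ¬ IsMulCommutative G) (hn : ∀ H : Subgroup G, H.Normal) :
    ∃ Q E A : Subgroup G, Nonempty (Q ≃* QuaternionGroup 2) ∧ Cfsg.IsElementaryAbelian 2 E ∧
      IsMulCommutative A ∧ Odd (Nat.card A) ∧ E ⊓ A = ⊥ ∧ Q ⊓ (E ⊔ A) = ⊥ ∧ Q ⊔ (E ⊔ A) = ⊤ := by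
  classical
  have hex : ∃ x y : G, x * y ≠ y * x := by
    by_contra h
    push Not at h
    exact hna ⟨⟨h⟩⟩
  obtain ⟨x, y, hxy, hmin⟩ := exists_minimal_pair hex
  obtain ⟨hox, hoy, hsq, hc⟩ := minimal_pair hn hxy hmin
  obtain ⟨hyx, hxy'⟩ := quat_rels hoy hsq hc
  have hx4 : x ^ 4 = 1 := by rw [← hox]; exact pow_orderOf_eq_one x
  have hy4 : y ^ 4 = 1 := by rw [← hoy]; exact pow_orderOf_eq_one y
  have hxyi : x * y⁻¹ * x⁻¹ = y := by
    have : x * y⁻¹ * x⁻¹ = (x * y * x⁻¹)⁻¹ := by group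
    rw [this, hxy', inv_inv]
  have hyxi : y * x⁻¹ * y⁻¹ = x := by
    have : y * x⁻¹ * y⁻¹ = (y * x * y⁻¹)⁻¹ := by group
    rw [this, hyx, inv_inv]
  set c := x ^ 2 with hcdef
  have hc1 : c ≠ 1 := pow_ne_one_of_lt_orderOf (by norm_num) (by rw [hox]; norm_num)
  have hc2 : c ^ 2 = 1 := by rw [hcdef, ← pow_mul]; exact hx4
  have hcc : x * y * x⁻¹ * y⁻¹ = c := by rw [← commutatorElement_def]; exact hc
  set Q := closure ({x, y} : Set G) with hQ
  set C := centralizer ({x, y} : Set G) with hC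
  have hxQ : x ∈ Q := subset_closure (by simp)
  have hyQ : y ∈ Q := subset_closure (by simp)
  have hcQ : c ∈ Q := Q.pow_mem hxQ 2
  have memC : ∀ g, g ∈ C ↔ x * g = g * x ∧ y * g = g * y := by
    intro g; rw [hC, mem_centralizer_iff]; simp
  have hQC : ∀ g : G, ∃ q ∈ Q, q * g ∈ C := by
    intro g
    have conj : ∀ q h : G, (q * g) * h * (q * g)⁻¹ = q * (g * h * g⁻¹) * q⁻¹ := by
      intros; group
    have toC : ∀ q : G, (q * g) * x * (q * g)⁻¹ = x → (q * g) * y * (q * g)⁻¹ = y →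
        q * g ∈ C := by
      intro q h1 h2
      rw [memC]
      constructor
      · rw [mul_inv_eq_iff_eq_mul] at h1; exact h1.symm
      · rw [mul_inv_eq_iff_eq_mul] at h2; exact h2.symm
    rcases conj_eq_or_inv_of_order_four hn hox g with hx | hx <;>
    rcases conj_eq_or_inv_of_order_four hn hoy g with hy | hy
    · exact ⟨1, Q.one_mem, toC 1 (by rw [conj, hx]; group) (by rw [conj, hy]; group)⟩
    · exact ⟨x, hxQ, toC x (by rw [conj, hx]; group) (by rw [conj, hy]; exact hxyi)⟩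
    · exact ⟨y, hyQ, toC y (by rw [conj, hx]; exact hyxi) (by rw [conj, hy]; group)⟩
    · refine ⟨x * y, Q.mul_mem hxQ hyQ, toC (x * y) ?_ ?_⟩
      · rw [conj, hx]
        calc x * y * x⁻¹ * (x * y)⁻¹ = x * (y * x⁻¹ * y⁻¹) * x⁻¹ := by group
          _ = x := by rw [hyxi]; group
      · rw [conj, hy]
        calc x * y * y⁻¹ * (x * y)⁻¹ = x * y⁻¹ * x⁻¹ := by group
          _ = y := hxyi
  have hC4 : ∀ g ∈ C, g ^ 4 = 1 → g ^ 2 = 1 := by
    intro g hg hg4
    obtain ⟨hgx, hgy⟩ := (memC g).mp hg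
    have hcomgy : Commute g y := hgy.symm
    set h := g * y with hh
    have hgc : g * c * g⁻¹ = c := by
      have : Commute g (x ^ 2) := (show Commute g x from hgx.symm).pow_right 2
      rw [hcdef, this.eq]; group
    have hxh : ⁅x, h⁆ = c := by
      rw [commutatorElement_def, hh]
      calc x * (g * y) * x⁻¹ * (g * y)⁻¹ = (x * g) * y * x⁻¹ * y⁻¹ * g⁻¹ := by group
        _ = (g * x) * y * x⁻¹ * y⁻¹ * g⁻¹ := by rw [hgx]
        _ = g * (x * y * x⁻¹ * y⁻¹) * g⁻¹ := by group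
        _ = c := by rw [hcc, hgc]
    have hcmem : c ∈ zpowers h := by rw [← hxh]; exact comm_mem_zpowers_right (hn _)
    have hh4 : h ^ 4 = 1 := by rw [hh, hcomgy.mul_pow, hg4, hy4, one_mul]
    rw [← mem_powers_iff_mem_zpowers] at hcmem
    obtain ⟨n, hn'⟩ := (Submonoid.mem_powers_iff _ _).mp hcmem
    have hmod : h ^ (n % 4) = c := by
      rw [← hn']
      conv_rhs => rw [← Nat.div_add_mod n 4]
      rw [pow_add, pow_mul, hh4, one_pow, one_mul]
    have hlt : n % 4 < 4 := Nat.mod_lt _ (by norm_num)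
    have hhc : h ≠ c := by
      intro e
      apply hxy
      have hg' : g = c * y⁻¹ := by rw [← e, hh]; group
      rw [hg'] at hgx
      have hcx : x * c = c * x := by rw [hcdef]; group
      have h5 : x * y⁻¹ = y⁻¹ * x := by
        have h3 : c * (x * y⁻¹) = c * (y⁻¹ * x) := by
          calc c * (x * y⁻¹) = x * (c * y⁻¹) := by rw [← mul_assoc, ← hcx, mul_assoc]
            _ = c * y⁻¹ * x := hgx
            _ = c * (y⁻¹ * x) := mul_assoc _ _ _
        exact mul_left_cancel h3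
      calc x * y = y * (y⁻¹ * x) * y := by group
        _ = y * (x * y⁻¹) * y := by rw [h5]
        _ = y * x := by group
    interval_cases hr : n % 4
    · exact absurd (by simpa using hmod.symm) hc1
    · exact absurd (by simpa using hmod) hhc
    · have h6 : g ^ 2 * y ^ 2 = c := by rw [← hcomgy.mul_pow]; exact hmod
      rw [← hsq] at h6
      exact mul_right_cancel (h6.trans (one_mul c).symm)
    · exfalso; apply hhc
      have h1 : h * c = 1 := by rw [← hmod, ← pow_succ']; exact hh4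
      have h2 : c * c = 1 := by rw [← pow_two]; exact hc2
      exact mul_right_cancel (h1.trans h2.symm)
  have hC2pow : ∀ k : ℕ, ∀ g ∈ C, g ^ 2 ^ k = 1 → g ^ 2 = 1 := by
    intro k
    induction k with
    | zero => intro g _ h; rw [pow_zero, pow_one] at h; rw [h, one_pow]
    | succ k ih =>
      intro g hg h
      rcases Nat.eq_zero_or_pos k with rfl | hk
      · simpa using h
      · obtain ⟨j, rfl⟩ : ∃ j, k = j + 1 := ⟨k - 1, by omega⟩
        have h4 : (g ^ 2 ^ j) ^ 4 = 1 := by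
          rw [← pow_mul]
          have : 2 ^ j * 4 = 2 ^ (j + 1 + 1) := by ring
          rw [this]; exact h
        have h2 := hC4 _ (C.pow_mem hg _) h4
        apply ih g hg
        rw [← pow_mul] at h2
        have e : 2 ^ j * 2 = 2 ^ (j + 1) := by ring
        rwa [e] at h2
  have hCab : ∀ g ∈ C, ∀ h ∈ C, g * h = h * g := by
    by_contra hcon
    push Not at hcon
    obtain ⟨g, hg, h, hh, hgh⟩ := hcon
    have hnC : ∀ H : Subgroup ↥C, H.Normal := by
      intro H
      have h1 : (H.map C.subtype).Normal := hn _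
      have h2 : H = (H.map C.subtype).comap C.subtype :=
        (comap_map_eq_self_of_injective C.subtype_injective H).symm
      rw [h2]
      exact h1.comap _
    have hexC : ∃ a b : ↥C, a * b ≠ b * a :=
      ⟨⟨g, hg⟩, ⟨h, hh⟩, fun e => hgh (congrArg Subtype.val e)⟩
    obtain ⟨a, b, hab, hminC⟩ := exists_minimal_pair hexC
    obtain ⟨hoa, -, -, -⟩ := minimal_pair hnC hab hminC
    have ha4 : (a : G) ^ 4 = 1 := by
      have h1 : a ^ 4 = 1 := by rw [← hoa]; exact pow_orderOf_eq_one a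
      have h2 := congrArg Subtype.val h1
      simpa using h2
    have ha2 : (a : G) ^ 2 ≠ 1 := by
      have h1 : a ^ 2 ≠ 1 := pow_ne_one_of_lt_orderOf (by norm_num) (by rw [hoa]; norm_num)
      intro h; apply h1; apply Subtype.ext; simpa using h
    exact ha2 (hC4 a a.2 ha4)
  obtain ⟨v, m, hm, hN⟩ := Nat.exists_eq_two_pow_mul_odd (Nat.card_pos (α := G)).ne'
  set A := powTorsion C hCab m with hA
  set C₂ := powTorsion C hCab 2 with hC₂
  have hcC : c ∈ C := by
    rw [memC]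
    constructor
    · rw [hcdef]; group
    · rw [hsq]; group
  have hcC₂ : c ∈ C₂ := ⟨hcC, hc2⟩
  have hfin : {H : Subgroup G | H ≤ C₂ ∧ c ∉ H}.Finite := Set.toFinite _
  have hne : {H : Subgroup G | H ≤ C₂ ∧ c ∉ H}.Nonempty :=
    ⟨⊥, bot_le, by rw [mem_bot]; exact hc1⟩
  obtain ⟨E, ⟨hEC, hcE⟩, hEmax⟩ := Set.exists_max_image {H : Subgroup G | H ≤ C₂ ∧ c ∉ H}
    (fun H : Subgroup G => Nat.card H) hfin hne
  have hC₂E : C₂ ≤ E ⊔ zpowers c := by
    intro g hg
    by_cases hgE : g ∈ E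
    · exact le_sup_left (a := E) hgE
    · have hle : E ⊔ zpowers g ≤ C₂ := sup_le hEC (zpowers_le.mpr hg)
      have hcmem : c ∈ E ⊔ zpowers g := by
        by_contra hcn
        have h1 := hEmax (E ⊔ zpowers g) ⟨hle, hcn⟩
        have h2 : E = E ⊔ zpowers g := Subgroup.eq_of_le_of_card_ge le_sup_left h1
        apply hgE
        rw [h2]
        exact le_sup_right (a := E) (mem_zpowers g)
      haveI : (zpowers g).Normal := hn _
      have hcmem' : c ∈ ((E ⊔ zpowers g : Subgroup G) : Set G) := hcmem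
      rw [Subgroup.mul_normal] at hcmem'
      obtain ⟨e, he, w, hw, hew⟩ := Set.mem_mul.mp hcmem'
      have hw' : w = 1 ∨ w = g := by
        by_cases hw1 : w = 1
        · left; exact hw1
        · right; exact eq_of_mem_zpowers_of_sq hg.2 hw hw1
      rcases hw' with rfl | rfl
      · exfalso; apply hcE; rw [← hew, mul_one]; exact he
      · have : w = e⁻¹ * c := by rw [← hew]; group
        rw [this]
        exact (E ⊔ zpowers c).mul_mem (le_sup_left (a := E) (E.inv_mem he))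
          (le_sup_right (a := E) (mem_zpowers c))
  have hgN : ∀ g : G, g ^ (2 ^ v * m) = 1 := by
    intro g; rw [← hN]; exact pow_card_eq_one'
  have hdec : ∀ g ∈ C, ∃ e ∈ C₂, ∃ a ∈ A, g = e * a := by
    intro g hg
    have hcop : Nat.Coprime (2 ^ v) m := Nat.Coprime.pow_left v (Nat.coprime_two_left.mpr hm)
    have hb := Nat.gcd_eq_gcd_ab (2 ^ v) m
    rw [hcop] at hb
    set s := Nat.gcdA (2 ^ v) m
    set t := Nat.gcdB (2 ^ v) m
    have hgm2 : (g ^ m) ^ 2 = 1 := by
      apply hC2pow v _ (C.pow_mem hg m)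
      rw [← pow_mul, mul_comm]; exact hgN g
    refine ⟨(g ^ m) ^ t, ⟨C.zpow_mem (C.pow_mem hg m) t, ?_⟩, (g ^ 2 ^ v) ^ s,
      ⟨C.zpow_mem (C.pow_mem hg _) s, ?_⟩, ?_⟩
    · rw [← zpow_natCast, ← zpow_mul, mul_comm, zpow_mul, zpow_natCast, hgm2, one_zpow]
    · rw [← zpow_natCast, ← zpow_mul, mul_comm, zpow_mul, zpow_natCast, ← pow_mul, hgN g, one_zpow]
    · have h1 : g = g ^ (1 : ℤ) := (zpow_one g).symm
      have h2 : ((1 : ℕ) : ℤ) = 1 := rfl
      rw [h2] at hb
      conv_lhs => rw [h1, hb]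
      rw [zpow_add, zpow_mul, zpow_mul, ← zpow_natCast g m, ← zpow_natCast g (2 ^ v)]
      have hcomm : Commute ((g ^ ((m : ℕ) : ℤ)) ^ t) ((g ^ ((2 ^ v : ℕ) : ℤ)) ^ s) :=
        (((Commute.refl g).zpow_left _).zpow_right _).zpow_left _ |>.zpow_right _
      push_cast
      push_cast at hcomm
      exact hcomm.eq.symm
  have hAcomm : IsMulCommutative A := ⟨⟨fun a b => Subtype.ext (hCab a a.2.1 b b.2.1)⟩⟩
  have hEelem : Cfsg.IsElementaryAbelian 2 E :=
    ⟨⟨⟨fun a b => Subtype.ext (hCab _ (hEC a.2).1 _ (hEC b.2).1)⟩⟩, fun a ha => (hEC ha).2⟩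
  have hAodd : Odd (Nat.card A) := by
    by_contra hodd
    rw [Nat.not_odd_iff_even] at hodd
    haveI : Fact (Nat.Prime 2) := ⟨Nat.prime_two⟩
    obtain ⟨a, ha⟩ := exists_prime_orderOf_dvd_card' 2 (even_iff_two_dvd.mp hodd)
    have ha2 : (a : G) ^ 2 = 1 := by
      have h1 : a ^ 2 = 1 := by rw [← ha]; exact pow_orderOf_eq_one a
      have h2 := congrArg Subtype.val h1
      simpa using h2
    have ha1 : (a : G) = 1 := eq_one_of_sq_of_odd_pow hm ha2 a.2.2
    have : a = 1 := Subtype.ext ha1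
    rw [this, orderOf_one] at ha
    omega
  have hEA : E ⊓ A = ⊥ := by
    rw [eq_bot_iff]
    rintro g ⟨hgE, hgA⟩
    rw [mem_bot]
    exact eq_one_of_sq_of_odd_pow hm (hEC hgE).2 hgA.2
  obtain ⟨φ⟩ := nonempty_iso_quat hn hox hoy hsq hc
  have hQ4 : ∀ g ∈ Q, g ^ 4 = 1 := by
    intro g hg
    have h1 := quat2_pow_four (φ ⟨g, hg⟩)
    rw [← map_pow, map_eq_one_iff φ φ.injective] at h1
    have h2 := congrArg Subtype.val h1
    simpa using h2
  have hQ2 : ∀ g ∈ Q, g ^ 2 = 1 → g = 1 ∨ g = c := by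
    intro g hg hg2
    have key : ∀ w : ↥Q, w ^ 2 = 1 → w ≠ 1 → φ w = QuaternionGroup.a 2 := by
      intro w hw hw1
      have h1 : (φ w) ^ 2 = 1 := by rw [← map_pow, hw, map_one]
      rcases quat2_sq_eq_one _ h1 with h | h
      · exfalso; exact hw1 ((map_eq_one_iff φ φ.injective).mp h)
      · exact h
    by_cases hg1 : g = 1
    · left; exact hg1
    · right
      have h1 : φ ⟨g, hg⟩ = QuaternionGroup.a 2 :=
        key ⟨g, hg⟩ (Subtype.ext (by simpa using hg2)) (fun h => hg1 (congrArg Subtype.val h))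
      have h2 : φ ⟨c, hcQ⟩ = QuaternionGroup.a 2 :=
        key ⟨c, hcQ⟩ (Subtype.ext (by simpa using hc2)) (fun h => hc1 (congrArg Subtype.val h))
      have h3 := φ.injective (h1.trans h2.symm)
      exact congrArg Subtype.val h3
  refine ⟨Q, E, A, ⟨φ⟩, hEelem, hAcomm, hAodd, hEA, ?_, ?_⟩
  · rw [eq_bot_iff]
    rintro g ⟨hgQ, hgEA⟩
    rw [mem_bot]
    haveI : A.Normal := hn A
    have hgEA' : g ∈ ((E ⊔ A : Subgroup G) : Set G) := hgEA
    rw [Subgroup.mul_normal] at hgEA'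
    obtain ⟨e, he, a, ha, rfl⟩ := Set.mem_mul.mp hgEA'
    have hea : Commute e a := hCab e (hEC he).1 a ha.1
    have he2 : e ^ 2 = 1 := (hEC he).2
    have h4 := hQ4 _ hgQ
    rw [hea.mul_pow] at h4
    have he4 : e ^ 4 = 1 := by
      have : e ^ 4 = (e ^ 2) ^ 2 := by rw [← pow_mul]
      rw [this, he2, one_pow]
    rw [he4, one_mul] at h4
    have ha2 : a ^ 2 = 1 := by
      apply eq_one_of_sq_of_odd_pow hm
      · rw [← pow_mul]; exact h4
      · rw [← pow_mul, mul_comm, pow_mul, ha.2, one_pow]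
    have ha1 : a = 1 := eq_one_of_sq_of_odd_pow hm ha2 ha.2
    rw [ha1, mul_one] at hgQ ⊢
    rcases hQ2 e hgQ he2 with h | h
    · exact h
    · exfalso; apply hcE; rw [← h]; exact he
  · rw [eq_top_iff]
    intro g _
    obtain ⟨q, hq, hqg⟩ := hQC g
    obtain ⟨e, he, a, ha, hea⟩ := hdec _ hqg
    have hg : g = q⁻¹ * (e * a) := by rw [← hea]; group
    rw [hg]
    have hEle : E ⊔ zpowers c ≤ Q ⊔ (E ⊔ A) :=
      sup_le (le_sup_left.trans le_sup_right) ((zpowers_le.mpr hcQ).trans le_sup_left)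
    refine (Q ⊔ (E ⊔ A)).mul_mem (le_sup_left (a := Q) (Q.inv_mem hq)) ?_
    refine (Q ⊔ (E ⊔ A)).mul_mem (hEle (hC₂E he)) ?_
    exact le_sup_right (a := Q) (le_sup_right (a := E) ha)

end Dedekind2

end Cfsg.Agent.Helper51
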