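import Mathlib
import Cfsg.Agent.Helper65.MaxClass2

set_option autoImplicit false

/-! # Centre and second centre of a `p`-group of maximal class -/

namespace Cfsg.Agent.Helper51.MaxClassZ2

universe u

theorem not_comm_of_class {G : Type u} [Group G] [Group.IsNilpotent G]
    (h : 2 ≤ Group.nilpotencyClass G) : ¬ IsMulCommutative G := by
  intro hc
  have h1 : Subgroup.upperCentralSeries G 1 = ⊤ := by
    rw [Subgroup.upperCentralSeries_one]
    rw [Subgroup.eq_top_iff']
    intro x
    rw [Subgroup.mem_center_iff]
    intro y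
    exact hc.is_comm.comm y x
  have h2 := Subgroup.upperCentralSeries_eq_top_iff_nilpotencyClass_le.mp h1
  omega

/-- In a group of order `p^n`, `n ≥ 4`, of class at least `n-1`, the centre has order `p` and the second centre has
order `p^2`. -/
theorem card_center_and_second {G : Type u} [Group G] [Finite G] {p : ℕ} [hp : Fact p.Prime] {n : ℕ}
    (hcard : Nat.card G = p ^ n) (h4 : 4 ≤ n) (hcl : n - 1 ≤ Group.nilpotencyClass G) :
    Nat.card (Subgroup.center G) = p ∧ Nat.card (Subgroup.upperCentralSeries G 2) = p ^ 2 := by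
  have hpG : IsPGroup p G := IsPGroup.of_card hcard
  have : Group.IsNilpotent G := hpG.isNilpotent
  have hna : ¬ IsMulCommutative G := not_comm_of_class (by omega)
  have hZ : Nat.card (Subgroup.center G) = p := Cfsg.Agent.Helper65.card_center_of_maxClass hcard hna hcl
  refine ⟨hZ, ?_⟩
  obtain ⟨m, rfl⟩ : ∃ m, n = m + 1 := ⟨n - 1, by omega⟩
  obtain ⟨hQ, hclQ⟩ := Cfsg.Agent.Helper65.quotient_center_of_maxClass hcard hna (by simpa using hcl)
  have hpQ : IsPGroup p (G ⧸ Subgroup.center G) := IsPGroup.of_card hQ
  have : Group.IsNilpotent (G ⧸ Subgroup.center G) := hpQ.isNilpotent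
  have hnaQ : ¬ IsMulCommutative (G ⧸ Subgroup.center G) := not_comm_of_class (by omega)
  have hZQ : Nat.card (Subgroup.center (G ⧸ Subgroup.center G)) = p :=
    Cfsg.Agent.Helper65.card_center_of_maxClass hQ hnaQ hclQ
  have hcomap : Subgroup.upperCentralSeries G 2 =
      (Subgroup.center (G ⧸ Subgroup.center G)).comap (QuotientGroup.mk' (Subgroup.center G)) := by
    have h := Subgroup.comap_upperCentralSeries_quotient_center (G := G) 1
    rw [Subgroup.upperCentralSeries_one] at h
    exact h.symm
  have hidx : (Subgroup.upperCentralSeries G 2).index = (Subgroup.center (G ⧸ Subgroup.center G)).index := by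
    rw [hcomap]
    exact Subgroup.index_comap_of_surjective _ (QuotientGroup.mk'_surjective _)
  have h1 := Subgroup.card_mul_index (Subgroup.upperCentralSeries G 2)
  have h2 := Subgroup.card_mul_index (Subgroup.center (G ⧸ Subgroup.center G))
  rw [hidx, hcard] at h1
  rw [hZQ, hQ] at h2
  -- p * idx = p^m, card * idx = p^(m+1)
  have hpos : 0 < p := hp.out.pos
  have hidxpos : 0 < (Subgroup.center (G ⧸ Subgroup.center G)).index := by
    rcases Nat.eq_zero_or_pos (Subgroup.center (G ⧸ Subgroup.center G)).index with h0 | h0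
    · rw [h0, mul_zero] at h2
      exact absurd h2.symm (pow_pos hpos m).ne'
    · exact h0
  have h3 : Nat.card (Subgroup.upperCentralSeries G 2) * (Subgroup.center (G ⧸ Subgroup.center G)).index
      = p ^ 2 * (Subgroup.center (G ⧸ Subgroup.center G)).index := by
    rw [h1]
    calc p ^ (m + 1) = p * p ^ m := by ring
      _ = p * (p * (Subgroup.center (G ⧸ Subgroup.center G)).index) := by rw [h2]
      _ = p ^ 2 * (Subgroup.center (G ⧸ Subgroup.center G)).index := by ring
  exact Nat.eq_of_mul_eq_mul_right hidxpos h3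


/-- If `|Z(G)| = p` and `|Z₂(G)| = p²` then `Z₂(G)` is abelian, and its centralizer is a proper subgroup such that every
subgroup strictly containing it is the whole group. -/
theorem centralizer_second_center {G : Type u} [Group G] [Finite G] {p : ℕ} [hp : Fact p.Prime]
    (hZ : Nat.card (Subgroup.center G) = p) (hZ2 : Nat.card (Subgroup.upperCentralSeries G 2) = p ^ 2) :
    Subgroup.upperCentralSeries G 2 ≤ Subgroup.centralizer (Subgroup.upperCentralSeries G 2 : Set G) ∧
    Subgroup.centralizer (Subgroup.upperCentralSeries G 2 : Set G) ≠ ⊤ ∧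
    ∀ N : Subgroup G, Subgroup.centralizer (Subgroup.upperCentralSeries G 2 : Set G) ≤ N →
      (∃ g ∈ N, g ∉ Subgroup.centralizer (Subgroup.upperCentralSeries G 2 : Set G)) → N = ⊤ := by
  set Z2 := Subgroup.upperCentralSeries G 2 with hZ2def
  have hZle : Subgroup.center G ≤ Z2 := by
    rw [← Subgroup.upperCentralSeries_one]
    exact Subgroup.upperCentralSeries_mono G (by norm_num)
  -- Z2 is abelian
  have hab : ∀ a b : Z2, a * b = b * a := fun a b =>
    (IsPGroup.isMulCommutative_of_card_eq_prime_sq hZ2).is_comm.comm a b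
  have hZ2C : Z2 ≤ Subgroup.centralizer (Z2 : Set G) := by
    intro x hx
    rw [Subgroup.mem_centralizer_iff]
    intro y hy
    have := hab ⟨y, hy⟩ ⟨x, hx⟩
    exact congrArg Subtype.val this
  -- an element of Z2 outside the centre
  have hp1 : 1 < p := hp.out.one_lt
  obtain ⟨t, htZ2, htZ⟩ : ∃ t ∈ Z2, t ∉ Subgroup.center G := by
    by_contra hcon
    simp only [not_exists, not_and, not_not] at hcon
    have hle : Z2 ≤ Subgroup.center G := fun x hx => hcon x hx
    have := Subgroup.card_le_of_le hle
    rw [hZ, hZ2] at this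
    nlinarith
  have htc : ∀ g : G, g * t * g⁻¹ * t⁻¹ ∈ Subgroup.center G := by
    intro g
    have h1 := (Subgroup.mem_upperCentralSeries_succ_iff).mp (show t ∈ Subgroup.upperCentralSeries G (1 + 1) from htZ2) g
    rw [Subgroup.upperCentralSeries_one] at h1
    have h2 := (Subgroup.center G).inv_mem h1
    rw [commutatorElement_inv, commutatorElement_def] at h2
    exact h2
  -- the commutator homomorphism
  let f : G →* Subgroup.center G := MonoidHom.mk' (fun g => ⟨g * t * g⁻¹ * t⁻¹, htc g⟩) (by
    intro g h
    apply Subtype.ext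
    show g * h * t * (g * h)⁻¹ * t⁻¹ = (g * t * g⁻¹ * t⁻¹) * (h * t * h⁻¹ * t⁻¹)
    have hc := Subgroup.mem_center_iff.mp (htc h) g
    have hc2 := Subgroup.mem_center_iff.mp (htc h) (g * t * g⁻¹ * t⁻¹)
    -- hc : g * c = c * g
    have e1 : g * h * t * (g * h)⁻¹ * t⁻¹ = g * (h * t * h⁻¹ * t⁻¹) * t * g⁻¹ * t⁻¹ := by group
    rw [e1, hc, hc2]
    group)
  have hfker : f.ker = Subgroup.centralizer (Z2 : Set G) := by
    ext g
    rw [MonoidHom.mem_ker]
    constructor
    · intro hg
      have hgt : g * t = t * g := by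
        have h1 : g * t * g⁻¹ * t⁻¹ = 1 := congrArg Subtype.val hg
        have : g * t = (g * t * g⁻¹ * t⁻¹) * (t * g) := by group
        rw [this, h1, one_mul]
      -- K = centralizer {g} ⊓ Z2
      let K : Subgroup G := Subgroup.centralizer {g} ⊓ Z2
      have hKZ2 : K ≤ Z2 := inf_le_right
      have hZK : Subgroup.center G ≤ K := by
        intro z hz
        refine Subgroup.mem_inf.mpr ⟨?_, hZle hz⟩
        rw [Subgroup.mem_centralizer_iff]
        intro y hy
        rw [Set.mem_singleton_iff] at hy
        subst hy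
        exact (Subgroup.mem_center_iff.mp hz y)
      have htK : t ∈ K := by
        refine Subgroup.mem_inf.mpr ⟨?_, htZ2⟩
        rw [Subgroup.mem_centralizer_iff]
        intro y hy
        rw [Set.mem_singleton_iff] at hy
        subst hy
        exact hgt
      have hdvd : Nat.card K ∣ p ^ 2 := by
        rw [← hZ2]
        exact Subgroup.card_dvd_of_le hKZ2
      obtain ⟨k, hk2, hk⟩ := (Nat.dvd_prime_pow hp.out).mp hdvd
      have hcardle : p ≤ Nat.card K := by
        rw [← hZ]; exact Subgroup.card_le_of_le hZK
      have hk' : k = 2 := by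
        interval_cases k
        · rw [pow_zero] at hk; omega
        · exfalso
          rw [pow_one] at hk
          have : Subgroup.center G = K := Subgroup.eq_of_le_of_card_ge hZK (by rw [hk, hZ])
          exact htZ (this ▸ htK)
        · rfl
      have hKeq : K = Z2 := Subgroup.eq_of_le_of_card_ge hKZ2 (by rw [hk, hk', hZ2])
      rw [Subgroup.mem_centralizer_iff]
      intro y hy
      have hyK : y ∈ K := hKeq ▸ hy
      have := Subgroup.mem_centralizer_iff.mp hyK.1 g (Set.mem_singleton g)
      exact this.symm
    · intro hg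
      apply Subtype.ext
      show g * t * g⁻¹ * t⁻¹ = 1
      have := Subgroup.mem_centralizer_iff.mp hg t htZ2
      -- this : t * g = g * t
      rw [← this]
      group
  have hne : Subgroup.centralizer (Z2 : Set G) ≠ ⊤ := by
    intro htop
    apply htZ
    rw [Subgroup.mem_center_iff]
    intro g
    have hg : g ∈ Subgroup.centralizer (Z2 : Set G) := htop ▸ Subgroup.mem_top g
    exact (Subgroup.mem_centralizer_iff.mp hg t htZ2).symm
  have hidx : (Subgroup.centralizer (Z2 : Set G)).index = p := by
    have h1 : f.ker.index = Nat.card f.range := Subgroup.index_ker f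
    have h2 : Nat.card f.range ∣ p := by
      rw [← hZ]; exact Subgroup.card_subgroup_dvd_card f.range
    rw [hfker] at h1
    rcases (Nat.dvd_prime hp.out).mp h2 with h3 | h3
    · exfalso
      rw [h3] at h1
      exact hne (Subgroup.index_eq_one.mp h1)
    · rw [h1, h3]
  refine ⟨hZ2C, hne, ?_⟩
  intro N hCN ⟨g, hgN, hgC⟩
  have h1 := Subgroup.relIndex_mul_index hCN
  rw [hidx] at h1
  have h2 : (Subgroup.centralizer (Z2 : Set G)).relIndex N ∣ p := Dvd.intro _ h1
  rcases (Nat.dvd_prime hp.out).mp h2 with h3 | h3
  · exfalso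
    exact hgC (Subgroup.relIndex_eq_one.mp h3 hgN)
  · rw [h3] at h1
    have h4 : N.index = 1 := by
      have hp0 : 0 < p := hp.out.pos
      nlinarith [Nat.eq_of_mul_eq_mul_left hp0 (by rw [h1, mul_one] : p * N.index = p * 1)]
    exact Subgroup.index_eq_one.mp h4

end Cfsg.Agent.Helper51.MaxClassZ2
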