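import Mathlib

/-!
# The relative norm map on an abelian normal subgroup (helper51)

For a finite group `N`, a subgroup `P` and an abelian normal subgroup `Y`, the map
`T y = ∏_{q ∈ N/P} t_q y t_q⁻¹` (`t_q` coset representatives) is an endomorphism of `Y`.  On elements
centralized by `P` its values are central in `N`, and on central elements it is the `[N : P]`-th power map.
Consequence (`exists_complement`): if `P` is a `p`-subgroup of index prime to `p` with
`Z(P) ≤ Y ≤ P`, then `P ∩ Z(N)` is a direct factor of `Z(P)`.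
-/

set_option autoImplicit false
set_option linter.unusedSectionVars false

namespace Cfsg.Agent.Helper51.NormMap

open Subgroup
open scoped IsMulCommutative

variable {N : Type*} [Group N] [Finite N]

noncomputable local instance quotFintype (P : Subgroup N) : Fintype (N ⧸ P) := Fintype.ofFinite _

/-- the relative norm map `Y → Y` -/
noncomputable def nrm (P Y : Subgroup N) [Y.Normal] [IsMulCommutative Y] : Y →* Y where
  toFun y := ∏ q : N ⧸ P, MulAut.conjNormal (Quotient.out q : N) y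
  map_one' := by simp
  map_mul' a b := by simp [Finset.prod_mul_distrib]

theorem nrm_apply (P Y : Subgroup N) [Y.Normal] [IsMulCommutative Y] (y : Y) :
    nrm P Y y = ∏ q : N ⧸ P, MulAut.conjNormal (Quotient.out q : N) y := rfl

/-- on elements fixed by `P`, the values of the norm map are fixed by `N` -/
theorem conj_nrm (P Y : Subgroup N) [Y.Normal] [IsMulCommutative Y] (y : Y)
    (hy : ∀ s ∈ P, MulAut.conjNormal s y = y) (n : N) :
    MulAut.conjNormal n (nrm P Y y) = nrm P Y y := by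
  rw [nrm_apply, map_prod]
  have h1 : ∀ q : N ⧸ P, MulAut.conjNormal n (MulAut.conjNormal (Quotient.out q : N) y) =
      MulAut.conjNormal (Quotient.out (n • q) : N) y := by
    intro q
    set s : N := (Quotient.out (n • q) : N)⁻¹ * (n * Quotient.out q) with hs
    have hsP : s ∈ P := by
      rw [hs, ← QuotientGroup.eq]
      have h2 : ((Quotient.out (n • q) : N) : N ⧸ P) = n • q := Quotient.out_eq' _
      have h3 : ((n * Quotient.out q : N) : N ⧸ P) = n • q := by
        conv_rhs => rw [← Quotient.out_eq' q]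
        rfl
      rw [h2, h3]
    have h4 : n * Quotient.out q = Quotient.out (n • q) * s := by
      rw [hs]; group
    rw [← MulAut.mul_apply, ← map_mul, h4, map_mul, MulAut.mul_apply, hy s hsP]
  rw [Finset.prod_congr rfl (fun q _ => h1 q)]
  exact Fintype.prod_equiv (MulAction.toPerm n) _ _ (fun q => rfl)

/-- on elements fixed by `N`, the norm map is the `[N : P]`-th power map -/
theorem nrm_of_fixed (P Y : Subgroup N) [Y.Normal] [IsMulCommutative Y] (y : Y)
    (hy : ∀ n : N, MulAut.conjNormal n y = y) : nrm P Y y = y ^ P.index := by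
  rw [nrm_apply]
  simp only [hy, Finset.prod_const, Finset.card_univ]
  rw [Subgroup.index_eq_card, Nat.card_eq_fintype_card]

theorem conjNormal_eq_of_mem_centralizer (P Y : Subgroup N) [Y.Normal] {z : N} (hzY : z ∈ Y)
    (hz : z ∈ centralizer (P : Set N)) : ∀ s ∈ P, MulAut.conjNormal s (⟨z, hzY⟩ : Y) = ⟨z, hzY⟩ := by
  intro s hs
  apply Subtype.ext
  rw [MulAut.conjNormal_apply]
  have := (mem_centralizer_iff.mp hz) s hs
  show s * z * s⁻¹ = z
  rw [this]; group

theorem conjNormal_eq_of_mem_center (Y : Subgroup N) [Y.Normal] {z : N} (hzY : z ∈ Y)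
    (hz : z ∈ center N) : ∀ n : N, MulAut.conjNormal n (⟨z, hzY⟩ : Y) = ⟨z, hzY⟩ := by
  intro n
  apply Subtype.ext
  rw [MulAut.conjNormal_apply]
  have := (mem_center_iff.mp hz) n
  show n * z * n⁻¹ = z
  rw [this]; group

theorem mem_center_of_conjNormal_eq (Y : Subgroup N) [Y.Normal] (t : Y)
    (ht : ∀ n : N, MulAut.conjNormal n t = t) : (t : N) ∈ center N := by
  rw [mem_center_iff]
  intro n
  have h1 := congrArg Subtype.val (ht n)
  rw [MulAut.conjNormal_apply] at h1
  calc n * (t : N) = n * (t : N) * n⁻¹ * n := by group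
    _ = (t : N) * n := by rw [h1]

/-- **Direct factor lemma.** If `P` is a `p`-subgroup of index prime to `p` and `Z(P) ≤ Y ≤ P` for an abelian
normal subgroup `Y`, then `P ∩ Z(N)` is a direct factor of `Z(P)`. -/
theorem exists_complement {p : ℕ} [hp : Fact p.Prime] (P Y : Subgroup N) [Y.Normal]
    [IsMulCommutative Y] (hP : IsPGroup p P) (hidx : ¬ p ∣ P.index) (hYP : Y ≤ P)
    (hZY : P ⊓ centralizer (P : Set N) ≤ Y) :
    ∃ K : Subgroup N, K ≤ P ⊓ centralizer (P : Set N) ∧ (P ⊓ center N) ⊓ K = ⊥ ∧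
      (P ⊓ center N) ⊔ K = P ⊓ centralizer (P : Set N) ∧
      ∀ z ∈ P ⊓ centralizer (P : Set N), ∃ w ∈ P ⊓ center N, ∃ k ∈ K, z = w * k := by
  have hWZ : P ⊓ center N ≤ P ⊓ centralizer (P : Set N) :=
    inf_le_inf_left P (Subgroup.center_le_centralizer _)
  have hcop : Nat.Coprime p P.index := (Nat.Prime.coprime_iff_not_dvd hp.out).mpr hidx
  -- values of the norm map on `Z(P)` lie in `W`
  have hval : ∀ (z : N) (hz : z ∈ P ⊓ centralizer (P : Set N)),
      ((nrm P Y ⟨z, hZY hz⟩ : Y) : N) ∈ P ⊓ center N := by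
    intro z hz
    refine mem_inf.mpr ⟨hYP (nrm P Y ⟨z, hZY hz⟩).2, ?_⟩
    apply mem_center_of_conjNormal_eq
    intro n
    exact conj_nrm P Y _ (conjNormal_eq_of_mem_centralizer P Y (hZY hz) (mem_inf.mp hz).2) n
  -- on `W` it is the power map
  have hpow : ∀ (w : N) (hw : w ∈ P ⊓ center N),
      ((nrm P Y ⟨w, hZY (hWZ hw)⟩ : Y) : N) = w ^ P.index := by
    intro w hw
    rw [nrm_of_fixed P Y _ (conjNormal_eq_of_mem_center Y (hZY (hWZ hw)) (mem_inf.mp hw).2)]
    rfl
  have hdec : ∀ z ∈ P ⊓ centralizer (P : Set N), ∃ w ∈ P ⊓ center N,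
      ∃ k ∈ (P ⊓ centralizer (P : Set N)) ⊓ (nrm P Y).ker.map Y.subtype, z = w * k := by
    intro z hz
    set t : Y := nrm P Y ⟨z, hZY hz⟩ with ht
    have htW : (t : N) ∈ P ⊓ center N := hval z hz
    have hWp : IsPGroup p ↥(P ⊓ center N) := hP.to_le inf_le_left
    obtain ⟨j, hj⟩ := IsPGroup.iff_card.mp hWp
    have hcop' : (Nat.card ↥(P ⊓ center N)).Coprime P.index := by
      rw [hj]; exact Nat.Coprime.pow_left j hcop
    set w : ↥(P ⊓ center N) := (powCoprime hcop').symm ⟨(t : N), htW⟩ with hw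
    have hwpow : (w : N) ^ P.index = (t : N) := by
      have h1 := (powCoprime hcop').apply_symm_apply ⟨(t : N), htW⟩
      have h2 : (powCoprime hcop') w = w ^ P.index := rfl
      rw [← hw, h2] at h1
      have := congrArg Subtype.val h1
      simpa using this
    have hwz : (w : N)⁻¹ * z ∈ P ⊓ centralizer (P : Set N) :=
      Subgroup.mul_mem _ (Subgroup.inv_mem _ (hWZ w.2)) hz
    have hker : (⟨(w : N)⁻¹ * z, hZY hwz⟩ : Y) ∈ (nrm P Y).ker := by
      rw [MonoidHom.mem_ker]
      have h1 : (⟨(w : N)⁻¹ * z, hZY hwz⟩ : Y) =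
          (⟨(w : N), hZY (hWZ w.2)⟩ : Y)⁻¹ * ⟨z, hZY hz⟩ := by
        apply Subtype.ext; rfl
      rw [h1, map_mul, map_inv]
      have h2 : nrm P Y ⟨(w : N), hZY (hWZ w.2)⟩ = t := by
        apply Subtype.ext
        rw [hpow (w : N) w.2, hwpow]
      rw [h2, ← ht, inv_mul_cancel]
    exact ⟨(w : N), w.2, (w : N)⁻¹ * z, mem_inf.mpr ⟨hwz, ⟨_, hker, rfl⟩⟩, by group⟩
  refine ⟨(P ⊓ centralizer (P : Set N)) ⊓ (nrm P Y).ker.map Y.subtype, inf_le_left, ?_, ?_, hdec⟩
  · rw [eq_bot_iff]
    rintro x ⟨hxW, -, ⟨y, hyker, hyx⟩⟩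
    rw [mem_bot]
    have hyeq : y = ⟨x, hZY (hWZ hxW)⟩ := Subtype.ext hyx
    have h1 : ((nrm P Y ⟨x, hZY (hWZ hxW)⟩ : Y) : N) = 1 := by
      rw [← hyeq, MonoidHom.mem_ker.mp hyker]; rfl
    rw [hpow x hxW] at h1
    obtain ⟨k, hk⟩ := hP ⟨x, (mem_inf.mp hxW).1⟩
    have hk' : x ^ p ^ k = 1 := by
      have := congrArg Subtype.val hk
      simpa using this
    have h2 : orderOf x ∣ Nat.gcd (p ^ k) P.index :=
      Nat.dvd_gcd (orderOf_dvd_of_pow_eq_one hk') (orderOf_dvd_of_pow_eq_one h1)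
    have h3 : Nat.gcd (p ^ k) P.index = 1 := Nat.Coprime.pow_left k hcop
    rw [h3, Nat.dvd_one, orderOf_eq_one_iff] at h2
    exact h2
  · apply le_antisymm (sup_le hWZ inf_le_left)
    intro z hz
    obtain ⟨w, hw, k, hk, rfl⟩ := hdec z hz
    exact Subgroup.mul_mem_sup hw hk

end Cfsg.Agent.Helper51.NormMap
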