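import Mathlib
import Cfsg.Agent.Helper16.PrincipalSection
import Cfsg.Agent.Helper16.DT.Defs
import Cfsg.Prelude.Def_BlockRank
import Cfsg.Agent.Helper79.CharBasic

/-!
helper51: leaf (DPOS) of helper3's PL1 farm (S4711), board #14896.
-/

set_option autoImplicit false
set_option linter.unusedSectionVars false
set_option linter.unusedVariables false

namespace Cfsg.Agent.Helper51.PL1

open Cfsg Cfsg.Agent.Helper16 Cfsg.Agent.Helper16.DT

universe u

variable {p : ℕ} [Fact p.Prime] {M : Ideal AlgInt} {G : Type u} [Group G]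

/-- (DPOS) every irreducible Brauer character of the block is a constituent of some member of the block. -/
theorem DPOS [Fintype G] (B : Set (IrrCharacter G))
    (S : Finset (G → ℂ)) (hli : LinearIndependent ℂ (fun φ : S => (φ : G → ℂ)))
    (d : IrrCharacter G → (G → ℂ) → ℕ)
    (hd : ∀ χ ∈ B, pRegularPart p (χ : G → ℂ) = ∑ φ ∈ S, (d χ φ : ℂ) • φ)
    (φ : G → ℂ) (hφ : φ ∈ S)
    (hint : ∃ a : IrrCharacter G → ℤ, φ = ∑ᶠ χ ∈ B, (a χ : ℂ) • pRegularPart p (χ : G → ℂ)) :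
    ∃ χ ∈ B, 0 < d χ φ := by
  classical
  by_contra hcon
  have hd0 : ∀ χ ∈ B, d χ φ = 0 := by
    intro χ hχ
    by_contra h
    exact hcon ⟨χ, hχ, Nat.pos_of_ne_zero h⟩
  obtain ⟨a, ha⟩ := hint
  have : Finite (IrrCharacter G) := Cfsg.Agent.Helper79.irr_finite'
  have hfin : (B : Set (IrrCharacter G)).Finite := Set.toFinite B
  rw [finsum_mem_eq_finite_toFinset_sum _ hfin] at ha
  set T := hfin.toFinset with hT
  have h1 : φ = ∑ ψ ∈ S, (∑ χ ∈ T, (a χ : ℂ) * (d χ ψ : ℂ)) • ψ := by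
    calc φ = ∑ χ ∈ T, (a χ : ℂ) • pRegularPart p (χ : G → ℂ) := ha
      _ = ∑ χ ∈ T, (a χ : ℂ) • ∑ ψ ∈ S, (d χ ψ : ℂ) • ψ := by
            apply Finset.sum_congr rfl
            intro χ hχ
            rw [hd χ (hfin.mem_toFinset.mp hχ)]
      _ = ∑ χ ∈ T, ∑ ψ ∈ S, ((a χ : ℂ) * (d χ ψ : ℂ)) • ψ := by
            apply Finset.sum_congr rfl
            intro χ _
            rw [Finset.smul_sum]
            apply Finset.sum_congr rfl
            intro ψ _
            rw [smul_smul]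
      _ = ∑ ψ ∈ S, ∑ χ ∈ T, ((a χ : ℂ) * (d χ ψ : ℂ)) • ψ := Finset.sum_comm
      _ = ∑ ψ ∈ S, (∑ χ ∈ T, (a χ : ℂ) * (d χ ψ : ℂ)) • ψ := by
            apply Finset.sum_congr rfl
            intro ψ _
            rw [Finset.sum_smul]
  set c : (G → ℂ) → ℂ := fun ψ => ∑ χ ∈ T, (a χ : ℂ) * (d χ ψ : ℂ) with hc
  have hcφ : c φ = 0 := by
    rw [hc]
    apply Finset.sum_eq_zero
    intro χ hχ
    rw [hd0 χ (hfin.mem_toFinset.mp hχ)]
    simp
  -- linear independence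
  have hli' := linearIndependent_iff'.mp hli Finset.univ
    (fun ψ : S => c (ψ : G → ℂ) - if (ψ : G → ℂ) = φ then 1 else 0)
  have hsum : ∑ ψ ∈ (Finset.univ : Finset S),
      (c (ψ : G → ℂ) - if (ψ : G → ℂ) = φ then 1 else 0) • (ψ : G → ℂ) = 0 := by
    have e1 : ∑ ψ ∈ (Finset.univ : Finset S),
        (c (ψ : G → ℂ) - if (ψ : G → ℂ) = φ then 1 else 0) • (ψ : G → ℂ)
        = ∑ ψ ∈ S, (c ψ - if ψ = φ then 1 else 0) • ψ := by
      rw [Finset.univ_eq_attach]
      exact Finset.sum_attach S (fun ψ => (c ψ - if ψ = φ then 1 else 0) • ψ)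
    rw [e1]
    simp only [sub_smul, Finset.sum_sub_distrib]
    rw [← h1]
    simp only [ite_smul, one_smul, zero_smul]
    rw [Finset.sum_ite_eq' S φ (fun ψ => ψ), if_pos hφ, sub_self]
  have h2 := hli' hsum ⟨φ, hφ⟩ (Finset.mem_univ _)
  simp only [if_true] at h2
  rw [hcφ] at h2
  norm_num at h2

end Cfsg.Agent.Helper51.PL1
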