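import Mathlib
import Cfsg.Agent.Helper16.PrincipalSection
import Cfsg.Agent.Helper16.DT.Defs
import Cfsg.Prelude.Def_BlockRank

/-!
helper51: leaf (STEPD) of helper3's PL1 farm (S4711), board #14896.
-/

set_option autoImplicit false
set_option linter.unusedSectionVars false
set_option linter.unusedVariables false

namespace Cfsg.Agent.Helper51.PL1

open Cfsg Cfsg.Agent.Helper16 Cfsg.Agent.Helper16.DT

universe u

variable {p : ℕ} [Fact p.Prime] {M : Ideal AlgInt} {G : Type u} [Group G]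

theorem STEPD_pReg_apply (χ : G → ℂ) (x : G) (hx : ¬ p ∣ orderOf x) :
    pRegularPart p χ x = χ x := by
  classical
  unfold pRegularPart
  exact if_pos hx

/-- (STEPD) a `p`-regular element in the kernel of enough members of the block is in the kernel of the block. -/
theorem STEPD (B X : Set (IrrCharacter G)) (hXB : X ⊆ B)
    (S : Finset (G → ℂ))
    (hpos : ∀ φ ∈ S, ∀ x : G, (φ x).re ≤ (φ 1).re ∧ ((φ x).re = (φ 1).re → φ x = φ 1))
    (d : IrrCharacter G → (G → ℂ) → ℕ)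
    (hd : ∀ χ ∈ B, pRegularPart p (χ : G → ℂ) = ∑ φ ∈ S, (d χ φ : ℂ) • φ)
    (hX : ∀ φ ∈ S, ∃ χ ∈ X, 0 < d χ φ)
    (x : G) (hx : ¬ p ∣ orderOf x) (hxX : ∀ χ ∈ X, (χ : G → ℂ) x = (χ : G → ℂ) 1) :
    ∀ χ ∈ B, (χ : G → ℂ) x = (χ : G → ℂ) 1 := by
  classical
  have hp1 : ¬ p ∣ orderOf (1 : G) := by
    rw [orderOf_one]
    exact (Fact.out : p.Prime).one_lt.ne' ∘ Nat.dvd_one.mp
  -- values of members of the block at `p`-regular elements
  have hval : ∀ χ ∈ B, ∀ y : G, ¬ p ∣ orderOf y →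
      (χ : G → ℂ) y = ∑ φ ∈ S, (d χ φ : ℂ) * φ y := by
    intro χ hχ y hy
    rw [← STEPD_pReg_apply (p := p) (χ : G → ℂ) y hy, hd χ hχ, Finset.sum_apply]
    rfl
  -- step 1
  have hS : ∀ φ ∈ S, φ x = φ 1 := by
    intro φ hφ
    obtain ⟨χ, hχX, hdpos⟩ := hX φ hφ
    have hχB := hXB hχX
    have h1 := hxX χ hχX
    rw [hval χ hχB x hx, hval χ hχB 1 hp1] at h1
    have h2 : ∑ ψ ∈ S, (d χ ψ : ℝ) * ((ψ 1).re - (ψ x).re) = 0 := by
      have h3 := congrArg Complex.re h1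
      simp only [Complex.re_sum, Complex.mul_re, Complex.natCast_re, Complex.natCast_im,
        zero_mul, sub_zero] at h3
      simp only [mul_sub, Finset.sum_sub_distrib]
      rw [h3, sub_self]
    have hnn : ∀ ψ ∈ S, 0 ≤ (d χ ψ : ℝ) * ((ψ 1).re - (ψ x).re) := by
      intro ψ hψ
      exact mul_nonneg (Nat.cast_nonneg _) (sub_nonneg.mpr (hpos ψ hψ x).1)
    have h4 := (Finset.sum_eq_zero_iff_of_nonneg hnn).mp h2 φ hφ
    have h5 : (d χ φ : ℝ) ≠ 0 := by
      exact_mod_cast hdpos.ne'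
    have h6 : (φ 1).re - (φ x).re = 0 := by
      rcases mul_eq_zero.mp h4 with h | h
      · exact absurd h h5
      · exact h
    exact (hpos φ hφ x).2 (by linarith)
  -- step 2
  intro χ hχ
  rw [hval χ hχ x hx, hval χ hχ 1 hp1]
  apply Finset.sum_congr rfl
  intro φ hφ
  rw [hS φ hφ]

end Cfsg.Agent.Helper51.PL1
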