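import Cfsg.Agent.Helper51.PronBU1_A5

/-!
# S2225/S2226 block BU1 (helper51 for helper90): leaf (A4) `exists_gen`

`Cfsg.Agent.Helper51.Pron.exists_gen` is proved in `Cfsg.Agent.Helper51.PronBU1_A5` (it shares the
order lemmas with (A5)); this file re-exports it under the file name announced on the board.
-/
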