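import Cfsg.Agent.Helper90.PronBU1.Defs

/-!
# S2225/S2226 block BU1 (helper51 for helper90): leaves (A4) `exists_gen` and (A5) `exists_eight`
-/

set_option autoImplicit false
set_option linter.unusedVariables false

namespace Cfsg.Agent.Helper51.Pron

open Matrix Cfsg.Agent.Helper99.Pron Cfsg.Agent.Helper90.Pron

section arith

variable {F : Type*} [Field F] [Fintype F] {q : ℕ}

/-- a unit of any order dividing `|F| - 1` -/
theorem bu1_exists_unit_orderOf (m : ℕ) (hm : m ∣ Fintype.card F - 1) :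
    ∃ c : Fˣ, orderOf c = m := by
  classical
  have hq : 1 < Fintype.card F := Fintype.one_lt_card
  have hm0 : m ≠ 0 := by
    rintro rfl
    have := zero_dvd_iff.mp hm
    omega
  obtain ⟨g, hg⟩ := IsCyclic.exists_generator (α := Fˣ)
  have hord : orderOf g = Fintype.card F - 1 := by
    rw [orderOf_eq_card_of_forall_mem_zpowers hg, Nat.card_eq_fintype_card, Fintype.card_units]
  obtain ⟨t, ht⟩ := hm
  have ht0 : t ≠ 0 := by
    rintro rfl
    omega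
  refine ⟨g ^ t, ?_⟩
  rw [orderOf_pow_of_dvd ht0 (by rw [hord, ht]; exact dvd_mul_left t m), hord, ht,
    Nat.mul_div_cancel _ (Nat.pos_of_ne_zero ht0)]

theorem bu1_q_ne_one (hF : Fintype.card F = q ^ 2) : q ≠ 1 := by
  rintro rfl
  have hq : 1 < Fintype.card F := Fintype.one_lt_card
  rw [hF] at hq
  norm_num at hq

omit [Fintype F] in
/-- `l * fr q l = (l ^ (q - 1))⁻¹` -/
theorem bu1_mul_fr (hq0 : q ≠ 0) (l : Fˣ) : l * fr q l = (l ^ (q - 1))⁻¹ := by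
  obtain ⟨n, rfl⟩ : ∃ n, q = n + 1 := ⟨q - 1, by omega⟩
  rw [fr_apply, Nat.add_sub_cancel, inv_pow, pow_succ, _root_.mul_inv_rev, ← mul_assoc,
    mul_inv_cancel, one_mul]

/-- (A5) an element of order `8` (`8 ∣ q ^ 2 - 1`): `l ^ 4 ≠ 1`, and `fr q l = l` would mean
`l ^ (q + 1) = 1`, `8 ∣ q + 1`, but `q + 1 ≡ 2 (mod 4)`. -/
theorem exists_eight (hF : Fintype.card F = q ^ 2) (h2 : (2 : F) ≠ 0) (hq4 : q % 4 = 1) :
    ∃ l : Fˣ, l ∈ Lam2 F ∧ l ^ 4 ≠ 1 ∧ fr q l ≠ l := by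
  have h8 : 8 ∣ Fintype.card F - 1 := by
    rw [hF]
    obtain ⟨k, rfl⟩ : ∃ k, q = 4 * k + 1 := ⟨q / 4, by omega⟩
    have : (4 * k + 1) ^ 2 - 1 = 8 * (k * (2 * k + 1)) := by
      have : (4 * k + 1) ^ 2 = 8 * (k * (2 * k + 1)) + 1 := by ring
      omega
    rw [this]
    exact dvd_mul_right _ _
  obtain ⟨l, hl⟩ := bu1_exists_unit_orderOf (F := F) 8 h8
  refine ⟨l, ⟨3, ?_⟩, ?_, ?_⟩
  · have : (2 : ℕ) ^ 3 = orderOf l := by rw [hl]; norm_num
    rw [this]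
    exact pow_orderOf_eq_one l
  · intro h
    have := orderOf_dvd_of_pow_eq_one h
    rw [hl] at this
    omega
  · intro h
    have h1 : l ^ (q + 1) = 1 := by
      rw [fr_apply, inv_pow] at h
      rw [pow_succ]
      calc l ^ q * l = l ^ q * (l ^ q)⁻¹ := by rw [h]
        _ = 1 := mul_inv_cancel _
    have := orderOf_dvd_of_pow_eq_one h1
    rw [hl] at this
    omega

/-- (A4) an element `l` of `2`-power order with `l ^ (q - 1) = -1`: take `l` of order `2 ^ (v + 1)`,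
`v = padicValNat 2 (q - 1)` (it divides `q ^ 2 - 1 = (q - 1) (q + 1)`); `(l ^ (q - 1)) ^ 2 = 1`,
`l ^ (q - 1) ≠ 1`. -/
theorem exists_gen (hF : Fintype.card F = q ^ 2) (h2 : (2 : F) ≠ 0) (hq4 : q % 4 = 1) :
    ∃ l : Fˣ, l ∈ Lam2 F ∧ ((l * fr q l : Fˣ) : F) = -1 := by
  have hq1 : q ≠ 1 := bu1_q_ne_one hF
  have hq10 : q - 1 ≠ 0 := by omega
  obtain ⟨v, r, hr, hv⟩ := Nat.exists_eq_two_pow_mul_odd hq10
  have hdvd : 2 ^ (v + 1) ∣ Fintype.card F - 1 := by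
    rw [hF]
    have h1 : q ^ 2 - 1 = (q - 1) * (q + 1) := by
      obtain ⟨n, rfl⟩ : ∃ n, q = n + 1 := ⟨q - 1, by omega⟩
      have : (n + 1) ^ 2 = n * (n + 1 + 1) + 1 := by ring
      rw [Nat.add_sub_cancel, this, Nat.add_sub_cancel]
    obtain ⟨m, hm⟩ : ∃ m, q + 1 = 2 * m := ⟨(q + 1) / 2, by omega⟩
    rw [h1, hv, hm, pow_succ]
    exact ⟨r * m, by ring⟩
  obtain ⟨l, hl⟩ := bu1_exists_unit_orderOf (F := F) (2 ^ (v + 1)) hdvd
  have hy2 : (l ^ (q - 1)) ^ 2 = 1 := by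
    rw [← pow_mul, hv]
    have : 2 ^ v * r * 2 = orderOf l * r := by rw [hl, pow_succ]; ring
    rw [this, pow_mul, pow_orderOf_eq_one, one_pow]
  have hy1 : l ^ (q - 1) ≠ 1 := by
    intro h
    have h3 := orderOf_dvd_of_pow_eq_one h
    rw [hl, hv, pow_succ] at h3
    have h4 : 2 ∣ r := by
      obtain ⟨c, hc⟩ := h3
      refine ⟨c, ?_⟩
      have h5 : 2 ^ v * r = 2 ^ v * (2 * c) := by rw [hc]; ring
      exact Nat.eq_of_mul_eq_mul_left (by positivity) h5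
    rcases hr with ⟨t, rfl⟩
    omega
  have hyF : ((l ^ (q - 1) : Fˣ) : F) = -1 := by
    have h5 : ((l ^ (q - 1) : Fˣ) : F) * ((l ^ (q - 1) : Fˣ) : F) = 1 := by
      rw [← Units.val_mul, ← sq, hy2, Units.val_one]
    rcases mul_self_eq_one_iff.mp h5 with h6 | h6
    · exact absurd (Units.ext h6) hy1
    · exact h6
  refine ⟨l, ⟨v + 1, by rw [← hl]; exact pow_orderOf_eq_one l⟩, ?_⟩
  rw [bu1_mul_fr (by omega), Units.val_inv_eq_inv_val, hyF, inv_neg, inv_one]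

end arith

end Cfsg.Agent.Helper51.Pron
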