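import Cfsg.Agent.Helper90.PronBU1.Defs

/-!
# S2225/S2226 block BU1 (helper51 for helper90): leaf (M7) `mono_of_normalizer`
(with a private copy of (M3), so that the file depends on the Defs only)
-/

set_option autoImplicit false

namespace Cfsg.Agent.Helper51.Pron

open Matrix Cfsg.Agent.Helper99.Pron Cfsg.Agent.Helper90.Pron

section group

variable {F : Type*} [Field F] {q : ℕ} (hq : ∀ l : Fˣ, fr q (fr q l) = l)

/-- an invertible matrix intertwining `diag(a, b)`, `a ≠ b`, with a diagonal matrix is monomial -/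
theorem bu1_mono_of_intertwine (a b c d : Fˣ) (hab : a ≠ b) (x : GL (Fin 2) F)
    (h : x * dg a b = dg c d * x) : (∃ x1 x2 : Fˣ, x = dg x1 x2) ∨ (∃ x1 x2 : Fˣ, x = ag x1 x2) := by
  have hM : (x : Matrix (Fin 2) (Fin 2) F) * !![(a : F), 0; 0, (b : F)] =
      !![(c : F), 0; 0, (d : F)] * (x : Matrix (Fin 2) (Fin 2) F) := by
    have := congrArg (fun g : GL (Fin 2) F => (g : Matrix (Fin 2) (Fin 2) F)) h
    simpa using this
  have h00 := congrFun (congrFun hM 0) 0
  have h01 := congrFun (congrFun hM 0) 1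
  have h10 := congrFun (congrFun hM 1) 0
  have h11 := congrFun (congrFun hM 1) 1
  simp [Matrix.mul_apply, Fin.sum_univ_two] at h00 h01 h10 h11
  have hdet : (x : Matrix (Fin 2) (Fin 2) F).det ≠ 0 := by
    have := x.isUnit.map (Matrix.detMonoidHom (R := F) (n := Fin 2))
    simpa using (Matrix.isUnits_det_units x).ne_zero
  rw [det_fin_two] at hdet
  have habF : (a : F) ≠ (b : F) := fun h => hab (Units.ext h)
  set p := (x : Matrix (Fin 2) (Fin 2) F) 0 0 with hp
  set r := (x : Matrix (Fin 2) (Fin 2) F) 0 1 with hr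
  set s := (x : Matrix (Fin 2) (Fin 2) F) 1 0 with hs
  set t := (x : Matrix (Fin 2) (Fin 2) F) 1 1 with ht
  by_cases hp0 : p = 0
  · -- antidiagonal
    have hr0 : r ≠ 0 := by
      intro h0
      apply hdet
      rw [hp0, h0]
      ring
    have hs0 : s ≠ 0 := by
      intro h0
      apply hdet
      rw [hp0, h0]
      ring
    have hbc : (b : F) = c := by
      have : r * ((b : F) - c) = 0 := by rw [mul_sub, h01]; ring
      rcases mul_eq_zero.mp this with h | h
      · exact absurd h hr0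
      · exact sub_eq_zero.mp h
    have had : (a : F) = d := by
      have : s * ((a : F) - d) = 0 := by rw [mul_sub, h10]; ring
      rcases mul_eq_zero.mp this with h | h
      · exact absurd h hs0
      · exact sub_eq_zero.mp h
    have ht0 : t = 0 := by
      have : t * ((b : F) - a) = 0 := by rw [mul_sub, h11, ← had]; ring
      rcases mul_eq_zero.mp this with h | h
      · exact h
      · exact absurd (sub_eq_zero.mp h).symm habF
    right
    refine ⟨Units.mk0 r hr0, Units.mk0 s hs0, ?_⟩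
    apply Units.ext
    ext i j
    fin_cases i <;> fin_cases j <;> simp [← hp, ← hr, ← hs, ← ht, hp0, ht0]
  · -- diagonal
    have hac : (a : F) = c := by
      have : p * ((a : F) - c) = 0 := by rw [mul_sub, h00]; ring
      rcases mul_eq_zero.mp this with h | h
      · exact absurd h hp0
      · exact sub_eq_zero.mp h
    have hr0 : r = 0 := by
      have : r * ((b : F) - a) = 0 := by rw [mul_sub, h01, ← hac]; ring
      rcases mul_eq_zero.mp this with h | h
      · exact h
      · exact absurd (sub_eq_zero.mp h).symm habF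
    have ht0 : t ≠ 0 := by
      intro h0
      apply hdet
      rw [hr0, h0]
      ring
    have hbd : (b : F) = d := by
      have : t * ((b : F) - d) = 0 := by rw [mul_sub, h11]; ring
      rcases mul_eq_zero.mp this with h | h
      · exact absurd h ht0
      · exact sub_eq_zero.mp h
    have hs0 : s = 0 := by
      have : s * ((a : F) - b) = 0 := by rw [mul_sub, h10, ← hbd]; ring
      rcases mul_eq_zero.mp this with h | h
      · exact h
      · exact absurd (sub_eq_zero.mp h) habF
    left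
    refine ⟨Units.mk0 p hp0, Units.mk0 t ht0, ?_⟩
    apply Units.ext
    ext i j
    fin_cases i <;> fin_cases j <;> simp [← hp, ← hr, ← hs, ← ht, hr0, hs0]

/-- (M7) a normalising element is monomial: `a0 = dg l0 (fr q l0) ∈ P0`, `y = x a0 x⁻¹ ∈ P0`;
`y = ag l (fr q l)` is impossible: `y ^ 4 = dg ((l * fr q l) ^ 2) _ = 1` by `hsq`, but
`y ^ 4 = x a0 ^ 4 x⁻¹ ≠ 1`; so `x * a0 = dg l (fr q l) * x` and (M3) applies. -/
theorem mono_of_normalizer (hsq : ∀ l ∈ Lam2 F, (l * fr q l) ^ 2 = 1) (l0 : Fˣ) (hl0 : l0 ∈ Lam2 F)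
    (h4 : l0 ^ 4 ≠ 1) (hne : fr q l0 ≠ l0) (x : GL (Fin 2) F)
    (hx : x ∈ Subgroup.normalizer (P0 q hq : Set (GL (Fin 2) F))) :
    (∃ x1 x2 : Fˣ, x = dg x1 x2) ∨ (∃ x1 x2 : Fˣ, x = ag x1 x2) := by
  have ha0 : dg l0 (fr q l0) ∈ P0 q hq := dg_mem_P0 hq hl0
  have hy : x * dg l0 (fr q l0) * x⁻¹ ∈ P0 q hq := (Subgroup.mem_normalizer_iff.mp hx _).mp ha0
  obtain ⟨l, hl, hyl | hyl⟩ := hy
  · apply bu1_mono_of_intertwine l0 (fr q l0) l (fr q l) (fun h => hne h.symm) x
    rw [← hyl, mul_assoc, inv_mul_cancel, mul_one]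
  · exfalso
    have h1 : (x * dg l0 (fr q l0) * x⁻¹) ^ 4 = 1 := by
      rw [hyl]
      have : (ag l (fr q l)) ^ 4 = ((ag l (fr q l)) ^ 2) ^ 2 := by rw [← pow_mul]
      rw [this, sq (ag l (fr q l)), ag_mul_ag, dg_pow, mul_comm (fr q l) l, hsq l hl, dg_one]
    have h2 : (x * dg l0 (fr q l0) * x⁻¹) ^ 4 = x * (dg l0 (fr q l0)) ^ 4 * x⁻¹ := by
      rw [← conj_pow]
    rw [h2, dg_pow] at h1
    have h3 : dg (l0 ^ 4) (fr q l0 ^ 4) = dg (1 : Fˣ) 1 := by
      rw [dg_one]
      have := congrArg (fun g => x⁻¹ * g * x) h1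
      simpa [mul_assoc] using this
    exact h4 (dg_injective _ _ _ _ h3).1

end group

end Cfsg.Agent.Helper51.Pron
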