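/-
helper51: rank-one pushing up, elementary part.
`G` finite with `C_G(O_p(G)) ≤ O_p(G)` and a Sylow `p`-subgroup `S` lying in a unique maximal subgroup:
then `℧¹(Z(S))` is normal in `G` or `C_S(Z(J(S)))` is normal in `G`.
-/
import Cfsg.Agent.Helper51.WCUtil
import Cfsg.Agent.Helper51.QuadPow2
import Cfsg.Agent.Helper51.Timmesfeld
import Cfsg.Agent.Helper51.NilAct
import Cfsg.Agent.Helper51.Card
import Cfsg.Agent.Helper51.Dedekind
import Cfsg.Agent.Helper47.Basic

set_option autoImplicit false
set_option linter.unusedSectionVars false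
set_option linter.style.haveILetI false

namespace Cfsg.Agent.Helper51.PushUp

open Subgroup Cfsg.Agent.Helper51 Cfsg.Agent.Helper51.WC
open scoped commutatorElement

universe u

variable {G : Type u} [Group G] [Finite G] {p : ℕ} [hp : Fact p.Prime]

/-- members of `𝒜(S)` are best offenders on every abelian subgroup `V ≤ S` -/
theorem AA_bestOffender {S V A : Subgroup G} (hVS : V ≤ S) (hV : IsMulCommutative V)
    (hA : A ∈ AA S) : ∀ B : Subgroup G, B ≤ A → mu V B ≤ mu V A := by
  obtain ⟨hAS, hAc, hAmax⟩ := mem_AA_iff.mp hA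
  have hAc' : A ≤ centralizer (A : Set G) := le_centralizer_iff_isMulCommutative.mpr hAc
  have hAVc : A ⊓ V ≤ cD V A := le_inf inf_le_right (inf_le_left.trans hAc')
  intro B hBA
  have hBc : IsMulCommutative B := isMulCommutative_of_le hAc hBA
  have hCc : IsMulCommutative (cD V B) := isMulCommutative_of_le hV inf_le_left
  have hsup : IsMulCommutative ↥(B ⊔ cD V B) := by
    rw [sup_comm]; exact isMulCommutative_sup hCc hBc inf_le_right
  have h1 : Nat.card ↥(B ⊔ cD V B) ≤ Nat.card A :=
    hAmax _ (sup_le (hBA.trans hAS) (inf_le_left.trans hVS)) hsup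
  have h2 := card_mul_card_le_sup_mul_inf B (cD V B)
  have h3 : B ⊓ cD V B ≤ cD V A :=
    (le_inf (inf_le_left.trans hBA) (inf_le_right.trans inf_le_left)).trans hAVc
  have h4 : Nat.card ↥(B ⊓ cD V B) ≤ Nat.card ↥(cD V A) := Subgroup.card_le_of_le h3
  calc Nat.card B * Nat.card (cD V B) ≤ Nat.card ↥(B ⊔ cD V B) * Nat.card ↥(B ⊓ cD V B) := h2
    _ ≤ Nat.card A * Nat.card (cD V A) := Nat.mul_le_mul h1 h4

/-- the quadratic step: if every element of `S` centralizing all `p`-th powers of the abelian normal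
subgroup `V ≤ S` centralizes `V`, then every member of `𝒜(S)` centralizes `V`. -/
theorem AA_le_centralizer {S V A : Subgroup G} (hS : IsPGroup p S) [hVn : V.Normal] (hVS : V ≤ S)
    (hV : IsMulCommutative V)
    (hD : ∀ a ∈ S, (∀ v ∈ V, a * v ^ p = v ^ p * a) → a ∈ centralizer (V : Set G))
    (hA : A ∈ AA S) : A ≤ centralizer (V : Set G) := by
  obtain ⟨hAS, hAc, hAmax⟩ := mem_AA_iff.mp hA
  have hpp : p.Prime := hp.out
  have hAc' : A ≤ centralizer (A : Set G) := le_centralizer_iff_isMulCommutative.mpr hAc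
  have hAV : A ≤ normalizer (V : Set G) := by
    rw [normalizer_eq_top]; exact le_top
  have hab : ⁅A, A⁆ ≤ centralizer (V : Set G) := by
    rw [(commutator_eq_bot_iff_le_centralizer).mpr hAc']; exact bot_le
  have hBO := AA_bestOffender hVS hV hA
  obtain ⟨hmu, hcD⟩ := timmesfeld_replacement V A hV hAV hab hBO V le_rfl
  set W : Subgroup G := ⁅V, A⁆ with hW
  set As : Subgroup G := A ⊓ centralizer (W : Set G) with hAs
  have hVp : IsPGroup p V := hS.to_le hVS
  have hAp : IsPGroup p A := hS.to_le hAS
  by_contra hcon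
  -- `As` does not centralize `V`
  have hAsV : ¬ As ≤ centralizer (V : Set G) := by
    intro hle
    apply hcon
    have hVle : V ≤ cD V As := le_inf le_rfl (le_centralizer_iff.mp hle)
    rw [hcD] at hVle
    have hbot : ⁅V, A⁆ = ⊥ := commutator_eq_bot_of_le_sup' hV hAV
      (exists_iterComm_eq_bot_of_isPGroup hVp hAp hAV) hVle
    exact le_centralizer_iff.mp (commutator_eq_bot_iff_le_centralizer.mp hbot)
  obtain ⟨b, hbAs, hbV⟩ := SetLike.not_le_iff_exists.mp hAsV
  -- the set of elements of `As` outside `C(V)` has an element of minimal order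
  obtain ⟨a, ⟨haAs, haV⟩, hmin⟩ := WellFounded.has_min (measure (fun g : G => orderOf g)).wf
    {g : G | g ∈ As ∧ g ∉ centralizer (V : Set G)} ⟨b, hbAs, hbV⟩
  have haS : a ∈ S := hAS haAs.1
  -- `a ^ p ∈ C(V)`
  have hap : a ^ p ∈ centralizer (V : Set G) := by
    by_contra hnot
    apply hmin (a ^ p) ⟨Subgroup.pow_mem _ haAs p, hnot⟩
    show orderOf (a ^ p) < orderOf a
    obtain ⟨k, hk⟩ := (IsPGroup.iff_orderOf.1 hS) ⟨a, haS⟩
    rw [Subgroup.orderOf_mk] at hk
    have hk0 : k ≠ 0 := by
      rintro rfl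
      rw [pow_zero, orderOf_eq_one_iff] at hk
      exact haV (hk ▸ Subgroup.one_mem _)
    rw [orderOf_pow' a hpp.ne_zero, hk, Nat.gcd_eq_right (dvd_pow_self p hk0)]
    exact Nat.div_lt_self (pow_pos hpp.pos k) hpp.one_lt
  -- `a` centralizes the `p`-th powers
  have hpow : ∀ v ∈ V, a * v ^ p = v ^ p * a := by
    intro v hv
    have hcV : ⁅v, a⁆ ∈ V := by
      have e : ⁅v, a⁆ = v * (a * v⁻¹ * a⁻¹) := by rw [commutatorElement_def]; group
      rw [e]
      exact V.mul_mem hv (hVn.conj_mem _ (V.inv_mem hv) a)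
    have hcW : ⁅v, a⁆ ∈ W := Subgroup.commutator_mem_commutator hv haAs.1
    have hc1 : Commute ⁅v, a⁆ a := by
      have := (mem_centralizer_iff.mp haAs.2) _ hcW
      exact this
    have hc2 : Commute ⁅v, a⁆ v := by
      have := (mem_centralizer_iff.mp ((le_centralizer_iff_isMulCommutative.mpr hV) hcV)) v hv
      exact this.symm
    have h1 : ⁅v, a ^ p⁆ = 1 := by
      rw [commutatorElement_eq_one_iff_commute]
      exact ((mem_centralizer_iff.mp hap) v hv)
    have h2 : ⁅v ^ p, a⁆ = 1 := by
      rw [comm_pow_left_of_commute hc2, ← comm_pow_right_of_commute hc1, h1]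
    rw [commutatorElement_eq_one_iff_commute] at h2
    exact h2.eq.symm
  exact haV (hD a haS hpow)


/-- the subgroup generated by the `p^n`-th powers of a normal subgroup is normal -/
theorem powerClosure_normal (n : ℕ) (H : Subgroup G) [hH : H.Normal] :
    (Cfsg.powerClosure p n H).Normal := by
  constructor
  intro x hx g
  unfold Cfsg.powerClosure at hx ⊢
  induction hx using Subgroup.closure_induction with
  | mem y hy =>
    obtain ⟨z, hz, rfl⟩ := hy
    apply Subgroup.subset_closure
    exact ⟨g * z * g⁻¹, hH.conj_mem z hz g, by rw [conj_pow]⟩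
  | one => simp
  | mul a b _ _ iha ihb =>
    have e : g * (a * b) * g⁻¹ = (g * a * g⁻¹) * (g * b * g⁻¹) := by group
    rw [e]; exact Subgroup.mul_mem _ iha ihb
  | inv a _ iha =>
    have e : g * a⁻¹ * g⁻¹ = (g * a * g⁻¹)⁻¹ := by group
    rw [e]; exact Subgroup.inv_mem _ iha

theorem powerClosure_mono (n : ℕ) {H K : Subgroup G} (h : H ≤ K) :
    Cfsg.powerClosure p n H ≤ Cfsg.powerClosure p n K := by
  unfold Cfsg.powerClosure
  apply Subgroup.closure_mono
  rintro y ⟨x, hx, rfl⟩
  exact ⟨x, h hx, rfl⟩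

theorem powerClosure_le (n : ℕ) (H : Subgroup G) : Cfsg.powerClosure p n H ≤ H := by
  unfold Cfsg.powerClosure
  rw [Subgroup.closure_le]
  rintro y ⟨x, hx, rfl⟩
  exact H.pow_mem hx _

/-- **rank-one pushing up, elementary part**: if `C_G(O_p(G)) ≤ O_p(G)` and the Sylow subgroup `S` lies
in a unique maximal subgroup, then `℧¹(Z(S))` or `C_S(Z(J(S)))` is normal in `G`. -/
theorem agemo_or_centralizer_normal (S : Sylow p G)
    (hE₁ : centralizer (Cfsg.pCore p G : Set G) ≤ Cfsg.pCore p G)
    (hE₂ : ∃! M : Subgroup G, IsCoatom M ∧ (S : Subgroup G) ≤ M) :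
    (Cfsg.powerClosure p 1 ((S : Subgroup G) ⊓ centralizer ((S : Subgroup G) : Set G))).Normal ∨
      ((S : Subgroup G) ⊓ centralizer (Cfsg.centerThompsonAOf (S : Subgroup G) : Set G)).Normal := by
  classical
  set T : Subgroup G := (S : Subgroup G) with hT
  set Q : Subgroup G := Cfsg.pCore p G with hQ
  haveI hQn : Q.Normal := by
    haveI := Cfsg.Agent.Lib.pCore_characteristic (G := G) p
    exact Subgroup.normal_of_characteristic _
  have hQT : Q ≤ T := Cfsg.Agent.Lib.pCore_le_sylow S
  obtain ⟨M, ⟨hMco, hTM⟩, hMuniq⟩ := hE₂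
  have hMtop : M ≠ ⊤ := hMco.1
  have hover : ∀ H : Subgroup G, T ≤ H → H ≠ ⊤ → H ≤ M := by
    intro H hTH hH
    obtain ⟨M', hM'co, hHM'⟩ := (eq_top_or_exists_le_coatom H).resolve_left hH
    have := hMuniq M' ⟨hM'co, hTH.trans hHM'⟩
    rw [← this]; exact hHM'
  -- normal subgroups not supplementing `T` meet `T` inside `O_p(G)`
  have key : ∀ N : Subgroup G, N.Normal → N ⊔ T ≠ ⊤ → N ⊓ T ≤ Q := by
    intro N hN hNT
    haveI := hN
    exact QuadPow.inf_le_pCore_of_unique_max S M hMtop hover N
      (le_sup_left.trans (hover _ le_sup_right hNT))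
  set Z : Subgroup G := T ⊓ centralizer (T : Set G) with hZ
  have hZQ : Z ≤ Q ⊓ centralizer (Q : Set G) := by
    have h1 : Z ≤ centralizer (Q : Set G) := inf_le_right.trans (centralizer_le hQT)
    exact le_inf (h1.trans hE₁) h1
  have hZQc : IsMulCommutative ↥(Q ⊓ centralizer (Q : Set G)) := by
    apply le_centralizer_iff_isMulCommutative.mp
    exact inf_le_right.trans (centralizer_le inf_le_left)
  set V : Subgroup G := normalClosure (Z : Set G) with hV
  have hZV : Z ≤ V := le_normalClosure
  have hVZQ : V ≤ Q ⊓ centralizer (Q : Set G) := normalClosure_le_normal hZQ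
  have hVc : IsMulCommutative V := isMulCommutative_of_le hZQc hVZQ
  have hVT : V ≤ T := hVZQ.trans (inf_le_left.trans hQT)
  have hQV : Q ≤ centralizer (V : Set G) := le_centralizer_iff.mp (hVZQ.trans inf_le_right)
  have hTZ : T ≤ centralizer (Z : Set G) := le_centralizer_iff.mp inf_le_right
  set V₀ : Subgroup G := Cfsg.powerClosure p 1 V with hV₀
  haveI hV₀n : V₀.Normal := powerClosure_normal 1 V
  set D : Subgroup G := centralizer (V₀ : Set G) with hD
  by_cases hDT : D ⊔ T = ⊤
  · left
    set Z₀ : Subgroup G := Cfsg.powerClosure p 1 Z with hZ₀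
    have h1 : D ≤ centralizer (Z₀ : Set G) := centralizer_le (powerClosure_mono 1 hZV)
    have h2 : T ≤ centralizer (Z₀ : Set G) := hTZ.trans (centralizer_le (powerClosure_le 1 Z))
    have h3 : centralizer (Z₀ : Set G) = ⊤ := top_le_iff.mp (hDT ▸ sup_le h1 h2)
    constructor
    intro x hx g
    have hg : g ∈ centralizer (Z₀ : Set G) := by rw [h3]; trivial
    have := (mem_centralizer_iff.mp hg) x hx
    have e : g * x * g⁻¹ = x := by rw [← this, mul_inv_cancel_right]
    rw [e]; exact hx
  · have hDQ : D ⊓ T ≤ Q := key D inferInstance hDT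
    have hAV : ∀ A ∈ AA T, A ≤ centralizer (V : Set G) := by
      intro A hA
      apply AA_le_centralizer S.2 hVT hVc ?_ hA
      intro a haT hpow
      apply hQV
      apply hDQ
      refine ⟨?_, haT⟩
      have hmem : a ∈ centralizer ({y : G | ∃ x ∈ V, y = x ^ p ^ 1} : Set G) := by
        rw [mem_centralizer_iff]
        rintro y ⟨x, hx, rfl⟩
        rw [pow_one]
        exact (hpow x hx).symm
      rw [hD, hV₀]
      unfold Cfsg.powerClosure
      rw [centralizer_closure]
      exact hmem
    set C : Subgroup G := centralizer (V : Set G) with hC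
    by_cases hCT : C ⊔ T = ⊤
    · left
      have h1 : C ≤ normalizer (Z : Set G) :=
        (centralizer_le hZV).trans (centralizer_le_normalizer _)
      have h2 : T ≤ normalizer (Z : Set G) := hTZ.trans (centralizer_le_normalizer _)
      have h3 : normalizer (Z : Set G) = ⊤ := top_le_iff.mp (hCT ▸ sup_le h1 h2)
      haveI : Z.Normal := normalizer_eq_top_iff.mp h3
      exact powerClosure_normal 1 Z
    · right
      have hCQ : C ⊓ T ≤ Q := key C inferInstance hCT
      have hJQ : JJ T ≤ Q := by
        show sSup (AA T) ≤ Q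
        apply sSup_le
        intro A hA
        exact (le_inf (hAV A hA) hA.1).trans hCQ
      have hJeq : JJ Q = JJ T := Cfsg.Agent.Helper1.Jg_eq_of_le Cfsg.Agent.Lib.ZJ.intrinsic_comm hJQ hQT
      haveI hJn : (JJ T).Normal := by
        rw [← hJeq]
        apply normalizer_eq_top_iff.mp
        apply top_le_iff.mp
        have := normalizer_le_normalizer_JJ Q
        rwa [normalizer_eq_top] at this
      rw [Cfsg.centerThompsonAOf, thompsonSubgroupAOf_eq_JJ]
      set W : Subgroup G := JJ T ⊓ centralizer (JJ T : Set G) with hW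
      haveI hWn : W.Normal := inferInstance
      have hZW : Z ≤ W := by
        refine le_inf ?_ (inf_le_right.trans (centralizer_le (JJ_le T)))
        intro x hx
        apply mem_JJ_of_central hx.1
        intro t ht
        rw [mem_centralizer_iff]
        intro y hy
        rw [Set.mem_singleton_iff] at hy
        subst hy
        exact ((mem_centralizer_iff.mp hx.2) t ht).symm
      have hVW : V ≤ W := normalClosure_le_normal hZW
      set N : Subgroup G := centralizer (W : Set G) with hN
      have hNC : N ≤ C := centralizer_le hVW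
      have hNT : N ⊔ T ≠ ⊤ := fun h => hCT (top_le_iff.mp (h ▸ sup_le_sup_right hNC T))
      have hNQ : N ⊓ T ≤ Q := key N inferInstance hNT
      have heq : T ⊓ N = Q ⊓ N := by
        apply le_antisymm
        · intro x hx
          exact ⟨hNQ ⟨hx.2, hx.1⟩, hx.2⟩
        · exact inf_le_inf_right N hQT
      rw [heq]
      infer_instance

end Cfsg.Agent.Helper51.PushUp
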