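-- helper51: piece (MC1b) of helper99's S5990: an involution `1 + N` of `Ω⁻_{2k+2}(F)`, `k` even, char two,
-- with `N * N = 0`, `Q ∘ N = 0` and `dim ker N = k + 2`.
import Mathlib
import Cfsg.Agent.Helper13.Isom
import Cfsg.Agent.Helper44.StdNondeg
import Cfsg.Agent.Helper45.OmegaParity

set_option autoImplicit false

namespace Cfsg.Agent.Helper51.QSpM

open Module Matrix Cfsg.Agent.Helper44

universe u

variable {F : Type u} [Field F]

/-- the index type -/
abbrev Idx (k : ℕ) : Type := (Fin k ⊕ Fin k) ⊕ Fin 2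

/-- the projection `v ↦ (i ↦ v_r (rev i))` -/
def projR (k : ℕ) (F : Type u) [Field F] : (Idx k → F) →ₗ[F] (Fin k → F) where
  toFun v := fun i => v (Sum.inl (Sum.inr (Fin.rev i)))
  map_add' _ _ := rfl
  map_smul' _ _ := rfl

/-- the embedding into the left coordinates -/
def embL (k : ℕ) (F : Type u) [Field F] : (Fin k → F) →ₗ[F] (Idx k → F) where
  toFun w := fun x => Sum.elim (Sum.elim w (fun _ => 0)) (fun _ => 0) x
  map_add' w w' := by
    funext x
    rcases x with (i | i) | i <;> simp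
  map_smul' c w := by
    funext x
    rcases x with (i | i) | i <;> simp

/-- the nilpotent part -/
def nil (k : ℕ) (F : Type u) [Field F] : Module.End F (Idx k → F) := (embL k F).comp (projR k F)

theorem nil_inll (k : ℕ) (v : Idx k → F) (i : Fin k) :
    nil k F v (Sum.inl (Sum.inl i)) = v (Sum.inl (Sum.inr (Fin.rev i))) := rfl

theorem nil_inlr (k : ℕ) (v : Idx k → F) (i : Fin k) :
    nil k F v (Sum.inl (Sum.inr i)) = 0 := rfl

theorem nil_inr (k : ℕ) (v : Idx k → F) (i : Fin 2) :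
    nil k F v (Sum.inr i) = 0 := rfl

theorem nil_mul_nil (k : ℕ) : nil k F * nil k F = 0 := by
  apply LinearMap.ext
  intro v
  funext x
  rcases x with (i | i) | i
  · show nil k F (nil k F v) (Sum.inl (Sum.inl i)) = 0
    rw [nil_inll, nil_inlr]
  · rfl
  · rfl

theorem projR_surjective (k : ℕ) : Function.Surjective (projR k F) := by
  intro w
  refine ⟨fun x => Sum.elim (Sum.elim (fun _ => 0) (fun i => w (Fin.rev i))) (fun _ => 0) x, ?_⟩
  funext i
  show w (Fin.rev (Fin.rev i)) = w i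
  rw [Fin.rev_rev]

theorem embL_injective (k : ℕ) : Function.Injective (embL k F) := by
  intro w w' h
  funext i
  exact congrFun h (Sum.inl (Sum.inl i))

theorem finrank_range_nil (k : ℕ) : finrank F ↥(LinearMap.range (nil k F)) = k := by
  unfold nil
  rw [LinearMap.range_comp_of_range_eq_top _ (LinearMap.range_eq_top.2 (projR_surjective k)),
    LinearMap.finrank_range_of_inj (embL_injective k), Module.finrank_fintype_fun_eq_card,
    Fintype.card_fin]

theorem finrank_ker_nil (k : ℕ) : finrank F ↥(LinearMap.ker (nil k F)) = k + 2 := by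
  have h := LinearMap.finrank_range_add_finrank_ker (nil k F)
  rw [finrank_range_nil, Module.finrank_fintype_fun_eq_card] at h
  have hc : Fintype.card (Idx k) = k + k + 2 := by
    simp [Idx]
  omega

theorem sum_rev_mul_self [CharP F 2] {k : ℕ} (hk : Even k) (w : Fin k → F) :
    ∑ i : Fin k, w (Fin.rev i) * w i = 0 := by
  apply Finset.sum_involution (fun i _ => Fin.rev i)
  · intro i _
    rw [Fin.rev_rev, mul_comm (w i)]
    exact CharTwo.add_self_eq_zero _
  · intro i _ _ h
    obtain ⟨t, ht⟩ := hk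
    have := congrArg Fin.val h
    rw [Fin.val_rev] at this
    have hi := i.2
    omega
  · intro i _
    exact Finset.mem_univ _
  · intro i _
    exact Fin.rev_rev i

theorem quadFormMinus_nil (k : ℕ) (a b : F) (v : Idx k → F) :
    Cfsg.quadFormMinus k F a b (nil k F v) = 0 := by
  unfold Cfsg.quadFormMinus
  rw [nil_inr, nil_inr]
  have : ∑ i : Fin k, nil k F v (Sum.inl (Sum.inl i)) * nil k F v (Sum.inl (Sum.inr i)) = 0 := by
    apply Finset.sum_eq_zero
    intro i _
    rw [nil_inlr, mul_zero]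
  rw [this]
  ring

theorem quadFormMinus_one_add_nil [CharP F 2] {k : ℕ} (hk : Even k) (a b : F) (v : Idx k → F) :
    Cfsg.quadFormMinus k F a b (v + nil k F v) = Cfsg.quadFormMinus k F a b v := by
  unfold Cfsg.quadFormMinus
  simp only [Pi.add_apply, nil_inr, nil_inlr, nil_inll, add_zero]
  have h := sum_rev_mul_self hk (fun i => v (Sum.inl (Sum.inr i)))
  have : ∑ i : Fin k, (v (Sum.inl (Sum.inl i)) + v (Sum.inl (Sum.inr (Fin.rev i)))) *
      v (Sum.inl (Sum.inr i)) = ∑ i : Fin k, v (Sum.inl (Sum.inl i)) * v (Sum.inl (Sum.inr i)) +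
      ∑ i : Fin k, v (Sum.inl (Sum.inr (Fin.rev i))) * v (Sum.inl (Sum.inr i)) := by
    rw [← Finset.sum_add_distrib]
    apply Finset.sum_congr rfl
    intro i _
    ring
  rw [this, h, add_zero]

/-- the matrix of `1 + N` -/
noncomputable def invMat (k : ℕ) (F : Type u) [Field F] : Matrix (Idx k) (Idx k) F :=
  LinearMap.toMatrix' (1 + nil k F)

theorem toLin'_invMat (k : ℕ) : Matrix.toLin' (invMat k F) = 1 + nil k F := by
  unfold invMat
  rw [Matrix.toLin'_toMatrix']

theorem invMat_mulVec (k : ℕ) (v : Idx k → F) : invMat k F *ᵥ v = v + nil k F v := by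
  rw [← Matrix.toLin'_apply, toLin'_invMat]
  rfl

theorem invMat_mul_self [CharP F 2] (k : ℕ) : invMat k F * invMat k F = 1 := by
  unfold invMat
  rw [← LinearMap.toMatrix'_mul, ← LinearMap.toMatrix'_one]
  congr 1
  have h2 : nil k F + nil k F = 0 := by
    apply LinearMap.ext
    intro v
    funext x
    exact CharTwo.add_self_eq_zero (nil k F v x)
  rw [mul_add, add_mul, add_mul, mul_one, one_mul, mul_one, nil_mul_nil, add_zero, add_assoc,
    h2, add_zero]

theorem invMat_sub_one (k : ℕ) : invMat k F - 1 = LinearMap.toMatrix' (nil k F) := by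
  unfold invMat
  rw [map_add, LinearMap.toMatrix'_one, add_sub_cancel_left]

theorem rank_invMat_sub_one (k : ℕ) : (invMat k F - 1).rank = k := by
  rw [invMat_sub_one, Matrix.rank, ← Matrix.toLin'_apply', Matrix.toLin'_toMatrix',
    finrank_range_nil]

/-- (MC1b) the involution of type `a_k` of `Ω⁻_{2k+2}(F)`, `k` even, characteristic two -/
theorem exists_minus_a_invol [Fintype F] [CharP F 2] (k : ℕ) (hk : Even k) (hk2 : 2 ≤ k) (a b : F)
    (hab : ∀ z₁ z₂ : F, z₁ ^ 2 + a * z₁ * z₂ + b * z₂ ^ 2 = 0 → z₁ = 0 ∧ z₂ = 0) :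
    ∃ g : ↥(Cfsg.isometryGroup F (Cfsg.quadFormMinus k F a b)),
      g ∈ Cfsg.Omega F (Cfsg.quadFormMinus k F a b) ∧ g * g = 1 ∧
      (∀ z : F, ((g : GL ((Fin k ⊕ Fin k) ⊕ Fin 2) F) :
        Matrix ((Fin k ⊕ Fin k) ⊕ Fin 2) ((Fin k ⊕ Fin k) ⊕ Fin 2) F) ≠
          z • (1 : Matrix ((Fin k ⊕ Fin k) ⊕ Fin 2) ((Fin k ⊕ Fin k) ⊕ Fin 2) F)) ∧
      ∃ N : Module.End F ((Fin k ⊕ Fin k) ⊕ Fin 2 → F),
        Matrix.toLin' ((g : GL ((Fin k ⊕ Fin k) ⊕ Fin 2) F) :
          Matrix ((Fin k ⊕ Fin k) ⊕ Fin 2) ((Fin k ⊕ Fin k) ⊕ Fin 2) F) = 1 + N ∧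
        N * N = 0 ∧ (∀ v, minusForm k F a b (N v) = 0) ∧
        finrank F ↥(LinearMap.ker N) ≤ k + 2 := by
  have hMM := invMat_mul_self (F := F) k
  set G : GL (Idx k) F := ⟨invMat k F, invMat k F, hMM, hMM⟩ with hG
  have hGc : ((G : GL (Idx k) F) : Matrix (Idx k) (Idx k) F) = invMat k F := rfl
  have hGmem : G ∈ Cfsg.isometryGroup F (Cfsg.quadFormMinus k F a b) := by
    rw [Cfsg.Agent.Helper13.mem_isometryGroup_iff]
    intro v
    rw [hGc, invMat_mulVec]
    exact quadFormMinus_one_add_nil hk a b v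
  refine ⟨⟨G, hGmem⟩, ?_, ?_, ?_, nil k F, ?_, nil_mul_nil k, ?_, ?_⟩
  · have hnd := nondegenerate_minusForm k a b
      (Cfsg.Agent.Helper45.OmegaParity.disc_ne_zero_of_aniso a b hab)
    have hcard : Fintype.card F ≠ 2 ∨ Fintype.card (Idx k) ≠ 4 := by
      right
      have hc : Fintype.card (Idx k) = k + k + 2 := by
        simp [Idx]
      omega
    have h := (Cfsg.Agent.Helper45.OmegaParity.mem_Omega_iff_even_rank (minusForm k F a b) hnd hcard
      ⟨G, hGmem⟩).2
    apply h
    show Even (invMat k F - 1).rank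
    rw [rank_invMat_sub_one]
    exact hk
  · apply Subtype.ext
    apply Units.ext
    exact hMM
  · intro z hz
    have hz' : invMat k F = z • (1 : Matrix (Idx k) (Idx k) F) := hz
    have h0 : 0 < k := by omega
    have h1 := congrFun (congrArg (fun M : Matrix (Idx k) (Idx k) F =>
      M *ᵥ (Pi.single (Sum.inl (Sum.inr (Fin.rev ⟨0, h0⟩))) (1 : F))) hz') (Sum.inl (Sum.inl ⟨0, h0⟩))
    simp only [invMat_mulVec, Pi.add_apply, nil_inll, Matrix.smul_mulVec, Matrix.one_mulVec,
      Pi.smul_apply, Pi.single_eq_same, smul_eq_mul] at h1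
    rw [Pi.single_eq_of_ne (by simp), zero_add, mul_zero] at h1
    exact one_ne_zero h1
  · exact toLin'_invMat k
  · intro v
    rw [minusForm_coe]
    exact quadFormMinus_nil k a b v
  · exact le_of_eq (finrank_ker_nil k)

end Cfsg.Agent.Helper51.QSpM
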