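import Mathlib
import Cfsg.Prelude.Def_Local
import Cfsg.Prelude.Def_SubgroupEmbedding
import Cfsg.Prelude.Def_Amalgam
import Cfsg.Agent.Lib.Cores

/-!
# Sidki pairs: basic tools for the minimal counterexample reduction (helper51, for S3048)
-/

set_option autoImplicit false
universe u

namespace Cfsg.Agent.Helper51.Sidki

open Cfsg Cfsg.Agent.Lib

variable {G : Type u} [Group G]

/-- relative Sidki condition: only elements `h` of `H` are tested. -/
def RelSidki (H W : Subgroup G) : Prop :=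
  ∀ h ∈ H, ∀ v ∈ W, Odd (orderOf h) → v * h * v⁻¹ = h⁻¹ → ∃ w ∈ W, w ≠ 1 ∧ w * h = h * w

theorem relSidki_of_isSidkiPair {V : Subgroup G} (hS : IsSidkiPair V) (H : Subgroup G) :
    RelSidki H V := fun h _ v hv ho hinv => hS h v hv ho hinv

theorem isSidkiPair_subgroupOf {H W : Subgroup G} (hWH : W ≤ H) (hrel : RelSidki H W) :
    IsSidkiPair (W.subgroupOf H) := by
  intro h v hv ho hinv
  have ho' : Odd (orderOf (h : G)) := by
    rwa [Subgroup.orderOf_coe]
  have hinv' : (v : G) * (h : G) * (v : G)⁻¹ = (h : G)⁻¹ := by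
    have := congrArg (Subtype.val) hinv
    simpa using this
  obtain ⟨w, hw, hw1, hwc⟩ := hrel h h.2 v (Subgroup.mem_subgroupOf.1 hv) ho' hinv'
  refine ⟨⟨w, hWH hw⟩, Subgroup.mem_subgroupOf.2 hw, ?_, ?_⟩
  · intro h1
    exact hw1 (congrArg Subtype.val h1)
  · exact Subtype.ext hwc

/-! ### odd order elements -/

theorem mem_of_sq_mem_of_odd {H : Subgroup G} {k : G} (ho : Odd (orderOf k)) (hk : k ^ 2 ∈ H) :
    k ∈ H := by
  obtain ⟨m, hm⟩ := ho
  have h1 : k = (k ^ 2) ^ (m + 1) := by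
    rw [← pow_mul, show 2 * (m + 1) = orderOf k + 1 by omega, pow_succ, pow_orderOf_eq_one, one_mul]
  rw [h1]
  exact pow_mem hk _

theorem eq_one_of_sq_eq_one_of_odd {k : G} (ho : Odd (orderOf k)) (hk : k ^ 2 = 1) : k = 1 := by
  have : k ∈ (⊥ : Subgroup G) := mem_of_sq_mem_of_odd ho (by rw [hk]; exact one_mem _)
  simpa using this

theorem eq_one_of_pow_four_eq_one_of_odd {k : G} (ho : Odd (orderOf k)) (hk : k ^ 4 = 1) :
    k = 1 := by
  have h2 : orderOf (k ^ 2) ∣ orderOf k := orderOf_pow_dvd 2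
  have ho2 : Odd (orderOf (k ^ 2)) := by
    exact Odd.of_dvd_nat ho h2
  have : k ^ 2 = 1 := eq_one_of_sq_eq_one_of_odd ho2 (by rw [← pow_mul]; exact hk)
  exact eq_one_of_sq_eq_one_of_odd ho this

theorem odd_orderOf_mul_of_commute {a b : G} (hab : Commute a b) (ha : Odd (orderOf a))
    (hb : Odd (orderOf b)) : Odd (orderOf (a * b)) := by
  have h1 : orderOf (a * b) ∣ Nat.lcm (orderOf a) (orderOf b) := hab.orderOf_mul_dvd_lcm
  have h2 : Nat.lcm (orderOf a) (orderOf b) ∣ orderOf a * orderOf b := Nat.lcm_dvd_mul _ _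
  have h3 : Odd (orderOf a * orderOf b) := ha.mul hb
  exact Odd.of_dvd_nat h3 (h1.trans h2)

theorem odd_orderOf_inv {a : G} (ha : Odd (orderOf a)) : Odd (orderOf a⁻¹) := by
  rwa [orderOf_inv]

theorem odd_orderOf_conj {a : G} (g : G) (ha : Odd (orderOf a)) : Odd (orderOf (g * a * g⁻¹)) := by
  have h := MulEquiv.orderOf_eq (MulAut.conj g) a
  rw [MulAut.conj_apply] at h
  rwa [h]

/-- an element of odd order in a finite group -/
theorem odd_orderOf_of_odd_card [Finite G] (h : Odd (Nat.card G)) (a : G) : Odd (orderOf a) :=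
  Odd.of_dvd_nat h (orderOf_dvd_natCard a)

/-! ### elementary abelian 2-subgroups -/

theorem elem_sq {V : Subgroup G} (hV : IsElementaryAbelian 2 V) {v : G} (hv : v ∈ V) :
    v * v = 1 := by
  have := hV.2 v hv
  rwa [pow_two] at this

theorem elem_inv {V : Subgroup G} (hV : IsElementaryAbelian 2 V) {v : G} (hv : v ∈ V) :
    v⁻¹ = v := by
  exact inv_eq_of_mul_eq_one_left (elem_sq hV hv)

theorem elem_comm {V : Subgroup G} (hV : IsElementaryAbelian 2 V) {v w : G} (hv : v ∈ V)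
    (hw : w ∈ V) : v * w = w * v := by
  have := hV.1
  exact setLike_mul_comm hv hw

theorem elem_mono {V W : Subgroup G} (hV : IsElementaryAbelian 2 V) (hWV : W ≤ V) :
    IsElementaryAbelian 2 W :=
  isElementaryAbelian_mono hV hWV

/-! ### the relative 2-core -/

theorem pCoreOf_le' (H : Subgroup G) : pCoreOf 2 H ≤ H := Subgroup.map_subtype_le _

theorem pCoreOf_isPGroup' (H : Subgroup G) : IsPGroup 2 (pCoreOf 2 H) :=
  (isPGroup_pCore (G := H) 2).map _

theorem pCoreOf_conj_mem {H : Subgroup G} {g x : G} (hg : g ∈ H) (hx : x ∈ pCoreOf 2 H) :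
    g * x * g⁻¹ ∈ pCoreOf 2 H := by
  obtain ⟨y, hy, rfl⟩ := hx
  have hn : (pCore 2 H).Normal := Subgroup.normal_of_characteristic _ (h := pCore_characteristic 2)
  exact ⟨⟨g, hg⟩ * y * ⟨g, hg⟩⁻¹, hn.conj_mem y hy ⟨g, hg⟩, by simp⟩

theorem le_pCoreOf' {N H : Subgroup G} (hNH : N ≤ H) (hp : IsPGroup 2 N)
    (hnorm : ∀ g ∈ H, ∀ x ∈ N, g * x * g⁻¹ ∈ N) : N ≤ pCoreOf 2 H := by
  have h1 : (N.subgroupOf H).Normal := by
    constructor
    intro n hn g
    rw [Subgroup.mem_subgroupOf] at hn ⊢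
    have := hnorm g g.2 n hn
    simpa using this
  have h2 : IsPGroup 2 (N.subgroupOf H) := hp.comap_of_injective _ H.subtype_injective
  intro n hn
  exact ⟨⟨n, hNH hn⟩, le_pCore h1 h2 (by simpa [Subgroup.mem_subgroupOf] using hn), rfl⟩

theorem pCoreOf_eq_bot_of_normal {N : Subgroup G} (hN : N.Normal) (hG : pCore 2 G = ⊥) :
    pCoreOf 2 N = ⊥ := by
  have := hN
  have hc : (pCore 2 N).Characteristic := pCore_characteristic 2
  have hn : ((pCore 2 N).map N.subtype).Normal := inferInstance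
  have hle : pCoreOf 2 N ≤ pCore 2 G := le_pCore hn (pCoreOf_isPGroup' N)
  rw [hG] at hle
  exact le_bot_iff.1 hle

/-- If `N ⊴ G` lies in `H` and `O_2(G) = 1`, then `O_2(H)` centralizes `N`. -/
theorem pCoreOf_commute_of_normal {N H : Subgroup G} (hN : N.Normal) (hNH : N ≤ H)
    (hG : pCore 2 G = ⊥) {x n : G} (hx : x ∈ pCoreOf 2 H) (hn : n ∈ N) : x * n = n * x := by
  -- `[x, n] ∈ O_2(H) ∩ N`, a 2-subgroup of `N` normalized by `N`
  have hK : pCoreOf 2 H ⊓ N ≤ pCoreOf 2 N := by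
    apply le_pCoreOf' inf_le_right ((pCoreOf_isPGroup' H).to_le inf_le_left)
    intro g hg y hy
    exact ⟨pCoreOf_conj_mem (hNH hg) hy.1, hN.conj_mem y hy.2 g⟩
  rw [pCoreOf_eq_bot_of_normal hN hG] at hK
  have hmem : x * n * x⁻¹ * n⁻¹ ∈ pCoreOf 2 H ⊓ N := by
    refine Subgroup.mem_inf.2 ⟨?_, ?_⟩
    · have h1 : n * x⁻¹ * n⁻¹ ∈ pCoreOf 2 H := by
        have := pCoreOf_conj_mem (hNH hn) (inv_mem hx)
        simpa using this
      have : x * (n * x⁻¹ * n⁻¹) ∈ pCoreOf 2 H := mul_mem hx h1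
      simpa [mul_assoc] using this
    · exact mul_mem (hN.conj_mem n hn x) (inv_mem hn)
  have h1 : x * n * x⁻¹ * n⁻¹ = 1 := by
    have := hK hmem
    simpa using this
  calc x * n = (x * n * x⁻¹ * n⁻¹) * (n * x) := by group
    _ = n * x := by rw [h1, one_mul]

/-! ### the minimality hypothesis, for subgroups -/

theorem card_lt_of_ne_top [Finite G] {H : Subgroup G} (hH : H ≠ ⊤) : Nat.card H < Nat.card G := by
  refine lt_of_le_of_ne (Subgroup.card_le_card_group H) ?_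
  intro h
  exact hH ((Subgroup.card_eq_iff_eq_top H).mp h)

theorem minG_subgroup [Finite G]
    (hminG : ∀ (H : Type u) [Group H] [Finite H] (W : Subgroup H), Nat.card H < Nat.card G →
      Cfsg.IsElementaryAbelian 2 W → W ≠ ⊥ → Cfsg.IsSidkiPair W → W ⊓ Cfsg.pCore 2 H ≠ ⊥)
    {H W : Subgroup G} (hH : H ≠ ⊤) (hWH : W ≤ H) (hW : IsElementaryAbelian 2 W) (hW1 : W ≠ ⊥)
    (hrel : RelSidki H W) : ∃ x ∈ W, x ≠ 1 ∧ x ∈ pCoreOf 2 H := by
  have hW' : IsElementaryAbelian 2 (W.subgroupOf H) := by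
    have := hW.1
    refine ⟨inferInstance, ?_⟩
    intro a ha
    apply Subtype.ext
    have := hW.2 a (Subgroup.mem_subgroupOf.1 ha)
    simpa using this
  have hW1' : W.subgroupOf H ≠ ⊥ := by
    intro h
    apply hW1
    rw [Subgroup.subgroupOf_eq_bot] at h
    rw [eq_bot_iff]
    intro x hx
    have : x ∈ W ⊓ H := ⟨hx, hWH hx⟩
    rw [disjoint_iff.1 h] at this
    exact this
  have key := hminG H (W.subgroupOf H) (card_lt_of_ne_top hH) hW' hW1'
    (isSidkiPair_subgroupOf hWH hrel)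
  obtain ⟨⟨y, hy⟩, hy1⟩ := (Subgroup.ne_bot_iff_exists_ne_one).1 key
  rw [Subgroup.mem_inf] at hy
  refine ⟨(y : G), Subgroup.mem_subgroupOf.1 hy.1, ?_, ?_⟩
  · intro h
    apply hy1
    ext
    simpa using h
  · exact ⟨y, hy.2, rfl⟩

end Cfsg.Agent.Helper51.Sidki
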