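import Cfsg.Agent.Helper51.SidkiBasic

/-!
# Sidki pairs: the reduced minimal counterexample context (helper51, for S3048)
-/

set_option autoImplicit false
universe u

namespace Cfsg.Agent.Helper51.Sidki

open Cfsg Cfsg.Agent.Lib

/-- The situation of a minimal counterexample after the first reductions:
`O_2(G) = 1`, `G = ⟨V^G⟩`, proper subgroups and proper subgroups of `V` are not counterexamples. -/
structure Ctx {G : Type u} [Group G] [Finite G] (V : Subgroup G) : Prop where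
  elem : IsElementaryAbelian 2 V
  ne_bot : V ≠ ⊥
  sidki : IsSidkiPair V
  core : pCore 2 G = ⊥
  gen : Subgroup.normalClosure (V : Set G) = ⊤
  minG : ∀ {H W : Subgroup G}, H ≠ ⊤ → W ≤ H → IsElementaryAbelian 2 W → W ≠ ⊥ → RelSidki H W →
    ∃ x ∈ W, x ≠ 1 ∧ x ∈ pCoreOf 2 H
  noCentral : ∀ N : Subgroup G, N.Normal → N ≠ ⊥ → N ≤ Subgroup.center G → Odd (Nat.card N) → False
  minV : ∀ W : Subgroup G, W ≤ V → W ≠ V → W ≠ ⊥ → ¬ IsSidkiPair W

/-- `N` is a minimal normal subgroup of `G`. -/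
def MinNormal {G : Type u} [Group G] (N : Subgroup G) : Prop :=
  N.Normal ∧ N ≠ ⊥ ∧ ∀ M : Subgroup G, M.Normal → M ≤ N → M = ⊥ ∨ M = N

end Cfsg.Agent.Helper51.Sidki
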