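import Cfsg.Agent.Helper51.SidkiRed

/-!
# Sidki pairs: identification of `F*(G)` in a minimal counterexample (helper51, for S3048)
-/

set_option autoImplicit false
universe u

namespace Cfsg.Agent.Helper51.Sidki

open Cfsg Cfsg.Agent.Lib
open scoped commutatorElement

variable {G : Type u} [Group G]

theorem exists_minNormal [Finite G] [Nontrivial G] : ∃ N : Subgroup G, MinNormal N := by
  let S : Set (Subgroup G) := {N | N.Normal ∧ N ≠ ⊥}
  have hne : S.Nonempty := ⟨⊤, inferInstance, top_ne_bot⟩
  have wf : WellFounded (fun A B : Subgroup G => Nat.card A < Nat.card B) :=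
    (measure (fun A : Subgroup G => Nat.card A)).wf
  obtain ⟨N, hNS, hmin⟩ := wf.has_min S hne
  refine ⟨N, hNS.1, hNS.2, ?_⟩
  intro M hM hMN
  by_cases hM1 : M = ⊥
  · exact Or.inl hM1
  · right
    have h1 : ¬ Nat.card M < Nat.card N := hmin M ⟨hM, hM1⟩
    rw [not_lt] at h1
    exact Subgroup.eq_of_le_of_card_ge hMN h1

/-- A non-abelian simple group is quasisimple. -/
theorem isQuasisimple_of_simple {X : Type*} [Group X] (hs : IsSimpleGroup X)
    (hna : ∃ x y : X, x * y ≠ y * x) : IsQuasisimple X := by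
  obtain ⟨x, y, hxy⟩ := hna
  have hcomm : commutator X = ⊤ := by
    rcases (inferInstance : (commutator X).Normal).eq_bot_or_eq_top with h | h
    · exfalso
      apply hxy
      have h1 : ⁅x, y⁆ ∈ commutator X := Subgroup.commutator_mem_commutator
        (Subgroup.mem_top x) (Subgroup.mem_top y)
      rw [h, Subgroup.mem_bot, commutatorElement_def] at h1
      calc x * y = (x * y * x⁻¹ * y⁻¹) * (y * x) := by group
        _ = y * x := by rw [h1, one_mul]
    · exact h
  have hcen : Subgroup.center X = ⊥ := by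
    rcases (inferInstance : (Subgroup.center X).Normal).eq_bot_or_eq_top with h | h
    · exact h
    · exfalso
      apply hxy
      have : y ∈ Subgroup.center X := by rw [h]; trivial
      exact Subgroup.mem_center_iff.mp this x
  refine ⟨⟨hcomm⟩, ?_⟩
  have : Nontrivial (X ⧸ Subgroup.center X) := by
    rw [hcen]
    exact (QuotientGroup.quotientBot (G := X)).toEquiv.nontrivial
  exact IsSimpleGroup.isSimpleGroup_of_surjective (QuotientGroup.mk' (Subgroup.center X))
    (QuotientGroup.mk'_surjective _)

/-- The three big steps (`A`: no abelian minimal normal subgroup, `K`: `C_V(N) = 1`, `7`: a minimal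
normal subgroup is simple) give the conclusion. -/
theorem final_of_pieces [Finite G] {V : Subgroup G} (ctx : Ctx V)
    (pieceA : ∀ {N : Subgroup G}, MinNormal N → (∀ a ∈ N, ∀ b ∈ N, a * b = b * a) → False)
    (pieceK : ∀ {N : Subgroup G}, N.Normal → N ≠ ⊥ →
      N ⊓ Subgroup.centralizer (N : Set G) = ⊥ → V ⊓ Subgroup.centralizer (N : Set G) = ⊥)
    (piece7 : ∀ {N : Subgroup G}, MinNormal N → N ⊔ V = ⊤ →
      Subgroup.centralizer (N : Set G) = ⊥ → ∀ L : Subgroup G, L ≤ N →
      (∀ n ∈ N, ∀ x ∈ L, n * x * n⁻¹ ∈ L) → L = ⊥ ∨ L = N) :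
    IsSimpleGroup ↥(generalizedFittingSubgroup G) ∧
      ¬ IsMulCommutative ↥(generalizedFittingSubgroup G) ∧
      V ⊔ generalizedFittingSubgroup G = ⊤ := by
  have hVe := ctx.elem
  -- `G` is nontrivial
  have hGnt : Nontrivial G := by
    obtain ⟨v, hv1⟩ := (Subgroup.ne_bot_iff_exists_ne_one).1 ctx.ne_bot
    exact ⟨⟨(v : G), 1, fun h => hv1 (Subtype.ext h)⟩⟩
  obtain ⟨N, hNmin⟩ := exists_minNormal (G := G)
  have hN : N.Normal := hNmin.1
  have hN1 : N ≠ ⊥ := hNmin.2.1
  -- `N` is not abelian
  have hnab : ¬ ∀ a ∈ N, ∀ b ∈ N, a * b = b * a := fun h => pieceA hNmin h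
  have hCn : (Subgroup.centralizer (N : Set G)).Normal := Subgroup.normal_centralizer
  -- `Z(N) = 1`
  have hZ : N ⊓ Subgroup.centralizer (N : Set G) = ⊥ := by
    rcases hNmin.2.2 (N ⊓ Subgroup.centralizer (N : Set G)) inferInstance inf_le_left with h | h
    · exact h
    · exfalso
      apply hnab
      intro a ha b hb
      have hb' : b ∈ Subgroup.centralizer (N : Set G) := by
        have : b ∈ N ⊓ Subgroup.centralizer (N : Set G) := by rw [h]; exact hb
        exact this.2
      exact Subgroup.mem_centralizer_iff.1 hb' a ha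
  have hVC : V ⊓ Subgroup.centralizer (N : Set G) = ⊥ := pieceK hN hN1 hZ
  -- `G = N V`
  have hNV : N ⊔ V = ⊤ := by
    by_contra hne
    obtain ⟨x, hxV, hx1, hxc⟩ := ctx.minG hne le_sup_right hVe ctx.ne_bot
      (relSidki_of_isSidkiPair ctx.sidki _)
    have hxC : x ∈ Subgroup.centralizer (N : Set G) := by
      rw [Subgroup.mem_centralizer_iff]
      intro n hn
      exact (pCoreOf_commute_of_normal hN le_sup_left ctx.core hxc hn).symm
    have : x ∈ V ⊓ Subgroup.centralizer (N : Set G) := ⟨hxV, hxC⟩
    rw [hVC] at this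
    exact hx1 this
  -- `C_G(N) = 1`
  have hC : Subgroup.centralizer (N : Set G) = ⊥ := by
    have hp : IsPGroup 2 (Subgroup.centralizer (N : Set G)) := by
      intro c
      refine ⟨1, ?_⟩
      have hcmem : (c : G) ∈ N ⊔ V := by rw [hNV]; trivial
      obtain ⟨n, hn, v, hv, hnv⟩ := Subgroup.mem_sup_of_normal_left.1 hcmem
      have h1 : (c : G) ^ 2 ∈ N := by
        rw [← hnv]
        have : (n * v) ^ 2 = n * (v * n * v⁻¹) * (v * v) := by
          rw [pow_two]; group
        rw [this, elem_sq hVe hv, mul_one]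
        exact mul_mem hn (hN.conj_mem n hn v)
      have h2 : (c : G) ^ 2 ∈ Subgroup.centralizer (N : Set G) := pow_mem c.2 2
      have h3 : (c : G) ^ 2 ∈ N ⊓ Subgroup.centralizer (N : Set G) := ⟨h1, h2⟩
      rw [hZ, Subgroup.mem_bot] at h3
      apply Subtype.ext
      simpa using h3
    have hle : Subgroup.centralizer (N : Set G) ≤ pCore 2 G := le_pCore hCn hp
    rw [ctx.core] at hle
    exact le_bot_iff.1 hle
  -- `N` is simple
  have hnt : Nontrivial N := (Subgroup.nontrivial_iff_ne_bot N).2 hN1
  have hsimple : IsSimpleGroup N := by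
    refine ⟨?_⟩
    intro M hM
    have hL := piece7 hNmin hNV hC (M.map N.subtype) (Subgroup.map_subtype_le M) (by
      rintro n hn _ ⟨x, hx, rfl⟩
      exact ⟨⟨n, hn⟩ * x * ⟨n, hn⟩⁻¹, hM.conj_mem x hx ⟨n, hn⟩, by simp⟩)
    rcases hL with h | h
    · left
      exact (Subgroup.map_eq_bot_iff_of_injective M N.subtype_injective).1 h
    · right
      rw [eq_top_iff]
      intro x _
      have hx : (x : G) ∈ M.map N.subtype := by rw [h]; exact x.2
      obtain ⟨y, hy, hyx⟩ := hx
      have : y = x := Subtype.ext hyx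
      rwa [← this]
  have hnabN : ∃ x y : N, x * y ≠ y * x := by
    by_contra hcon
    push Not at hcon
    apply hnab
    intro a ha b hb
    exact congrArg Subtype.val (hcon ⟨a, ha⟩ ⟨b, hb⟩)
  have hnc : ¬ IsMulCommutative N := by
    intro hc
    obtain ⟨x, y, hxy⟩ := hnabN
    exact hxy (mul_comm' x y)
  -- `N` is a component
  have hcomp : IsComponent N := ⟨hN.isSubnormal, isQuasisimple_of_simple hsimple hnabN⟩
  have hNlayer : N ≤ layer G := le_sSup hcomp
  -- `[G,G] ≤ N`
  have hcommle : commutator G ≤ N := by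
    rw [commutator_def, Subgroup.commutator_le]
    intro a _ b _
    have ha : a ∈ N ⊔ V := by rw [hNV]; trivial
    have hb : b ∈ N ⊔ V := by rw [hNV]; trivial
    obtain ⟨n1, hn1, v1, hv1, rfl⟩ := Subgroup.mem_sup_of_normal_left.1 ha
    obtain ⟨n2, hn2, v2, hv2, rfl⟩ := Subgroup.mem_sup_of_normal_left.1 hb
    have hq : (QuotientGroup.mk' N) ⁅n1 * v1, n2 * v2⁆ = 1 := by
      have e1 : (QuotientGroup.mk' N) n1 = 1 := (QuotientGroup.eq_one_iff n1).2 hn1
      have e2 : (QuotientGroup.mk' N) n2 = 1 := (QuotientGroup.eq_one_iff n2).2 hn2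
      have e3 : (QuotientGroup.mk' N) v1 * (QuotientGroup.mk' N) v2
          = (QuotientGroup.mk' N) v2 * (QuotientGroup.mk' N) v1 := by
        rw [← map_mul, ← map_mul, elem_comm hVe hv1 hv2]
      rw [commutatorElement_def]
      simp only [map_mul, map_inv, e1, e2, one_mul]
      rw [e3]
      group
    exact (QuotientGroup.eq_one_iff _).1 hq
  -- the layer is `N`
  have hlayer : layer G ≤ N := by
    apply sSup_le
    intro K hK
    have hperf : ⁅K, K⁆ = K := Subgroup.isPerfect_iff.1 hK.2.1
    rw [← hperf]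
    exact (Subgroup.commutator_mono le_top le_top).trans hcommle
  -- the Fitting subgroup is trivial
  have hfit : fittingSubgroup G = ⊥ := by
    have hFn : (fittingSubgroup G).Normal := inferInstance
    have hFnil : Group.IsNilpotent (fittingSubgroup G) := isNilpotent_fittingSubgroup
    have hFN : fittingSubgroup G ⊓ N = ⊥ := by
      rcases hNmin.2.2 (fittingSubgroup G ⊓ N) inferInstance inf_le_right with h | h
      · exact h
      · exfalso
        have hNF : N ≤ fittingSubgroup G := by
          rw [← h]; exact inf_le_left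
        -- `N` would be solvable
        have hsolF : Group.IsSolvable (fittingSubgroup G) := IsNilpotent.to_isSolvable
        have hsolN : Group.IsSolvable N :=
          Group.isSolvable_of_isSolvable_injective (Subgroup.inclusion_injective hNF)
        have hcommN : ∀ a b : N, a * b = b * a := (IsSimpleGroup.comm_iff_isSolvable.2 hsolN)
        obtain ⟨x, y, hxy⟩ := hnabN
        exact hxy (hcommN x y)
    have hle : fittingSubgroup G ≤ Subgroup.centralizer (N : Set G) := by
      intro f hf
      rw [Subgroup.mem_centralizer_iff]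
      intro n hn
      have hmem : f * n * f⁻¹ * n⁻¹ ∈ fittingSubgroup G ⊓ N := by
        refine Subgroup.mem_inf.2 ⟨?_, ?_⟩
        · have h1 : n * f⁻¹ * n⁻¹ ∈ fittingSubgroup G := hFn.conj_mem _ (inv_mem hf) n
          have : f * (n * f⁻¹ * n⁻¹) ∈ fittingSubgroup G := mul_mem hf h1
          simpa [mul_assoc] using this
        · exact mul_mem (hN.conj_mem n hn f) (inv_mem hn)
      rw [hFN, Subgroup.mem_bot] at hmem
      calc n * f = (f * n * f⁻¹ * n⁻¹)⁻¹ * (f * n) := by group
        _ = f * n := by rw [hmem, inv_one, one_mul]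
    rw [hC] at hle
    exact le_bot_iff.1 hle
  have hF : generalizedFittingSubgroup G = N := by
    unfold generalizedFittingSubgroup
    rw [hfit, sup_bot_eq]
    exact le_antisymm hlayer hNlayer
  rw [hF]
  refine ⟨hsimple, hnc, ?_⟩
  rw [sup_comm]
  exact hNV

end Cfsg.Agent.Helper51.Sidki
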