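import Cfsg.Agent.Helper51.SidkiCtx

/-!
# Sidki pairs pass to quotients by normal subgroups meeting `V` trivially (helper51, for S3048)
-/

set_option autoImplicit false
universe u

namespace Cfsg.Agent.Helper51.Sidki

open Cfsg Cfsg.Agent.Lib

variable {G : Type u} [Group G]

theorem elem_map {V : Subgroup G} (hV : IsElementaryAbelian 2 V) {H : Type*} [Group H]
    (f : G →* H) : IsElementaryAbelian 2 (V.map f) := by
  have := hV.1
  refine ⟨inferInstance, ?_⟩
  rintro a ⟨x, hx, rfl⟩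
  rw [← map_pow, hV.2 x hx, map_one]

theorem map_mk_ne_bot {V : Subgroup G} (hV1 : V ≠ ⊥) (Q : Subgroup G) [Q.Normal]
    (hVQ : V ⊓ Q = ⊥) : V.map (QuotientGroup.mk' Q) ≠ ⊥ := by
  intro h
  apply hV1
  rw [eq_bot_iff]
  intro x hx
  have h1 : (QuotientGroup.mk' Q) x ∈ V.map (QuotientGroup.mk' Q) := Subgroup.mem_map_of_mem _ hx
  rw [h, Subgroup.mem_bot] at h1
  have h2 : x ∈ Q := by
    rw [← QuotientGroup.eq_one_iff]
    exact h1
  have : x ∈ V ⊓ Q := ⟨hx, h2⟩
  rwa [hVQ] at this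

/-- **Quotient lemma.** If `V` is an elementary abelian 2-group with the Sidki property in the
finite group `G` and `Q ⊴ G` meets `V` trivially, then the image of `V` in `G ⧸ Q` has the Sidki
property. -/
theorem isSidkiPair_map_mk [Finite G] {V : Subgroup G} (hV : IsElementaryAbelian 2 V)
    (hS : IsSidkiPair V) (Q : Subgroup G) [Q.Normal] (hVQ : V ⊓ Q = ⊥) :
    IsSidkiPair (V.map (QuotientGroup.mk' Q)) := by
  intro hbar vbar hvbar hodd hinv
  obtain ⟨v, hv, rfl⟩ := hvbar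
  obtain ⟨h, rfl⟩ := QuotientGroup.mk'_surjective Q hbar
  have hvv : v * v = 1 := elem_sq hV hv
  have hvinv : v⁻¹ = v := elem_inv hV hv
  set d := v * h⁻¹ * v⁻¹ * h with hd
  have hdinv : v * d * v⁻¹ = d⁻¹ := by
    have e1 : v * d * v⁻¹ = (v * v) * h⁻¹ * v⁻¹ * h * v⁻¹ := by rw [hd]; group
    have e2 : d⁻¹ = h⁻¹ * v * h * v⁻¹ := by rw [hd]; group
    rw [e1, e2, hvv, one_mul, hvinv]
  -- the image of `d` is the square of the image of `h`
  have hdbar : (QuotientGroup.mk' Q) d = ((QuotientGroup.mk' Q) h) ^ 2 := by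
    have e1 : (QuotientGroup.mk' Q) d
        = ((QuotientGroup.mk' Q) v * (QuotientGroup.mk' Q) h * ((QuotientGroup.mk' Q) v)⁻¹)⁻¹
          * (QuotientGroup.mk' Q) h := by
      rw [hd]
      simp only [map_mul, map_inv]
      group
    rw [e1, hinv, inv_inv, pow_two]
  -- odd part of `d`
  have hpos : orderOf d ≠ 0 := (orderOf_pos d).ne'
  obtain ⟨e, m, hm, hem⟩ := Nat.exists_eq_two_pow_mul_odd hpos
  set h' := d ^ (2 ^ e) with hh'
  have hh'odd : Odd (orderOf h') := by
    apply Odd.of_dvd_nat hm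
    apply orderOf_dvd_of_pow_eq_one
    rw [hh', ← pow_mul, ← hem, pow_orderOf_eq_one]
  have hh'inv : v * h' * v⁻¹ = h'⁻¹ := by
    rw [hh', ← conj_pow, hdinv, inv_pow]
  obtain ⟨w, hw, hw1, hwc⟩ := hS h' v hv hh'odd hh'inv
  refine ⟨(QuotientGroup.mk' Q) w, Subgroup.mem_map_of_mem _ hw, ?_, ?_⟩
  · intro h1
    have h2 : w ∈ Q := by
      rw [← QuotientGroup.eq_one_iff]
      exact h1
    have : w ∈ V ⊓ Q := ⟨hw, h2⟩
    rw [hVQ] at this
    exact hw1 this
  · -- the image of `h'` generates the same cyclic group as the image of `h`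
    set g := (QuotientGroup.mk' Q) h with hg
    have hc1 : Commute ((QuotientGroup.mk' Q) w) (g ^ (2 ^ (e + 1))) := by
      have : (QuotientGroup.mk' Q) h' = g ^ (2 ^ (e + 1)) := by
        rw [hh', map_pow, hdbar, ← pow_mul, pow_succ, mul_comm]
      rw [← this]
      show (QuotientGroup.mk' Q) w * (QuotientGroup.mk' Q) h'
        = (QuotientGroup.mk' Q) h' * (QuotientGroup.mk' Q) w
      rw [← map_mul, ← map_mul, hwc]
    have hcop : Nat.Coprime (2 ^ (e + 1)) (orderOf g) := by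
      apply Nat.Coprime.pow_left
      exact (Nat.coprime_two_left).2 hodd
    obtain ⟨j, hj⟩ := exists_pow_eq_self_of_coprime hcop
    have hc2 : Commute ((QuotientGroup.mk' Q) w) ((g ^ (2 ^ (e + 1))) ^ j) := hc1.pow_right j
    rw [hj] at hc2
    exact hc2

end Cfsg.Agent.Helper51.Sidki
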