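import Cfsg.Agent.S2326
import Cfsg.Agent.Helper51.R3Chev
import Cfsg.Agent.Helper51.SqComm

/-!
# Helper51: S4625, piece (X): the untwisted exceptional types in characteristic two

`U` is generated by the root elements `x_r(t)`, `r` positive, which are involutions; `U` is a Sylow
`2`-subgroup (S2326).
-/

set_option autoImplicit false

namespace Cfsg.Agent.Helper51.SQ

open Cfsg Cfsg.Lie Cfsg.Agent.Helper18 Cfsg.Agent.Helper18.Aut Cfsg.Agent.Helper51.R3

/-- `U` has the property -/
theorem sqComm_posUnipotent {F : Type*} [Field F] [CharP F 2] (D : ChevalleyDatum)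
    (hD : D ∈ [chevG2, chevB2, chevD4, chevF4, chevE6, chevE7, chevE8]) :
    SqComm ↥(D.posUnipotent F) := by
  refine sqComm_of_closure_involutions (D.posUnipotent F)
    {g | ∃ (r : ℕ) (t : F), D.IsPosRoot r ∧ (g : Matrix D.Idx D.Idx F) = D.x F r t} rfl ?_
  rintro g ⟨r, t, hr, hg⟩
  have hg' : g = xGL D F r t := by
    apply Units.ext
    rw [hg, xGL_val D _ (triOK_of_mem D hD)]
  rw [hg']
  exact xGL_sq_two D hD r hr.1 t

/-- (X) -/
theorem sq_Chev {F : Type*} [Field F] [Fintype F] [CharP F 2] (D : Lie.ChevalleyDatum)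
    (hD : D ∈ [Lie.chevG2, Lie.chevF4, Lie.chevE6, Lie.chevE7, Lie.chevE8])
    (P : Sylow 2 ↥(D.group F)) : SqComm (P : Subgroup ↥(D.group F)) := by
  have : Fact (Nat.Prime 2) := ⟨Nat.prime_two⟩
  have hD' : D ∈ [chevG2, chevB2, chevD4, chevF4, chevE6, chevE7, chevE8] := by
    simp only [List.mem_cons, List.not_mem_nil, or_false] at hD ⊢
    tauto
  obtain ⟨P₀, hP₀⟩ := Cfsg.Agent.S2326.result (F := F) 2 D hD'
  refine sylow_all_of_one P₀ ?_ P
  rw [hP₀]
  have hle : D.posUnipotent F ≤ D.group F := by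
    unfold ChevalleyDatum.posUnipotent
    rw [Subgroup.closure_le]
    rintro g ⟨r, t, hr, hg⟩
    have hg' : g = xGL D F r t := by
      apply Units.ext
      rw [hg, xGL_val D _ (triOK_of_mem D hD')]
    rw [hg']
    exact xGL_mem_group' D hD' _ _
  exact (sqComm_posUnipotent D hD').of_mulEquiv (Subgroup.subgroupOfEquivOfLe hle).symm

end Cfsg.Agent.Helper51.SQ
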