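import Mathlib
import Cfsg.Agent.Helper51.Timmesfeld
import Cfsg.Agent.Helper51.ElemAb

set_option autoImplicit false

namespace Cfsg.Agent.Helper51

open Subgroup
open scoped commutatorElement

variable {G : Type*} [Group G]

/-- External version of `conj_comm_eq`: `x` need not lie in `V`, only its commutators with `a, c`. -/
theorem conj_comm_eq_ext (V : Subgroup G) (hV : IsMulCommutative V) {x a c : G}
    (hxa : ⁅x, a⁆ ∈ V) (hxc : ⁅x, c⁆ ∈ V) (hac : a * c = c * a) :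
    c * ⁅x, a⁆ * c⁻¹ = ⁅x, a⁆ * ⁅(⁅x, c⁆)⁻¹, a⁆ := by
  set u := ⁅x, c⁆ with hu
  have hv' : c * x * c⁻¹ = u⁻¹ * x := by rw [hu, commutatorElement_def]; group
  have ha' : c * a * c⁻¹ = a := by rw [← hac]; group
  have e1 : c * ⁅x, a⁆ * c⁻¹ = ⁅c * x * c⁻¹, c * a * c⁻¹⁆ := by
    simp only [commutatorElement_def]; group
  have e3 : ⁅u⁻¹ * x, a⁆ = u⁻¹ * ⁅x, a⁆ * (a * u * a⁻¹) := by
    simp only [commutatorElement_def]; group
  have hcomm : u⁻¹ * ⁅x, a⁆ = ⁅x, a⁆ * u⁻¹ := comm_of_mem' hV (V.inv_mem hxc) hxa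
  rw [e1, hv', ha', e3, hcomm]
  simp only [commutatorElement_def]; group

theorem conj_comm_eq_iff_ext (V : Subgroup G) (hV : IsMulCommutative V) {x a c : G}
    (hxa : ⁅x, a⁆ ∈ V) (hxc : ⁅x, c⁆ ∈ V) (hac : a * c = c * a) :
    c * ⁅x, a⁆ = ⁅x, a⁆ * c ↔ a * ⁅x, c⁆ = ⁅x, c⁆ * a := by
  have key := conj_comm_eq_ext V hV hxa hxc hac
  constructor
  · intro h
    have h1 : c * ⁅x, a⁆ * c⁻¹ = ⁅x, a⁆ := by rw [h]; group
    rw [h1] at key
    have h2 : ⁅(⁅x, c⁆)⁻¹, a⁆ = 1 := by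
      have := key.symm
      exact mul_left_cancel (a := ⁅x, a⁆) (by rw [this, mul_one])
    rw [commutatorElement_def] at h2
    have h3 : a * ⁅x, c⁆ = ⁅x, c⁆ * ((⁅x, c⁆)⁻¹ * a * (⁅x, c⁆)⁻¹⁻¹ * a⁻¹) * a := by group
    rw [h3, h2, mul_one]
  · intro h
    have h2 : ⁅(⁅x, c⁆)⁻¹, a⁆ = 1 := by
      rw [commutatorElement_def]
      have : (⁅x, c⁆)⁻¹ * a * (⁅x, c⁆)⁻¹⁻¹ * a⁻¹ = (⁅x, c⁆)⁻¹ * (a * ⁅x, c⁆) * a⁻¹ := by group
      rw [this, h]; group
    rw [h2, mul_one] at key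
    calc c * ⁅x, a⁆ = (c * ⁅x, a⁆ * c⁻¹) * c := by group
      _ = ⁅x, a⁆ * c := by rw [key]

/-- External Timmesfeld step: `V` abelian, `X` abelian, `x` any element with `[x, X] ⊆ V`. -/
theorem timmesfeld_step_ext [Finite G] (V X : Subgroup G) (hV : IsMulCommutative V)
    (hX : IsMulCommutative X) (x : G) (hx : ∀ a ∈ X, ⁅x, a⁆ ∈ V) :
    (∀ a ∈ X, ⁅x, a⁆ ∈ cD V (offSub V X x)) ∧
    Nat.card X * Nat.card (cD V X) ≤ Nat.card (offSub V X x) * Nat.card (cD V (offSub V X x)) ∧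
      (Nat.card X * Nat.card (cD V X) =
          Nat.card (offSub V X x) * Nat.card (cD V (offSub V X x)) →
        ∀ w ∈ cD V (offSub V X x), ∃ a ∈ X, (⁅x, a⁆)⁻¹ * w ∈ cD V X) := by
  set Y := offSub V X x with hY
  have hVW : cD V X ≤ cD V Y :=
    inf_le_inf_left _ (centralizer_le (by exact_mod_cast offSub_le V X x))
  have hψW : ∀ a ∈ X, ⁅x, a⁆ ∈ cD V Y := by
    intro a ha
    rw [mem_cD]
    refine ⟨hx a ha, ?_⟩
    intro c hc
    obtain ⟨hcX, hu⟩ := mem_offSub.mp hc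
    rw [conj_comm_eq_iff_ext V hV (hx a ha) (hx c hcX) (comm_of_mem' hX ha hcX)]
    exact (mem_cD.mp hu).2 a ha
  have hψ : ∀ a ∈ X, ∀ b ∈ X, (⁅x, a⁆)⁻¹ * ⁅x, b⁆ ∈ cD V X → a⁻¹ * b ∈ Y := by
    intro a ha b hb hab'
    rw [hY, mem_offSub]
    refine ⟨X.mul_mem (X.inv_mem ha) hb, ?_⟩
    have e : ⁅x, a⁻¹ * b⁆ = a⁻¹ * ((⁅x, a⁆)⁻¹ * ⁅x, b⁆) * a := by
      simp only [commutatorElement_def]; group
    have h1 : a⁻¹ * ((⁅x, a⁆)⁻¹ * ⁅x, b⁆) * a = (⁅x, a⁆)⁻¹ * ⁅x, b⁆ := by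
      rw [(mem_cD.mp hab').2 a⁻¹ (X.inv_mem ha)]; group
    rw [e, h1]; exact hab'
  have key := card_mul_le_of_coset_map' (offSub_le V X x) hVW (fun a => ⁅x, a⁆) hψW hψ
  exact ⟨hψW, key.1, key.2⟩

theorem offSub_max_ext [Finite G] (V A : Subgroup G) (hV : IsMulCommutative V)
    (hA : IsMulCommutative A)
    (hBO : ∀ B : Subgroup G, B ≤ A → mu V B ≤ mu V A) {x : G} (hx : ∀ a ∈ A, ⁅x, a⁆ ∈ V) :
    mu V (offSub V A x) = mu V A ∧ cD V (offSub V A x) = commSub A x ⊔ cD V A := by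
  obtain ⟨h0, h1, h2⟩ := timmesfeld_step_ext V A hV hA x hx
  have heq : mu V (offSub V A x) = mu V A := le_antisymm (hBO _ (offSub_le V A x)) h1
  refine ⟨heq, le_antisymm ?_ ?_⟩
  · intro w hw
    obtain ⟨a, ha, haw⟩ := h2 heq.symm w hw
    have : w = ⁅x, a⁆ * ((⁅x, a⁆)⁻¹ * w) := by group
    rw [this]
    exact mul_mem (mem_sup_left (subset_closure ⟨a, ha, rfl⟩)) (mem_sup_right haw)
  · apply sup_le
    · unfold commSub
      rw [closure_le]
      rintro g ⟨a, ha, rfl⟩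
      exact h0 a ha
    · exact inf_le_inf_left _ (centralizer_le (by exact_mod_cast offSub_le V A x))

theorem mem_inf_centralizer_commutator_iff_ext (V A U : Subgroup G) (hV : IsMulCommutative V)
    (hA : IsMulCommutative A) (hU : ∀ u ∈ U, ∀ a ∈ A, ⁅u, a⁆ ∈ V) (a : G) :
    a ∈ A ⊓ centralizer ((⁅U, A⁆ : Subgroup G) : Set G) ↔ a ∈ A ∧ ∀ u ∈ U, a ∈ offSub V A u := by
  rw [mem_inf]
  constructor
  · rintro ⟨haA, hac⟩
    refine ⟨haA, fun u hu => ?_⟩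
    rw [mem_offSub]
    refine ⟨haA, ?_⟩
    rw [mem_cD]
    refine ⟨hU u hu a haA, fun b hb => ?_⟩
    rw [conj_comm_eq_iff_ext V hV (hU u hu a haA) (hU u hu b hb) (comm_of_mem' hA haA hb)]
    exact (mem_centralizer_iff.mp hac _ (commutator_mem_commutator hu hb)).symm
  · rintro ⟨haA, h⟩
    refine ⟨haA, ?_⟩
    rw [Subgroup.commutator_def, centralizer_closure, mem_centralizer_iff]
    rintro g ⟨u, hu, b, hb, rfl⟩
    have := (conj_comm_eq_iff_ext V hV (hU u hu b hb) (hU u hu a haA)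
      (comm_of_mem' hA hb haA)).mpr ((mem_cD.mp (mem_offSub.mp (h u hu)).2).2 b hb)
    exact this.symm

/-- External Timmesfeld replacement: `A` abelian best offender on abelian `V`, `U` any subgroup
with `[U, A] ≤ V` elementwise. -/
theorem timmesfeld_replacement_ext [Finite G] (V A : Subgroup G) (hV : IsMulCommutative V)
    (hA : IsMulCommutative A)
    (hBO : ∀ B : Subgroup G, B ≤ A → mu V B ≤ mu V A) (U : Subgroup G)
    (hU : ∀ u ∈ U, ∀ a ∈ A, ⁅u, a⁆ ∈ V) :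
    mu V (A ⊓ centralizer ((⁅U, A⁆ : Subgroup G) : Set G)) = mu V A ∧
      cD V (A ⊓ centralizer ((⁅U, A⁆ : Subgroup G) : Set G)) = ⁅U, A⁆ ⊔ cD V A := by
  classical
  have key : ∀ s : Finset G, (∀ u ∈ s, u ∈ U) →
      mu V (A ⊓ ⨅ u ∈ s, offSub V A u) = mu V A ∧
        cD V (A ⊓ ⨅ u ∈ s, offSub V A u) = (⨆ u ∈ s, commSub A u) ⊔ cD V A := by
    intro s
    induction s using Finset.induction_on with
    | empty =>
      intro _
      simp
    | insert u s hus ih =>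
      intro hs
      have hsV : ∀ u ∈ s, u ∈ U := fun x hx => hs x (Finset.mem_insert_of_mem hx)
      obtain ⟨ih1, ih2⟩ := ih hsV
      obtain ⟨k1, k2⟩ := offSub_max_ext V A hV hA hBO (hU u (hs u (Finset.mem_insert_self u s)))
      have hrew : A ⊓ ⨅ x ∈ insert u s, offSub V A x =
          (A ⊓ ⨅ x ∈ s, offSub V A x) ⊓ offSub V A u := by
        rw [Finset.iInf_insert, inf_comm (offSub V A u), inf_assoc]
      obtain ⟨m1, m2⟩ := inf_of_max_mu V hBO (inf_le_left : A ⊓ ⨅ x ∈ s, offSub V A x ≤ A)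
        (offSub_le V A u) ih1 k1
      rw [hrew]
      refine ⟨m1, ?_⟩
      rw [m2, ih2, k2, Finset.iSup_insert]
      apply le_antisymm
      · refine sup_le (sup_le (le_sup_of_le_left le_sup_right) le_sup_right)
          (sup_le (le_sup_of_le_left le_sup_left) le_sup_right)
      · refine sup_le (sup_le ?_ ?_) ?_
        · exact le_sup_of_le_right le_sup_left
        · exact le_sup_of_le_left le_sup_left
        · exact le_sup_of_le_left le_sup_right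
  set s : Finset G := (Set.toFinite (U : Set G)).toFinset with hs
  have hsmem : ∀ u, u ∈ s ↔ u ∈ U := by
    intro u; rw [hs, Set.Finite.mem_toFinset]; rfl
  obtain ⟨k1, k2⟩ := key s (fun u hu => (hsmem u).mp hu)
  have hB : A ⊓ ⨅ u ∈ s, offSub V A u = A ⊓ centralizer ((⁅U, A⁆ : Subgroup G) : Set G) := by
    ext a
    rw [mem_inf_centralizer_commutator_iff_ext V A U hV hA hU, mem_inf]
    simp only [mem_iInf, hsmem]
  have hT : (⨆ u ∈ s, commSub A u) = ⁅U, A⁆ := by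
    rw [← iSup_commSub]
    apply le_antisymm
    · apply iSup₂_le
      intro u hu
      exact le_iSup₂ (f := fun u (_ : u ∈ (U : Set G)) => commSub A u) u ((hsmem u).mp hu)
    · apply iSup₂_le
      intro u hu
      exact le_iSup₂ (f := fun u (_ : u ∈ s) => commSub A u) u ((hsmem u).mpr hu)
  rw [hB] at k1 k2
  rw [hT] at k2
  exact ⟨k1, k2⟩

end Cfsg.Agent.Helper51
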