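import Cfsg.Agent.Helper34.Alperin

/-!
# A "first move" form of Alperin's fusion theorem (helper51)

If `T ≤ S` (a Sylow `p`-subgroup), `x ∈ T`, and `g` conjugates `T` into `S` but moves `x`, then there is a subgroup
`H ≤ S` containing a conjugate of `T` by an element centralizing `x`, and an element of `N_G(H)` moving `x`.
-/

set_option autoImplicit false

namespace Cfsg.Agent.Helper51

open Cfsg.Agent.Helper34

theorem alperin_move {G : Type*} [Group G] [Finite G] {p : ℕ} [Fact p.Prime] (S : Sylow p G)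
    (T : Subgroup G) (hTS : T ≤ (S : Subgroup G)) (x : G) (hxT : x ∈ T) (g : G)
    (hg : ∀ t ∈ T, g⁻¹ * t * g ∈ (S : Subgroup G)) (hgx : g⁻¹ * x * g ≠ x) :
    ∃ (H : Subgroup G) (k y : G), H ≤ (S : Subgroup G) ∧ (∀ t ∈ T, k⁻¹ * t * k ∈ H) ∧
      k⁻¹ * x * k = x ∧ y ∈ Subgroup.normalizer (H : Set G) ∧ y⁻¹ * x * y ≠ x := by
  classical
  obtain ⟨n, Q, y, hprod, hstep, h0, hsucc⟩ := alperin_fusion S (T : Set G) g hTS (by
    rintro _ ⟨t, ht, rfl⟩
    exact hg t ht)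
  set L := List.ofFn y with hL
  have hlen : L.length = n := by rw [hL, List.length_ofFn]
  let π : ℕ → G := fun j => (L.take j).prod
  have hπ0 : π 0 = 1 := by simp [π]
  have hπn : π n = g := by
    show (L.take n).prod = g
    rw [← hlen, List.take_length]
    exact hprod
  have hπs : ∀ j (hj : j < n), π (j + 1) = π j * y ⟨j, hj⟩ := by
    intro j hj
    show (L.take (j + 1)).prod = (L.take j).prod * y ⟨j, hj⟩
    rw [List.prod_take_succ L j (by rw [hlen]; exact hj)]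
    congr 1
    simp [hL]
  -- containment of the conjugates of `T`
  have hcont : ∀ j (hj : j < n), ∀ t ∈ T, (π j)⁻¹ * t * π j ∈ (S : Subgroup G) ⊓ (Q ⟨j, hj⟩ : Subgroup G) := by
    intro j hj t ht
    rcases j with _ | j
    · rw [hπ0, inv_one, one_mul, mul_one]
      exact h0 hj ht
    · have hj' : j < n := by omega
      exact hsucc ⟨j, hj'⟩ hj ⟨t, ht, rfl⟩
  -- the first index where `x` moves
  have hex : ∃ j, (π j)⁻¹ * x * π j ≠ x := ⟨n, by rw [hπn]; exact hgx⟩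
  obtain ⟨j, hj, hjmin, hjn⟩ : ∃ j, (π j)⁻¹ * x * π j ≠ x ∧ (∀ i < j, (π i)⁻¹ * x * π i = x) ∧ j ≤ n := by
    refine ⟨Nat.find hex, Nat.find_spec hex, fun i hi => ?_, Nat.find_min' hex (by rw [hπn]; exact hgx)⟩
    by_contra h
    exact Nat.find_min hex hi h
  have hj0 : j ≠ 0 := by
    intro h0'
    rw [h0', hπ0] at hj
    simp at hj
  obtain ⟨i, rfl⟩ : ∃ i, j = i + 1 := ⟨j - 1, by omega⟩
  have hi : i < n := by omega
  have hxi := hjmin i (Nat.lt_succ_self i)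
  refine ⟨(S : Subgroup G) ⊓ (Q ⟨i, hi⟩ : Subgroup G), π i, y ⟨i, hi⟩, inf_le_left, hcont i hi, hxi,
    (hstep ⟨i, hi⟩).1, ?_⟩
  intro h
  apply hj
  rw [hπs i hi]
  calc (π i * y ⟨i, hi⟩)⁻¹ * x * (π i * y ⟨i, hi⟩)
      = (y ⟨i, hi⟩)⁻¹ * ((π i)⁻¹ * x * π i) * y ⟨i, hi⟩ := by group
    _ = x := by rw [hxi, h]

end Cfsg.Agent.Helper51
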