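import Mathlib

/-!
# Products over elementary abelian groups and an orbit-product lemma (helper51)

* `prod_univ_eq_one_of_pow_eq_one`: in a finite commutative group of exponent `p` whose order is not `2`, the
  product of all elements is `1`.
* `orbit_prod`: a `p`-group `A` acting quadratically on a commutative group `W`; the product of `c * u` over an
  invariant finite set `s` equals the product over the fixed points in `s`, unless some orbit has length `2`.
-/

set_option autoImplicit false

namespace Cfsg.Agent.Helper51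

open Finset

/-- In a finite commutative group of exponent `p` whose order is not `2`, the product of all elements is `1`. -/
theorem prod_univ_eq_one_of_pow_eq_one {W : Type*} [CommGroup W] [Fintype W] {p : ℕ} [hp : Fact p.Prime]
    (hexp : ∀ w : W, w ^ p = 1) (h2 : Fintype.card W ≠ 2) : ∏ w : W, w = 1 := by
  classical
  by_cases hp2 : p = 2
  · subst hp2
    have hPG : IsPGroup 2 W := fun w => ⟨1, by rw [pow_one]; exact hexp w⟩
    obtain ⟨n, hn⟩ := IsPGroup.iff_card.mp hPG
    rw [Nat.card_eq_fintype_card] at hn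
    rcases n with _ | n
    · -- trivial group
      have hsub : Subsingleton W := by
        rw [← Fintype.card_le_one_iff_subsingleton, hn, pow_zero]
      exact Finset.prod_eq_one fun w _ => Subsingleton.elim w 1
    rcases n with _ | n
    · exact absurd hn (by simpa using h2)
    -- order `2 ^ (n + 2)`
    have hdvd : 2 ^ (n + 1) ∣ Nat.card W := by
      rw [Nat.card_eq_fintype_card, hn]
      exact pow_dvd_pow 2 (by omega)
    obtain ⟨K, hK⟩ := Sylow.exists_subgroup_card_pow_prime 2 hdvd
    have hidx : K.index = 2 := by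
      have h1 := K.card_mul_index
      rw [hK, Nat.card_eq_fintype_card, hn, pow_succ 2 (n + 1)] at h1
      exact Nat.eq_of_mul_eq_mul_left (by positivity) h1
    have hKne : K ≠ ⊤ := by
      intro h
      rw [h, Subgroup.index_top] at hidx
      omega
    obtain ⟨c, hc⟩ : ∃ c : W, c ∉ K := by
      by_contra hcon
      exact hKne ((Subgroup.eq_top_iff' K).mpr fun w => by
        by_contra hw
        exact hcon ⟨w, hw⟩)
    have hsplit := Finset.prod_filter_mul_prod_filter_not (Finset.univ : Finset W) (fun w => w ∈ K)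
      (fun w => w)
    have hbij : ∏ w ∈ (Finset.univ : Finset W) with ¬ w ∈ K, w = ∏ w ∈ (Finset.univ : Finset W) with w ∈ K, c * w := by
      symm
      apply Finset.prod_nbij' (fun w => c * w) (fun w => c⁻¹ * w)
      · intro w hw
        simp only [Finset.mem_filter, Finset.mem_univ, true_and] at hw ⊢
        rw [Subgroup.mul_mem_iff_of_index_two hidx]
        tauto
      · intro w hw
        simp only [Finset.mem_filter, Finset.mem_univ, true_and] at hw ⊢
        rw [Subgroup.mul_mem_iff_of_index_two hidx, inv_mem_iff]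
        tauto
      · intro w _; simp
      · intro w _; simp
      · intro w _; rfl
    rw [← hsplit, hbij, Finset.prod_mul_distrib, Finset.prod_const]
    have hcardK : (Finset.univ.filter (fun w : W => w ∈ K)).card = 2 ^ (n + 1) := by
      rw [← hK, Nat.card_eq_fintype_card, Fintype.card_subtype]
    rw [hcardK]
    have h3 : c ^ 2 ^ (n + 1) = 1 := by
      rw [pow_succ', pow_mul, hexp c, one_pow]
    rw [h3, one_mul, ← sq]
    exact hexp _
  · -- odd `p`: pair `w` with `w⁻¹`
    have hkey : ∀ w : W, w ≠ 1 → w⁻¹ ≠ w := by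
      intro w hw1 hinv
      apply hw1
      have h1 : w ^ 2 = 1 := by
        rw [sq]
        nth_rewrite 1 [← hinv]
        exact inv_mul_cancel w
      have h3 : orderOf w ∣ 2 := orderOf_dvd_of_pow_eq_one h1
      have h4 : orderOf w ∣ p := orderOf_dvd_of_pow_eq_one (hexp w)
      have h5 : Nat.Coprime 2 p := (Nat.coprime_primes Nat.prime_two hp.out).mpr (Ne.symm hp2)
      have h6 : orderOf w ∣ 1 := by
        have := Nat.dvd_gcd h3 h4
        rwa [h5] at this
      exact orderOf_eq_one_iff.mp (Nat.dvd_one.mp h6)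
    exact Finset.prod_involution (s := (Finset.univ : Finset W)) (f := fun w => w) (fun w _ => w⁻¹)
      (fun w _ => mul_inv_cancel w) (fun w _ hw => hkey w hw) (fun w _ => Finset.mem_univ _)
      (fun w _ => inv_inv w)


/-- The subgroup of `A` fixing the point `u` under the action `ρ`. -/
def fixer {W A : Type*} [Group W] [Group A] (ρ : A →* MulAut W) (u : W) : Subgroup A where
  carrier := {a | ρ a u = u}
  mul_mem' := by
    intro a b ha hb
    change ρ a u = u at ha; change ρ b u = u at hb; change ρ (a * b) u = u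
    rw [map_mul, MulAut.mul_apply, hb, ha]
  one_mem' := by simp
  inv_mem' := by
    intro a ha
    change ρ a u = u at ha; change ρ a⁻¹ u = u
    rw [map_inv, MulAut.inv_apply, MulEquiv.symm_apply_eq, ha]

theorem mem_fixer {W A : Type*} [Group W] [Group A] (ρ : A →* MulAut W) (u : W) (a : A) :
    a ∈ fixer ρ u ↔ ρ a u = u := Iff.rfl

open scoped Classical in
/-- **Orbit-product lemma.** A finite `p`-group `A` acts on the commutative group `W` with `[W, A, A] = 1`. Let `s`
be an invariant finite set with `(c u)^p = 1` for all `u ∈ s`. If no point of `s` has an orbit of length `2`, then the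
product of `c * u` over `s` equals the product over the fixed points in `s`. -/
theorem orbit_prod {W A : Type*} [CommGroup W] [Group A] [Finite A] {p : ℕ} [hp : Fact p.Prime]
    (hA : IsPGroup p A) (ρ : A →* MulAut W)
    (hq : ∀ a b : A, ∀ u : W, ρ b (ρ a u * u⁻¹) = ρ a u * u⁻¹)
    (c : W) (s : Finset W) (hs : ∀ a : A, ∀ u ∈ s, ρ a u ∈ s)
    (hc : ∀ u ∈ s, (c * u) ^ p = 1)
    (hexc : ∀ u ∈ s, (fixer ρ u).index ≠ 2) :
    ∏ u ∈ s, c * u = ∏ u ∈ s.filter (fun u => ∀ a : A, ρ a u = u), c * u := by
  rw [← Finset.prod_filter_mul_prod_filter_not s (fun u => ∀ a : A, ρ a u = u) (fun u => c * u)]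
  suffices h : ∏ u ∈ s with ¬ (∀ a : A, ρ a u = u), c * u = 1 by rw [h, mul_one]
  -- the orbit relation
  let R : Setoid W :=
    { r := fun u v => ∃ a : A, ρ a u = v
      iseqv :=
        { refl := fun u => ⟨1, by simp⟩
          symm := by
            rintro u v ⟨a, rfl⟩
            exact ⟨a⁻¹, by rw [map_inv, MulAut.inv_apply, MulEquiv.symm_apply_apply]⟩
          trans := by
            rintro u v w ⟨a, rfl⟩ ⟨b, rfl⟩
            exact ⟨b * a, by rw [map_mul, MulAut.mul_apply]⟩ } }
  apply Finset.prod_cancels_of_partition_cancels R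
  intro u₀ hu₀
  rw [Finset.mem_filter] at hu₀
  obtain ⟨hu₀s, hu₀nf⟩ := hu₀
  -- the homomorphism `a ↦ [a, u₀]`
  have hφmul : ∀ a b : A, ρ (a * b) u₀ * u₀⁻¹ = (ρ a u₀ * u₀⁻¹) * (ρ b u₀ * u₀⁻¹) := by
    intro a b
    have h1 : ρ b u₀ = (ρ b u₀ * u₀⁻¹) * u₀ := by rw [inv_mul_cancel_right]
    rw [map_mul, MulAut.mul_apply]
    nth_rewrite 1 [h1]
    rw [map_mul, hq b a u₀]
    rw [mul_assoc, mul_comm]
  let φ : A →* W := MonoidHom.mk' (fun a => ρ a u₀ * u₀⁻¹) hφmul
  have hφ : ∀ a, φ a = ρ a u₀ * u₀⁻¹ := fun a => rfl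
  have hker : φ.ker = fixer ρ u₀ := by
    ext a
    rw [MonoidHom.mem_ker, hφ, mem_fixer, mul_inv_eq_one]
  haveI : Finite φ.range := Finite.of_surjective φ.rangeRestrict φ.rangeRestrict_surjective
  haveI : Fintype φ.range := Fintype.ofFinite _
  -- powers
  have hpow : ∀ u ∈ s, u ^ p = (c ^ p)⁻¹ := by
    intro u hu
    have := hc u hu
    rw [mul_pow] at this
    exact eq_inv_of_mul_eq_one_right this
  have hexpr : ∀ w : φ.range, w ^ p = 1 := by
    rintro ⟨w, a, rfl⟩
    apply Subtype.ext
    rw [Subgroup.coe_pow, Subgroup.coe_one]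
    show (φ a) ^ p = 1
    rw [hφ, mul_pow, inv_pow, hpow u₀ hu₀s, hpow (ρ a u₀) (hs a u₀ hu₀s), mul_inv_cancel]
  have hcard2 : Fintype.card φ.range ≠ 2 := by
    rw [← Nat.card_eq_fintype_card, ← Subgroup.index_ker, hker]
    exact hexc u₀ hu₀s
  have hprodW : ∏ w : φ.range, (w : W) = 1 := by
    have h1 := prod_univ_eq_one_of_pow_eq_one (W := φ.range) (p := p) hexpr hcard2
    have h2 : ((∏ w : φ.range, w : φ.range) : W) = ∏ w : φ.range, (w : W) := by
      simp
    rw [← h2, h1, Subgroup.coe_one]
  -- the index of the kernel is divisible by `p`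
  have hdvd : p ∣ Fintype.card φ.range := by
    rw [← Nat.card_eq_fintype_card, ← Subgroup.index_ker, hker]
    obtain ⟨k, hk⟩ := hA.index (fixer ρ u₀)
    rw [hk]
    rcases k with _ | k
    · exfalso
      rw [pow_zero, Subgroup.index_eq_one] at hk
      apply hu₀nf
      intro a
      have : a ∈ fixer ρ u₀ := by rw [hk]; trivial
      exact this
    · exact dvd_pow_self p (Nat.succ_ne_zero k)
  -- reindex the class by the range of `φ`
  have hre : ∏ v ∈ (s.filter fun u => ¬ ∀ a : A, ρ a u = u) with R v u₀, c * v =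
      ∏ w : φ.range, c * ((w : W) * u₀) := by
    symm
    apply Finset.prod_bij (fun (w : φ.range) _ => (w : W) * u₀)
    · rintro ⟨w, a, rfl⟩ _
      have h1 : φ a * u₀ = ρ a u₀ := by rw [hφ, inv_mul_cancel_right]
      simp only [Finset.mem_filter]
      rw [h1]
      refine ⟨⟨hs a u₀ hu₀s, ?_⟩, ⟨a⁻¹, by rw [map_inv, MulAut.inv_apply, MulEquiv.symm_apply_apply]⟩⟩
      intro hfix
      apply hu₀nf
      have h2 : ρ a u₀ = u₀ := by
        have := hfix a⁻¹
        rw [map_inv, MulAut.inv_apply, MulEquiv.symm_apply_apply] at this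
        exact this.symm
      rw [h2] at hfix
      exact hfix
    · intro w _ w' _ h
      exact Subtype.ext (mul_right_cancel h)
    · intro v hv
      simp only [Finset.mem_filter] at hv
      obtain ⟨⟨_, _⟩, a, ha⟩ := hv
      refine ⟨⟨φ a⁻¹, a⁻¹, rfl⟩, Finset.mem_univ _, ?_⟩
      show φ a⁻¹ * u₀ = v
      rw [hφ, inv_mul_cancel_right, ← ha, map_inv, MulAut.inv_apply, MulEquiv.symm_apply_apply]
    · intro w _; rfl
  rw [hre]
  have h3 : ∀ w : φ.range, c * ((w : W) * u₀) = (c * u₀) * (w : W) := by
    intro w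
    rw [mul_comm (w : W) u₀, mul_assoc]
  simp_rw [h3]
  rw [Finset.prod_mul_distrib, Finset.prod_const, hprodW, mul_one, Finset.card_univ]
  obtain ⟨m, hm⟩ := hdvd
  rw [hm, pow_mul, hc u₀ hu₀s, one_pow]

end Cfsg.Agent.Helper51
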