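import Cfsg.Agent.Helper51.WCUtil
import Cfsg.Agent.Helper51.WCProd

/-!
# The chain argument for orbit products (helper51)

A finite group `G` acts on a commutative group `W` by automorphisms; `Ω` is the orbit of `x₀`. If a `p`-subgroup `D`
is generated by a `D`-invariant family `𝒬` of subgroups acting quadratically on `W`, then the product of `c * u` over
`Ω` equals the product over the `D`-fixed points of `Ω`, unless some member of `𝒬` has an orbit of length `2` on `Ω`.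
-/

set_option autoImplicit false
set_option linter.unusedSectionVars false
set_option linter.style.haveILetI false

namespace Cfsg.Agent.Helper51.WC

open Subgroup

universe u

variable {G : Type u} [Group G] [Finite G] {W : Type*} [CommGroup W]

open scoped Classical in
/-- the orbit of `x₀`, as a finset -/
noncomputable def orb (ρ : G →* MulAut W) (x₀ : W) : Finset W :=
  (Set.finite_range (fun g : G => ρ g x₀)).toFinset

theorem mem_orb {ρ : G →* MulAut W} {x₀ u : W} : u ∈ orb ρ x₀ ↔ ∃ g : G, ρ g x₀ = u := by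
  unfold orb
  rw [Set.Finite.mem_toFinset]
  exact Set.mem_range

theorem smul_mem_orb {ρ : G →* MulAut W} {x₀ u : W} (g : G) (hu : u ∈ orb ρ x₀) : ρ g u ∈ orb ρ x₀ := by
  obtain ⟨k, rfl⟩ := mem_orb.mp hu
  exact mem_orb.mpr ⟨g * k, by rw [map_mul, MulAut.mul_apply]⟩

/-- the points of the orbit fixed by the subgroup `X` -/
noncomputable def fixedBy (ρ : G →* MulAut W) (x₀ : W) (X : Subgroup G) : Finset W :=
  @Finset.filter W (fun u => ∀ b ∈ X, ρ b u = u) (Classical.decPred _) (orb ρ x₀)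

theorem mem_fixedBy {ρ : G →* MulAut W} {x₀ u : W} {X : Subgroup G} :
    u ∈ fixedBy ρ x₀ X ↔ u ∈ orb ρ x₀ ∧ ∀ b ∈ X, ρ b u = u := by
  unfold fixedBy
  exact @Finset.mem_filter W (fun u => ∀ b ∈ X, ρ b u = u) (Classical.decPred _) (orb ρ x₀) u

theorem fixedBy_bot (ρ : G →* MulAut W) (x₀ : W) : fixedBy ρ x₀ ⊥ = orb ρ x₀ := by
  ext u
  rw [mem_fixedBy]
  constructor
  · exact fun h => h.1
  · intro h
    refine ⟨h, fun b hb => ?_⟩
    rw [Subgroup.mem_bot.mp hb, map_one, MulAut.one_apply]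

/-- the subgroup of `G` fixing `u` -/
def stab (ρ : G →* MulAut W) (u : W) : Subgroup G := fixer ρ u

theorem mem_stab {ρ : G →* MulAut W} {u : W} {g : G} : g ∈ stab ρ u ↔ ρ g u = u := Iff.rfl

variable {p : ℕ} [hp : Fact p.Prime]

/-- one step of the chain -/
theorem step_prod (ρ : G →* MulAut W) (x₀ : W) (X A : Subgroup G) (hAX : A ≤ normalizer (X : Set G))
    (hAp : IsPGroup p A)
    (hquad : ∀ a ∈ A, ∀ b ∈ A, ∀ u : W, ρ b (ρ a u * u⁻¹) = ρ a u * u⁻¹)
    (c : W) (hc : ∀ u ∈ orb ρ x₀, (c * u) ^ p = 1)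
    (hexc : ∀ u ∈ orb ρ x₀, (fixer (ρ.comp A.subtype) u).index ≠ 2) :
    ∏ u ∈ fixedBy ρ x₀ X, c * u = ∏ u ∈ fixedBy ρ x₀ (X ⊔ A), c * u := by
  classical
  have h1 := orbit_prod (W := W) (A := ↥A) (p := p) hAp (ρ.comp A.subtype)
    (fun a b u => hquad a a.2 b b.2 u) c (fixedBy ρ x₀ X)
    (by
      intro a u hu
      rw [mem_fixedBy] at hu ⊢
      refine ⟨smul_mem_orb _ hu.1, fun b hb => ?_⟩
      show ρ b (ρ (a : G) u) = ρ (a : G) u
      have h2 : (a : G)⁻¹ * b * (a : G) ∈ X := by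
        have := (mem_normalizer_iff.mp (hAX (A.inv_mem a.2)) b).mp hb
        simpa using this
      have h3 := hu.2 _ h2
      rw [map_mul, map_mul, MulAut.mul_apply, MulAut.mul_apply, map_inv, MulAut.inv_apply,
        MulEquiv.symm_apply_eq] at h3
      exact h3)
    (fun u hu => hc u (mem_fixedBy.mp hu).1)
    (fun u hu => hexc u (mem_fixedBy.mp hu).1)
  rw [h1]
  apply Finset.prod_congr _ (fun _ _ => rfl)
  ext u
  rw [Finset.mem_filter, mem_fixedBy, mem_fixedBy]
  constructor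
  · rintro ⟨⟨ho, hX⟩, hA⟩
    refine ⟨ho, fun b hb => ?_⟩
    have hle : X ⊔ A ≤ stab ρ u := sup_le (fun b hb => hX b hb) (fun a ha => hA ⟨a, ha⟩)
    exact hle hb
  · rintro ⟨ho, hXA⟩
    exact ⟨⟨ho, fun b hb => hXA b (le_sup_left (b := A) hb)⟩, fun a => hXA a (le_sup_right (a := X) a.2)⟩

omit [Finite G] in
theorem card_lt_of_lt' [Finite G] {H K : Subgroup G} (h : H < K) : Nat.card ↥H < Nat.card ↥K := by
  by_contra hcon
  rw [not_lt] at hcon
  exact h.ne (Subgroup.eq_of_le_of_card_ge h.le hcon)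

/-- normalizers grow in `p`-groups -/
theorem exists_normalizing_of_lt' {R S : Subgroup G} (hS : IsPGroup p S) (h : R < S) :
    ∃ s ∈ S, s ∉ R ∧ s ∈ normalizer (R : Set G) := by
  haveI : Group.IsNilpotent S := hS.isNilpotent
  have hnc := Group.normalizerCondition_of_isNilpotent (G := S)
  have hlt : R.subgroupOf S < ⊤ := by
    rw [lt_top_iff_ne_top]
    intro h'
    rw [Subgroup.subgroupOf_eq_top] at h'
    exact (not_le_of_gt h) h'
  have h3 := hnc _ hlt
  obtain ⟨s, hs1, hs2⟩ := SetLike.exists_of_lt h3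
  refine ⟨s, s.2, fun hsR => hs2 (Subgroup.mem_subgroupOf.2 hsR), ?_⟩
  rw [mem_normalizer_iff] at hs1 ⊢
  intro n
  constructor
  · intro hn
    have := (hs1 ⟨n, h.le hn⟩).mp (mem_subgroupOf.mpr hn)
    simpa [mem_subgroupOf] using this
  · intro hn
    have hnS : n ∈ S := by
      have h4 : s.1 * n * s.1⁻¹ ∈ S := h.le hn
      have : n = s.1⁻¹ * (s.1 * n * s.1⁻¹) * s.1 := by group
      rw [this]
      exact S.mul_mem (S.mul_mem (S.inv_mem s.2) h4) s.2
    have := (hs1 ⟨n, hnS⟩).mpr (by rw [mem_subgroupOf]; simpa using hn)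
    exact mem_subgroupOf.mp this

/-- **The chain argument.** -/
theorem chain_prod (ρ : G →* MulAut W) (x₀ : W) (D : Subgroup G) (hD : IsPGroup p D)
    (Q : Set (Subgroup G))
    (hQD : D ≤ sSup Q) (hQle : ∀ A ∈ Q, A ≤ D)
    (hQconj : ∀ A ∈ Q, ∀ d ∈ D, cj d A ∈ Q)
    (hquad : ∀ A ∈ Q, ∀ a ∈ A, ∀ b ∈ A, ∀ u : W, ρ b (ρ a u * u⁻¹) = ρ a u * u⁻¹)
    (c : W) (hc : ∀ u ∈ orb ρ x₀, (c * u) ^ p = 1)
    (hexc : ∀ A ∈ Q, ∀ u ∈ orb ρ x₀, (fixer (ρ.comp A.subtype) u).index ≠ 2) :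
    ∏ u ∈ orb ρ x₀, c * u = ∏ u ∈ fixedBy ρ x₀ D, c * u := by
  suffices h : ∀ n : ℕ, ∀ X : Subgroup G, X ≤ D → X ≤ sSup {A | A ∈ Q ∧ A ≤ X} →
      Nat.card D - Nat.card X = n →
      ∏ u ∈ fixedBy ρ x₀ X, c * u = ∏ u ∈ fixedBy ρ x₀ D, c * u by
    rw [← fixedBy_bot]
    exact h _ ⊥ bot_le bot_le rfl
  intro n
  induction n using Nat.strong_induction_on with
  | _ n ih =>
  intro X hXD hXgen hn
  by_cases hXeq : X = D
  · rw [hXeq]
  have hlt : X < D := lt_of_le_of_ne hXD hXeq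
  -- find a member of `Q` normalizing `X` and not inside `X`
  obtain ⟨A', hA'Q, hA'N, hA'X⟩ : ∃ A' ∈ Q, A' ≤ normalizer (X : Set G) ∧ ¬ A' ≤ X := by
    by_contra hno
    have hno' : ∀ A ∈ Q, A ≤ normalizer (X : Set G) → A ≤ X := by
      intro A hA hAN
      by_contra hAX
      exact hno ⟨A, hA, hAN, hAX⟩
    set N := D ⊓ normalizer (X : Set G) with hN
    have hXN : X ≤ N := le_inf hXD le_normalizer
    by_cases hND : N = D
    · have hDN : D ≤ normalizer (X : Set G) := by rw [← hND]; exact inf_le_right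
      have : D ≤ X := hQD.trans (sSup_le fun A hA => hno' A hA ((hQle A hA).trans hDN))
      exact hXeq (le_antisymm hXD this)
    · have hNlt : N < D := lt_of_le_of_ne inf_le_left hND
      obtain ⟨d, hdD, hdN, hdnorm⟩ := exists_normalizing_of_lt' hD hNlt
      have hdX : d ∉ normalizer (X : Set G) := fun h => hdN ⟨hdD, h⟩
      have hcjN : cj d N = N := cj_eq_self_of_mem_normalizer hdnorm
      obtain ⟨A, hAQ, hAX, hAd⟩ : ∃ A ∈ Q, A ≤ X ∧ ¬ cj d A ≤ X := by
        by_contra hno2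
        have hno2' : ∀ A ∈ Q, A ≤ X → cj d A ≤ X := by
          intro A hA hAX
          by_contra h
          exact hno2 ⟨A, hA, hAX, h⟩
        have h1 : X ≤ cj d⁻¹ X :=
          hXgen.trans (sSup_le fun A hA => (cj_le_iff d A X).mp (hno2' A hA.1 hA.2))
        have h2 : cj d X ≤ X := (cj_le_iff d X X).mpr h1
        have h3 : cj d X = X := Subgroup.eq_of_le_of_card_ge h2 (card_cj d X).ge
        apply hdX
        rw [mem_normalizer_iff]
        intro h
        constructor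
        · intro hh
          rw [← h3]
          exact Cfsg.Agent.Helper51.mem_cj.mpr ⟨h, hh, rfl⟩
        · intro hh
          rw [← h3, Cfsg.Agent.Helper51.mem_cj'] at hh
          simpa [mul_assoc] using hh
      have h4 : cj d A ≤ normalizer (X : Set G) := by
        calc cj d A ≤ cj d N := cj_mono d (hAX.trans hXN)
          _ = N := hcjN
          _ ≤ _ := inf_le_right
      exact hAd (hno' _ (hQconj A hAQ d hdD) h4)
  have hstep := step_prod ρ x₀ X A' hA'N (hD.to_le (hQle A' hA'Q)) (hquad A' hA'Q) c hc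
    (hexc A' hA'Q)
  rw [hstep]
  have hXA : X ⊔ A' ≤ D := sup_le hXD (hQle A' hA'Q)
  have hlt2 : X < X ⊔ A' := by
    apply lt_of_le_of_ne le_sup_left
    intro h
    apply hA'X
    rw [h]; exact le_sup_right
  have hc1 : Nat.card X < Nat.card ↥(X ⊔ A') := card_lt_of_lt' hlt2
  have hc2 : Nat.card ↥(X ⊔ A') ≤ Nat.card D := Subgroup.card_le_of_le hXA
  refine ih (Nat.card D - Nat.card ↥(X ⊔ A')) (by omega) (X ⊔ A') hXA ?_ rfl
  apply sup_le
  · exact hXgen.trans (sSup_le_sSup fun A hA => ⟨hA.1, hA.2.trans le_sup_left⟩)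
  · exact le_sSup ⟨hA'Q, le_sup_right⟩

/-- the product over an orbit is invariant -/
theorem prod_orb_invariant (ρ : G →* MulAut W) (x₀ : W) (g : G) :
    ρ g (∏ u ∈ orb ρ x₀, u) = ∏ u ∈ orb ρ x₀, u := by
  rw [map_prod]
  apply Finset.prod_bij (fun u _ => ρ g u)
  · intro u hu; exact smul_mem_orb g hu
  · intro u _ v _ h; exact (ρ g).injective h
  · intro v hv
    refine ⟨ρ g⁻¹ v, smul_mem_orb g⁻¹ hv, ?_⟩
    rw [map_inv, MulAut.inv_apply, MulEquiv.apply_symm_apply]
  · intro u _; rfl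

theorem self_mem_orb (ρ : G →* MulAut W) (x₀ : W) : x₀ ∈ orb ρ x₀ :=
  mem_orb.mpr ⟨1, by rw [map_one, MulAut.one_apply]⟩

/-- orbit-stabilizer -/
theorem card_orb (ρ : G →* MulAut W) (x₀ : W) : (orb ρ x₀).card = (stab ρ x₀).index := by
  letI : MulAction G W := MulAction.compHom W ρ
  have h1 : MulAction.stabilizer G x₀ = stab ρ x₀ := by
    ext g
    rfl
  rw [← h1, MulAction.index_stabilizer]
  have h2 : ((orb ρ x₀ : Finset W) : Set W) = MulAction.orbit G x₀ := by
    unfold orb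
    rw [Set.Finite.coe_toFinset]
    rfl
  rw [← h2, Set.ncard_coe_finset]

/-- if the product of `x₀⁻¹ u` over the orbit of `x₀` is trivial and the orbit length is prime to the order of `x₀`,
then `x₀` is fixed -/
theorem fixed_of_prod_eq_one (ρ : G →* MulAut W) (x₀ : W)
    (hone : ∏ u ∈ orb ρ x₀, x₀⁻¹ * u = 1)
    (hcop : Nat.Coprime (orb ρ x₀).card (orderOf x₀)) (g : G) : ρ g x₀ = x₀ := by
  rw [Finset.prod_mul_distrib, Finset.prod_const] at hone
  have h1 : ∏ u ∈ orb ρ x₀, u = x₀ ^ (orb ρ x₀).card := by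
    rw [inv_pow] at hone
    exact (inv_mul_eq_one.mp hone).symm
  have h2 : ρ g (x₀ ^ (orb ρ x₀).card) = x₀ ^ (orb ρ x₀).card := by
    rw [← h1]
    exact prod_orb_invariant ρ x₀ g
  obtain ⟨m, hm⟩ := exists_pow_eq_self_of_coprime hcop
  rw [← hm, map_pow, h2]

end Cfsg.Agent.Helper51.WC
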