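import Cfsg.Agent.Helper51.WCFactor
import Cfsg.Agent.Helper55.SolvCore
import Cfsg.Agent.Helper54.PConstrained

/-!
# Weakly closed elements form a direct factor of `Z(S)`: the solvable case (helper51)

In `G/O_{p'}(G)` (`G` solvable) the weakly closed elements of `S` are the elements of `S` that are central
modulo `O_{p'}(G)`; the norm map with `Y = Z(O_p(G/O_{p'}(G)))` gives the complement.
-/

set_option autoImplicit false
set_option linter.unusedSectionVars false

namespace Cfsg.Agent.Helper51.WCF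

open Subgroup
open scoped Pointwise

universe u

variable {G : Type u} [Group G] [Finite G] {p : ℕ} [hp : Fact p.Prime]

/-- a `p`-element of a subgroup `K ≥ S` is `K`-conjugate into the Sylow subgroup `S` -/
theorem exists_conj_mem_sylow (S : Sylow p G) (K : Subgroup G) (hSK : (S : Subgroup G) ≤ K) {y : G}
    (hy : y ∈ K) (hyp : IsPGroup p (zpowers y)) : ∃ h ∈ K, h * y * h⁻¹ ∈ (S : Subgroup G) := by
  have hT : IsPGroup p ((zpowers y).subgroupOf K) := hyp.comap_subtype
  obtain ⟨Q, hQ⟩ := hT.exists_le_sylow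
  obtain ⟨h, hh⟩ := MulAction.exists_smul_eq K Q (S.subtype hSK)
  refine ⟨(h : G), h.2, ?_⟩
  have h1 : (⟨y, hy⟩ : K) ∈ (Q : Subgroup K) := hQ (mem_subgroupOf.mpr (mem_zpowers y))
  have h2 : MulAut.conj h • (⟨y, hy⟩ : K) ∈ MulAut.conj h • (Q : Subgroup K) :=
    Subgroup.smul_mem_pointwise_smul _ _ _ h1
  rw [← Sylow.coe_subgroup_smul, hh, Sylow.coe_subtype, mem_subgroupOf] at h2
  simpa [MulAut.smul_def, MulAut.conj_apply] using h2

theorem isPGroup_zpowers_conj (S : Sylow p G) {x : G} (hx : x ∈ (S : Subgroup G)) (g : G) :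
    IsPGroup p (zpowers (g * x * g⁻¹)) := by
  obtain ⟨k, hk⟩ := (IsPGroup.iff_orderOf.mp S.isPGroup') ⟨x, hx⟩
  rw [Subgroup.orderOf_mk] at hk
  have h1 : orderOf (g * x * g⁻¹) = orderOf x := by
    have := MulEquiv.orderOf_eq (MulAut.conj g) x
    simpa [MulAut.conj_apply] using this
  apply IsPGroup.of_card (n := k)
  rw [Nat.card_zpowers, h1, hk]

/-- **Case `G` solvable.** -/
theorem case_solvable [hsol : Group.IsSolvable G] (S : Sylow p G) :
    ∃ W K : Subgroup G, (∀ x : G, x ∈ W ↔ WeaklyClosedElt (S : Subgroup G) x) ∧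
      K ≤ (S : Subgroup G) ⊓ centralizer ((S : Subgroup G) : Set G) ∧ W ⊓ K = ⊥ ∧
      W ⊔ K = (S : Subgroup G) ⊓ centralizer ((S : Subgroup G) : Set G) := by
  set O := Cfsg.pPrimeCore p G with hO
  have hOn : O.Normal := by
    have := Cfsg.Agent.Lib.pPrimeCore_characteristic (G := G) p
    infer_instance
  set π := QuotientGroup.mk' O with hπ
  have hπs : Function.Surjective π := QuotientGroup.mk'_surjective O
  have hker : π.ker = O := QuotientGroup.ker_mk' O
  have hOc : (Nat.card O).Coprime p := Cfsg.Agent.Lib.card_pPrimeCore_coprime p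
  -- `S ∩ O = 1`
  have hSO : ∀ x ∈ (S : Subgroup G), π x = 1 → x = 1 := by
    intro x hxS hx1
    have hxO : x ∈ O := by rw [← hker]; exact hx1
    obtain ⟨k, hk⟩ := (IsPGroup.iff_orderOf.mp S.isPGroup') ⟨x, hxS⟩
    rw [Subgroup.orderOf_mk] at hk
    have h1 : orderOf x ∣ Nat.card O := by
      have := orderOf_dvd_natCard (⟨x, hxO⟩ : O)
      rwa [Subgroup.orderOf_mk] at this
    have h2 : orderOf x ∣ Nat.gcd (Nat.card O) (p ^ k) := Nat.dvd_gcd h1 (hk ▸ dvd_rfl)
    have h3 : Nat.gcd (Nat.card O) (p ^ k) = 1 := Nat.Coprime.pow_right k hOc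
    rw [h3, Nat.dvd_one, orderOf_eq_one_iff] at h2
    exact h2
  have hSinj : ∀ x ∈ (S : Subgroup G), ∀ y ∈ (S : Subgroup G), π x = π y → x = y := by
    intro x hx y hy hxy
    have h1 : π (x * y⁻¹) = 1 := by rw [map_mul, map_inv, hxy, mul_inv_cancel]
    have h2 := hSO _ (Subgroup.mul_mem _ hx (Subgroup.inv_mem _ hy)) h1
    exact mul_inv_eq_one.mp h2
  set Sb : Sylow p (G ⧸ O) := S.mapSurjective hπs with hSb
  have hSbc : (Sb : Subgroup (G ⧸ O)) = (S : Subgroup G).map π := Sylow.coe_mapSurjective _ _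
  set Qb := Cfsg.pCore p (G ⧸ O) with hQb
  have hQbn : Qb.Normal := by
    have := Cfsg.Agent.Lib.pCore_characteristic (G := G ⧸ O) p
    infer_instance
  have hcQ : centralizer (Qb : Set (G ⧸ O)) ≤ Qb :=
    Cfsg.Agent.Helper55.centralizer_pCore_le p Cfsg.Agent.Helper54.pPrimeCore_quotient_eq_bot
  have hQS : Qb ≤ (Sb : Subgroup (G ⧸ O)) := Cfsg.Agent.Lib.pCore_le_sylow Sb
  set Y : Subgroup (G ⧸ O) := Qb ⊓ centralizer (Qb : Set (G ⧸ O)) with hY
  have hCn : (centralizer (Qb : Set (G ⧸ O))).Normal := Subgroup.normal_centralizer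
  have hYn : Y.Normal := inferInstance
  have hYc : IsMulCommutative Y := by
    refine ⟨⟨fun a b => ?_⟩⟩
    apply Subtype.ext
    exact ((mem_centralizer_iff.mp (mem_inf.mp b.2).2) _ (mem_inf.mp a.2).1)
  have hZY : (Sb : Subgroup (G ⧸ O)) ⊓ centralizer ((Sb : Subgroup (G ⧸ O)) : Set (G ⧸ O)) ≤ Y := by
    intro z hz
    have h1 : z ∈ centralizer (Qb : Set (G ⧸ O)) := centralizer_le hQS (mem_inf.mp hz).2
    exact mem_inf.mpr ⟨hcQ h1, h1⟩
  obtain ⟨Kb, hK1, hK2, hK3, hK4⟩ := NormMap.exists_complement (Sb : Subgroup (G ⧸ O)) Y Sb.isPGroup'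
    Sb.not_dvd_index (inf_le_left.trans hQS) hZY
  -- an element of `S` whose image centralizes the image of `S` is central in `S`
  have hcen : ∀ x ∈ (S : Subgroup G),
      π x ∈ centralizer ((Sb : Subgroup (G ⧸ O)) : Set (G ⧸ O)) →
      x ∈ centralizer ((S : Subgroup G) : Set G) := by
    intro x hx hxc
    rw [mem_centralizer_iff]
    intro s hs
    have h1 : π s ∈ (Sb : Subgroup (G ⧸ O)) := by rw [hSbc]; exact ⟨s, hs, rfl⟩
    have h2 := (mem_centralizer_iff.mp hxc) _ h1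
    apply hSinj _ (Subgroup.mul_mem _ hs hx) _ (Subgroup.mul_mem _ hx hs)
    rw [map_mul, map_mul, h2]
  have hcen' : ∀ x ∈ (S : Subgroup G) ⊓ centralizer ((S : Subgroup G) : Set G),
      π x ∈ (Sb : Subgroup (G ⧸ O)) ⊓ centralizer ((Sb : Subgroup (G ⧸ O)) : Set (G ⧸ O)) := by
    intro x hx
    refine mem_inf.mpr ⟨by rw [hSbc]; exact ⟨x, (mem_inf.mp hx).1, rfl⟩, ?_⟩
    rw [mem_centralizer_iff]
    intro t ht
    rw [hSbc] at ht
    obtain ⟨s, hs, rfl⟩ := ht
    rw [← map_mul, ← map_mul, (mem_centralizer_iff.mp (mem_inf.mp hx).2) s hs]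
  refine ⟨(S : Subgroup G) ⊓ ((Sb : Subgroup (G ⧸ O)) ⊓ center (G ⧸ O)).comap π,
    (S : Subgroup G) ⊓ Kb.comap π, ?_, ?_, ?_, ?_⟩
  · intro x
    constructor
    · rintro ⟨hxS, hxc⟩
      have hxc' : π x ∈ center (G ⧸ O) := (mem_inf.mp (mem_comap.mp hxc)).2
      refine ⟨hxS, fun g hg => ?_⟩
      apply hSinj _ hg _ hxS
      rw [map_mul, map_mul, map_inv, (mem_center_iff.mp hxc') (π g)]
      group
    · intro h
      have hxZ : x ∈ (S : Subgroup G) ⊓ centralizer ((S : Subgroup G) : Set G) :=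
        mem_inf.mpr ⟨h.1, h.mem_centralizer⟩
      have hπx := hcen' x hxZ
      refine mem_inf.mpr ⟨h.1, mem_comap.mpr (mem_inf.mpr ⟨(mem_inf.mp hπx).1, ?_⟩)⟩
      rw [mem_center_iff]
      intro gb
      obtain ⟨g, rfl⟩ := hπs gb
      set y := g * x * g⁻¹ with hy
      have hπy : π y ∈ Y := by
        have h1 : π y = π g * π x * (π g)⁻¹ := by rw [hy, map_mul, map_mul, map_inv]
        rw [h1]
        exact hYn.conj_mem _ (hZY hπx) _
      have hπyS : π y ∈ (S : Subgroup G).map π := by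
        rw [← hSbc]; exact hQS (mem_inf.mp hπy).1
      obtain ⟨s, hs, hsy⟩ := hπyS
      have hyK : y ∈ (S : Subgroup G) ⊔ O := by
        have h1 : s⁻¹ * y ∈ O := by
          rw [← hker, MonoidHom.mem_ker, map_mul, map_inv, hsy, inv_mul_cancel]
        have h2 : y = s * (s⁻¹ * y) := by group
        rw [h2]
        exact Subgroup.mul_mem_sup hs h1
      obtain ⟨h', hh'K, hh'⟩ := exists_conj_mem_sylow S ((S : Subgroup G) ⊔ O) le_sup_left hyK
        (isPGroup_zpowers_conj S h.1 g)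
      have h3 : (h' * g) * x * (h' * g)⁻¹ = x := by
        apply h.2
        have : (h' * g) * x * (h' * g)⁻¹ = h' * y * h'⁻¹ := by rw [hy]; group
        rw [this]; exact hh'
      have hπh : π h' ∈ (Sb : Subgroup (G ⧸ O)) := by
        have h4 : π h' ∈ ((S : Subgroup G) ⊔ O).map π := ⟨h', hh'K, rfl⟩
        rw [Subgroup.map_sup] at h4
        have h5 : O.map π = ⊥ := (Subgroup.map_eq_bot_iff O).mpr hker.ge
        rw [h5, sup_bot_eq, ← hSbc] at h4
        exact h4
      have h6 := (mem_centralizer_iff.mp (mem_inf.mp hπx).2) _ hπh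
      have h7 : π h' * π g * π x * (π g)⁻¹ * (π h')⁻¹ = π x := by
        have := congrArg π h3
        simpa [map_mul, map_inv, mul_assoc] using this
      -- `π g * π x * (π g)⁻¹ = (π h')⁻¹ * π x * π h' = π x`
      have h8 : π g * π x * (π g)⁻¹ = π x := by
        have h7' : π h' * (π g * π x * (π g)⁻¹) * (π h')⁻¹ = π x := by
          calc π h' * (π g * π x * (π g)⁻¹) * (π h')⁻¹
              = π h' * π g * π x * (π g)⁻¹ * (π h')⁻¹ := by group
            _ = π x := h7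
        have h9 : π g * π x * (π g)⁻¹ = (π h')⁻¹ * π x * π h' := by
          calc π g * π x * (π g)⁻¹
              = (π h')⁻¹ * (π h' * (π g * π x * (π g)⁻¹) * (π h')⁻¹) * π h' := by group
            _ = (π h')⁻¹ * π x * π h' := by rw [h7']
        rw [h9, mul_assoc, ← h6, ← mul_assoc, inv_mul_cancel, one_mul]
      calc π g * π x = π g * π x * (π g)⁻¹ * π g := by group
        _ = π x * π g := by rw [h8]
  · rintro x ⟨hxS, hxK⟩
    have h1 := hK1 (mem_comap.mp hxK)
    exact mem_inf.mpr ⟨hxS, hcen x hxS (mem_inf.mp h1).2⟩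
  · rw [eq_bot_iff]
    intro x hx
    have hxS : x ∈ (S : Subgroup G) := (mem_inf.mp (mem_inf.mp hx).1).1
    have hxW := (mem_inf.mp (mem_inf.mp hx).1).2
    have hxK := (mem_inf.mp (mem_inf.mp hx).2).2
    rw [mem_bot]
    apply hSO x hxS
    have h1 : π x ∈ ((Sb : Subgroup (G ⧸ O)) ⊓ center (G ⧸ O)) ⊓ Kb :=
      mem_inf.mpr ⟨mem_comap.mp hxW, mem_comap.mp hxK⟩
    rw [hK2, mem_bot] at h1
    exact h1
  · apply le_antisymm
    · apply sup_le
      · rintro x ⟨hxS, hxW⟩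
        have h1 : π x ∈ center (G ⧸ O) := (mem_inf.mp (mem_comap.mp hxW)).2
        exact mem_inf.mpr ⟨hxS, hcen x hxS (Subgroup.center_le_centralizer _ h1)⟩
      · rintro x ⟨hxS, hxK⟩
        have h1 := hK1 (mem_comap.mp hxK)
        exact mem_inf.mpr ⟨hxS, hcen x hxS (mem_inf.mp h1).2⟩
    · intro z hz
      have h1 := hcen' z hz
      obtain ⟨wb, hwb, kb, hkb, hwk⟩ := hK4 _ h1
      have hwbS : wb ∈ (S : Subgroup G).map π := by rw [← hSbc]; exact (mem_inf.mp hwb).1
      have hkbS : kb ∈ (S : Subgroup G).map π := by rw [← hSbc]; exact (mem_inf.mp (hK1 hkb)).1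
      obtain ⟨w, hw, rfl⟩ := hwbS
      obtain ⟨k, hk, rfl⟩ := hkbS
      have h2 : z = w * k := by
        apply hSinj _ (mem_inf.mp hz).1 _ (Subgroup.mul_mem _ hw hk)
        rw [map_mul, ← hwk]
      rw [h2]
      exact Subgroup.mul_mem_sup (mem_inf.mpr ⟨hw, mem_comap.mpr hwb⟩)
        (mem_inf.mpr ⟨hk, mem_comap.mpr hkb⟩)

end Cfsg.Agent.Helper51.WCF
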