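import Cfsg.Agent.Helper51.WCRed
import Cfsg.Agent.Helper51.WCProd

/-!
# The minimal configuration of the weak closure theorem (helper51), part 1

`x ∈ Z(S)` lies in a normal `p`-subgroup; `V = ⟨x^G⟩`; the subgroup `D` generated by the members of `𝒜(S)` acting
quadratically on `V`.
-/

set_option autoImplicit false
set_option linter.unusedSectionVars false
set_option linter.style.haveILetI false

namespace Cfsg.Agent.Helper51.WC

open Subgroup
open Cfsg.Agent.S4269 (cj mem_cj cj_mul cj_of_mem cj_of_mem_normalizer)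
open Cfsg.Agent.Helper71
open scoped commutatorElement

universe u

variable {G : Type u} [Group G]

/-- the members of `𝒜(T)` acting quadratically on `V` -/
def Aq (V T : Subgroup G) : Set (Subgroup G) := {A | A ∈ AA T ∧ ⁅⁅V, A⁆, A⁆ = ⊥}

/-- the subgroup generated by `Aq V T` -/
def Dq (V T : Subgroup G) : Subgroup G := sSup (Aq V T)

theorem Dq_le (V T : Subgroup G) : Dq V T ≤ T := sSup_le fun _ hA => hA.1.1

theorem le_Dq {V T A : Subgroup G} (hA : A ∈ Aq V T) : A ≤ Dq V T := le_sSup hA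

theorem cj_commutator (g : G) (H K : Subgroup G) : cj g ⁅H, K⁆ = ⁅cj g H, cj g K⁆ :=
  Subgroup.map_commutator H K _

theorem isMulCommutative_cj (g : G) {A : Subgroup G} (hA : IsMulCommutative A) : IsMulCommutative (cj g A) :=
  (Cfsg.Agent.Lib.ZJ.intrinsic_comm.map_iff (MulAut.conj g).toMonoidHom (MulAut.conj g).injective A).mpr hA

theorem cj_mem_Aq [Finite G] {V T : Subgroup G} [V.Normal] {A : Subgroup G} (hA : A ∈ Aq V T) (g : G)
    (hg : cj g A ≤ T) : cj g A ∈ Aq V T := by
  refine ⟨mem_AA_of_card hA.1 le_rfl hg (isMulCommutative_cj g hA.1.2.1) (card_cj g A).ge, ?_⟩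
  have h1 : cj g V = V := cj_normal g V
  rw [← h1, ← cj_commutator, ← cj_commutator, hA.2]
  exact Subgroup.map_bot _

/-- `D` is weakly closed in `T` -/
theorem cj_Dq_eq [Finite G] {V T : Subgroup G} [V.Normal] (g : G) (hg : cj g (Dq V T) ≤ T) :
    cj g (Dq V T) = Dq V T := by
  have h1 : cj g (Dq V T) ≤ Dq V T := by
    unfold Dq
    show (sSup (Aq V T)).map _ ≤ _
    rw [Cfsg.Agent.Lib.ZJ.map_sSup']
    apply sSup_le
    rintro _ ⟨A, hA, rfl⟩
    apply le_sSup
    exact cj_mem_Aq hA g ((Subgroup.map_mono (le_Dq hA)).trans hg)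
  exact Subgroup.eq_of_le_of_card_ge h1 (card_cj g _).ge

theorem le_normalizer_Dq [Finite G] {V T : Subgroup G} [V.Normal] : T ≤ normalizer (Dq V T : Set G) := by
  intro t ht
  apply mem_normalizer_of_cj_eq
  apply cj_Dq_eq
  intro y hy
  obtain ⟨d, hd, rfl⟩ := mem_cj.mp hy
  exact T.mul_mem (T.mul_mem ht (Dq_le V T hd)) (T.inv_mem ht)

section replacement

variable [Finite G] {p : ℕ} [hp : Fact p.Prime]

/-- Thompson replacement in ambient form: a member of `𝒜(P)` not centralizing the abelian normal subgroup `V` can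
be replaced by one acting quadratically and nontrivially. -/
theorem replacement_amb (P V : Subgroup G) (hP : IsPGroup p P) (hVP : V ≤ P)
    (hPV : P ≤ normalizer (V : Set G)) (hVc : IsMulCommutative V) (A : Subgroup G) (hA : A ∈ AA P)
    (hAV : ¬ A ≤ centralizer (V : Set G)) :
    ∃ A' ∈ Aq V P, ¬ A' ≤ centralizer (V : Set G) := by
  rw [AA, ← Cfsg.Agent.Lib.ZJ.image_map_subtype_maxGoodT Cfsg.Agent.Lib.ZJ.intrinsic_comm] at hA
  obtain ⟨A', hA', rfl⟩ := hA
  rw [Cfsg.Agent.Lib.ZJ.maxGoodT_comm] at hA'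
  set V' := V.subgroupOf P with hV'
  haveI hV'n : V'.Normal := (Subgroup.normal_subgroupOf_iff_le_normalizer hVP).mpr hPV
  have hV'e : IsMulCommutative V' := by
    refine ⟨⟨fun a b => ?_⟩⟩
    apply Subtype.ext
    apply Subtype.ext
    have := (le_centralizer_iff_isMulCommutative.mpr hVc) (Subgroup.mem_subgroupOf.mp a.2)
    exact ((mem_centralizer_iff.mp this) _ (Subgroup.mem_subgroupOf.mp b.2)).symm
  haveI : Finite ↥P := inferInstance
  obtain ⟨h1, h2, h3⟩ := Cfsg.Agent.Helper1.replacement_comm (G := ↥P) hP V' hV'e A' hA'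
  set A₀ := ⁅V', A'⁆ ⊔ (A' ⊓ centralizer ((⁅V', A'⁆ : Subgroup ↥P) : Set ↥P)) with hA₀
  have hVmap : V'.map P.subtype = V := by
    rw [hV', Subgroup.subgroupOf_map_subtype, inf_eq_left.mpr hVP]
  have hcomm : ∀ B' : Subgroup ↥P, ⁅V', B'⁆ = ⊥ ↔ B'.map P.subtype ≤ centralizer (V : Set G) := by
    intro B'
    rw [← commutator_eq_bot_iff_le_centralizer, Subgroup.commutator_comm, ← hVmap,
      ← Subgroup.map_commutator]
    constructor
    · intro h; rw [h]; exact Subgroup.map_bot _
    · intro h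
      exact (Subgroup.map_eq_bot_iff_of_injective _ P.subtype_injective).mp h
  refine ⟨A₀.map P.subtype, ⟨?_, ?_⟩, ?_⟩
  · rw [AA, ← Cfsg.Agent.Lib.ZJ.image_map_subtype_maxGoodT Cfsg.Agent.Lib.ZJ.intrinsic_comm,
      Cfsg.Agent.Lib.ZJ.maxGoodT_comm]
    exact ⟨A₀, h1, rfl⟩
  · rw [← hVmap, ← Subgroup.map_commutator, ← Subgroup.map_commutator, h2]
    exact Subgroup.map_bot _
  · intro hle
    apply h3
    · intro hbot
      exact hAV ((hcomm A').mp hbot)
    · exact (hcomm A₀).mpr hle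

end replacement

end Cfsg.Agent.Helper51.WC
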