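import Cfsg.Agent.Helper51.WCMin
import Cfsg.Agent.Helper31.LocalCore

/-!
# The minimal configuration of the weak closure theorem (helper51), part 2
-/

set_option autoImplicit false
set_option linter.unusedSectionVars false
set_option linter.style.haveILetI false

namespace Cfsg.Agent.Helper51.WC

open Subgroup
open Cfsg.Agent.S4269 (cj mem_cj cj_mul cj_of_mem cj_of_mem_normalizer)
open Cfsg.Agent.Helper71
open scoped commutatorElement

universe u

variable {G : Type u} [Group G] [Finite G] {p : ℕ} [hp : Fact p.Prime]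

/-- conjugation into a Sylow subgroup inside an overgroup `N` -/
theorem exists_cj_le_sylow_of_le (S : Sylow p G) (N : Subgroup G) (hSN : (S : Subgroup G) ≤ N)
    (Q : Subgroup G) (hQ : IsPGroup p Q) (hQN : Q ≤ N) : ∃ n ∈ N, cj n Q ≤ (S : Subgroup G) := by
  have hQ' : IsPGroup p (Q.subgroupOf N) := hQ.comap_subtype
  obtain ⟨n, hn⟩ := exists_cj_le_sylow (S.subtype hSN) (Q.subgroupOf N) hQ'
  refine ⟨n, n.2, ?_⟩
  intro y hy
  obtain ⟨q, hq, rfl⟩ := mem_cj.mp hy
  have h1 : n * ⟨q, hQN hq⟩ * n⁻¹ ∈ cj n (Q.subgroupOf N) :=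
    mem_cj.mpr ⟨⟨q, hQN hq⟩, mem_subgroupOf.mpr hq, rfl⟩
  have h2 := hn h1
  rw [Sylow.coe_subtype, mem_subgroupOf] at h2
  exact h2

/-- the normal closure of `x` -/
abbrev VV (x : G) : Subgroup G := normalClosure ({x} : Set G)

/-- the minimal configuration -/
structure MinCfg (p : ℕ) [Fact p.Prime] (S : Sylow p G) (x : G) : Prop where
  hxZ : (S : Subgroup G) ≤ centralizer ({x} : Set G)
  hNJ : normalizer (JJ (S : Subgroup G) : Set G) ≤ centralizer ({x} : Set G)
  hprop : ∀ K : Subgroup G, (S : Subgroup G) ≤ K → K ≠ ⊤ → K ≤ centralizer ({x} : Set G)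
  hR : ∃ R : Subgroup G, R.Normal ∧ R ≤ (S : Subgroup G) ∧ x ∈ R
  hxp : ∀ g : G, g * x ^ p * g⁻¹ = x ^ p
  hnc : ¬ (⊤ : Subgroup G) ≤ centralizer ({x} : Set G)

namespace MinCfg

variable {S : Sylow p G} {x : G}

theorem x_mem_V (x : G) : x ∈ VV x := subset_normalClosure (Set.mem_singleton x)

/-- normal subgroups of `G` inside `S` centralize `V` -/
theorem le_centralizer_V (h : MinCfg p S x) (Q : Subgroup G) [Q.Normal] (hQS : Q ≤ (S : Subgroup G)) :
    Q ≤ centralizer (VV x : Set G) := by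
  have h1 : VV x ≤ centralizer (Q : Set G) := by
    apply normalClosure_le_normal
    rw [Set.singleton_subset_iff, SetLike.mem_coe, mem_centralizer_iff]
    intro q hq
    exact mem_centralizer_singleton_iff.mp (h.hxZ (hQS hq))
  exact le_centralizer_iff.mp h1

theorem V_le_S (h : MinCfg p S x) : VV x ≤ (S : Subgroup G) := by
  obtain ⟨R, hRn, hRS, hxR⟩ := h.hR
  exact (normalClosure_le_normal (Set.singleton_subset_iff.mpr hxR)).trans hRS

theorem V_comm (h : MinCfg p S x) : IsMulCommutative (VV x) := by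
  obtain ⟨R, hRn, hRS, hxR⟩ := h.hR
  have h1 : VV x ≤ R := normalClosure_le_normal (Set.singleton_subset_iff.mpr hxR)
  have h2 : R ≤ centralizer (VV x : Set G) := h.le_centralizer_V R hRS
  exact le_centralizer_iff_isMulCommutative.mp (h1.trans h2)

theorem V_le_centralizer (h : MinCfg p S x) : centralizer (VV x : Set G) ≤ centralizer ({x} : Set G) :=
  centralizer_le (Set.singleton_subset_iff.mpr (x_mem_V x))

/-- `N_G(D) ≤ C_G(x)` -/
theorem normalizer_Dq_le (h : MinCfg p S x) :
    normalizer (Dq (VV x) (S : Subgroup G) : Set G) ≤ centralizer ({x} : Set G) := by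
  by_cases htop : normalizer (Dq (VV x) (S : Subgroup G) : Set G) = ⊤
  · exfalso
    haveI hDn : (Dq (VV x) (S : Subgroup G)).Normal := normalizer_eq_top_iff.mp htop
    have hDV : Dq (VV x) (S : Subgroup G) ≤ centralizer (VV x : Set G) :=
      h.le_centralizer_V _ (Dq_le _ _)
    have hVn : (S : Subgroup G) ≤ normalizer (VV x : Set G) := by
      rw [normalizer_eq_top]; exact le_top
    have hall : ∀ A ∈ AA (S : Subgroup G), A ≤ centralizer (VV x : Set G) := by
      intro A hA
      by_contra hAV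
      obtain ⟨A', hA', hA'V⟩ := replacement_amb (S : Subgroup G) (VV x) S.isPGroup' h.V_le_S hVn h.V_comm A hA hAV
      exact hA'V ((le_Dq hA').trans hDV)
    have hJ : JJ (S : Subgroup G) ≤ centralizer (VV x : Set G) := sSup_le hall
    set C := centralizer (VV x : Set G) with hC
    set T₀ := (S : Subgroup G) ⊓ C with hT₀
    have hsyl : ¬ p ∣ T₀.relIndex C :=
      Cfsg.Agent.Helper31.not_dvd_relIndex_inf_normal (S : Subgroup G) S.isPGroup' S.not_dvd_index C
    have hfrat := Cfsg.Agent.Helper31.frattini_rel C T₀ inf_le_right (S.isPGroup'.to_le inf_le_left) hsyl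
    have hJT : JJ T₀ = JJ (S : Subgroup G) :=
      Cfsg.Agent.Helper1.Jg_eq_of_le Cfsg.Agent.Lib.ZJ.intrinsic_comm (le_inf (JJ_le _) hJ) inf_le_left
    have h1 : normalizer (T₀ : Set G) ≤ centralizer ({x} : Set G) := by
      refine (normalizer_le_normalizer_JJ T₀).trans ?_
      rw [hJT]
      exact h.hNJ
    apply h.hnc
    rw [← hfrat]
    exact sup_le h1 h.V_le_centralizer
  · exact h.hprop _ le_normalizer_Dq htop

/-- `x` is the only conjugate of `x` centralized by `D` -/
theorem unique_fixed (h : MinCfg p S x) (g : G)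
    (hg : Dq (VV x) (S : Subgroup G) ≤ centralizer ({g * x * g⁻¹} : Set G)) : g * x * g⁻¹ = x := by
  set D := Dq (VV x) (S : Subgroup G) with hD
  set M := centralizer ({x} : Set G) with hM
  have h1 : cj g⁻¹ D ≤ M := by
    intro y hy
    obtain ⟨d, hd, rfl⟩ := mem_cj.mp hy
    have h2 := mem_centralizer_singleton_iff.mp (hg hd)
    rw [hM, mem_centralizer_singleton_iff]
    calc g⁻¹ * d * g⁻¹⁻¹ * x = g⁻¹ * (d * (g * x * g⁻¹)) * g := by group
      _ = g⁻¹ * (g * x * g⁻¹ * d) * g := by rw [h2]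
      _ = x * (g⁻¹ * d * g⁻¹⁻¹) := by group
  have hDp : IsPGroup p D := S.isPGroup'.to_le (Dq_le _ _)
  obtain ⟨m, hmM, hm⟩ := exists_cj_le_sylow_of_le S M h.hxZ (cj g⁻¹ D)
    (hDp.map _) h1
  have hm' : cj (m * g⁻¹) D ≤ (S : Subgroup G) := by
    rw [cj_mul']; exact hm
  have h3 := cj_Dq_eq (V := VV x) (T := (S : Subgroup G)) (m * g⁻¹) hm'
  have h4 : m * g⁻¹ ∈ M := h.normalizer_Dq_le (mem_normalizer_of_cj_eq h3)
  have h5 : g ∈ M := by
    have : g = (m * g⁻¹)⁻¹ * m := by group
    rw [this]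
    exact M.mul_mem (M.inv_mem h4) hmM
  have h6 := mem_centralizer_singleton_iff.mp h5
  calc g * x * g⁻¹ = (g * x) * g⁻¹ := rfl
    _ = (x * g) * g⁻¹ := by rw [h6]
    _ = x := by group

end MinCfg

end Cfsg.Agent.Helper51.WC
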