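import Cfsg.Agent.Helper51.WCMin2
import Cfsg.Agent.Helper51.WCChain

/-!
# The minimal configuration of the weak closure theorem (helper51), part 3: the exceptional pair

In a minimal configuration some member `A` of `𝒜(S)` acting quadratically on `V = ⟨x^G⟩` has an orbit of length `2`
on the conjugates of `x`.
-/

set_option autoImplicit false
set_option linter.unusedSectionVars false
set_option linter.style.haveILetI false

namespace Cfsg.Agent.Helper51.WC

open Subgroup
open Cfsg.Agent.S4269 (cj mem_cj cj_mul cj_of_mem cj_of_mem_normalizer)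
open Cfsg.Agent.Helper71
open scoped commutatorElement

universe u

variable {G : Type u} [Group G] [Finite G] {p : ℕ} [hp : Fact p.Prime]

namespace MinCfg

variable {S : Sylow p G} {x : G}

/-- quadratic action in elementwise form -/
theorem quad_elem {V A : Subgroup G} (hq : ⁅⁅V, A⁆, A⁆ = ⊥) {a b u : G} (ha : a ∈ A) (hb : b ∈ A)
    (hu : u ∈ V) : b * (a * u * a⁻¹ * u⁻¹) * b⁻¹ = a * u * a⁻¹ * u⁻¹ := by
  have h1 : ⁅a, u⁆ ∈ ⁅V, A⁆ := by
    rw [Subgroup.commutator_comm]
    exact Subgroup.commutator_mem_commutator ha hu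
  have h2 : ⁅⁅a, u⁆, b⁆ ∈ ⁅⁅V, A⁆, A⁆ := Subgroup.commutator_mem_commutator h1 hb
  rw [hq, Subgroup.mem_bot, commutatorElement_eq_one_iff_commute] at h2
  rw [commutatorElement_def] at h2
  have h3 : (a * u * a⁻¹ * u⁻¹) * b = b * (a * u * a⁻¹ * u⁻¹) := h2.eq
  rw [← h3]
  group

theorem exists_exceptional (h : MinCfg p S x) :
    ∃ A ∈ Aq (VV x) (S : Subgroup G), ∃ g : G,
      (centralizer ({g * x * g⁻¹} : Set G)).relIndex A = 2 := by
  by_contra hno
  have hno' : ∀ A ∈ Aq (VV x) (S : Subgroup G), ∀ g : G,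
      (centralizer ({g * x * g⁻¹} : Set G)).relIndex A ≠ 2 := by
    intro A hA g hh
    exact hno ⟨A, hA, g, hh⟩
  haveI hVn : (VV x).Normal := normalClosure_normal
  have hVc := h.V_comm
  letI : CommGroup ↥(VV x) :=
    { (inferInstance : Group ↥(VV x)) with
      mul_comm := fun a b => hVc.is_comm.comm a b }
  let ρ : G →* MulAut ↥(VV x) := MulAut.conjNormal
  let x₀ : ↥(VV x) := ⟨x, x_mem_V x⟩
  have hρ : ∀ (g : G) (v : ↥(VV x)), ((ρ g v : ↥(VV x)) : G) = g * v * g⁻¹ :=
    fun g v => MulAut.conjNormal_apply g v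
  have hxS : x ∈ (S : Subgroup G) := h.V_le_S (x_mem_V x)
  have hDp : IsPGroup p ↥(Dq (VV x) (S : Subgroup G)) := S.isPGroup'.to_le (Dq_le _ _)
  -- the `D`-fixed points
  have hfix : ∀ u ∈ fixedBy ρ x₀ (Dq (VV x) (S : Subgroup G)), u = x₀ := by
    intro u hu
    rw [mem_fixedBy] at hu
    obtain ⟨g, rfl⟩ := mem_orb.mp hu.1
    apply Subtype.ext
    rw [hρ]
    apply h.unique_fixed g
    intro d hd
    rw [mem_centralizer_singleton_iff]
    have h1 := congrArg Subtype.val (hu.2 d hd)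
    rw [hρ, hρ] at h1
    calc d * (g * x * g⁻¹) = (d * (g * x * g⁻¹) * d⁻¹) * d := by group
      _ = (g * x * g⁻¹) * d := by rw [h1]
  have hconj : ∀ A ∈ Aq (VV x) (S : Subgroup G), ∀ d ∈ Dq (VV x) (S : Subgroup G),
      Cfsg.Agent.Helper51.cj d A ∈ Aq (VV x) (S : Subgroup G) := by
    intro A hA d hd
    apply cj_mem_Aq hA d
    intro y hy
    obtain ⟨a, ha, rfl⟩ := mem_cj.mp hy
    exact (S : Subgroup G).mul_mem ((S : Subgroup G).mul_mem (Dq_le _ _ hd) (hA.1.1 ha))
      ((S : Subgroup G).inv_mem (Dq_le _ _ hd))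
  have hquad : ∀ A ∈ Aq (VV x) (S : Subgroup G), ∀ a ∈ A, ∀ b ∈ A, ∀ u : ↥(VV x),
      ρ b (ρ a u * u⁻¹) = ρ a u * u⁻¹ := by
    intro A hA a ha b hb u
    apply Subtype.ext
    rw [hρ, Subgroup.coe_mul, hρ, Subgroup.coe_inv]
    exact quad_elem hA.2 ha hb u.2
  have hc : ∀ u ∈ orb ρ x₀, (x₀⁻¹ * u) ^ p = 1 := by
    intro u hu
    obtain ⟨g, rfl⟩ := mem_orb.mp hu
    rw [mul_pow, ← map_pow]
    have h1 : ρ g (x₀ ^ p) = x₀ ^ p := by
      apply Subtype.ext
      rw [hρ, Subgroup.coe_pow]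
      exact h.hxp g
    rw [h1, inv_pow, inv_mul_cancel]
  have hexc : ∀ A ∈ Aq (VV x) (S : Subgroup G), ∀ u ∈ orb ρ x₀,
      (fixer (ρ.comp A.subtype) u).index ≠ 2 := by
    intro A hA u hu
    obtain ⟨g, rfl⟩ := mem_orb.mp hu
    have h1 : fixer (ρ.comp A.subtype) (ρ g x₀) =
        (centralizer ({g * x * g⁻¹} : Set G)).subgroupOf A := by
      ext a
      rw [mem_fixer, mem_subgroupOf, mem_centralizer_singleton_iff]
      constructor
      · intro h2
        have h3 := congrArg Subtype.val h2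
        rw [MonoidHom.comp_apply, hρ, hρ] at h3
        have h4 : (a : G) * (g * x * g⁻¹) * (a : G)⁻¹ = g * x * g⁻¹ := h3
        calc (a : G) * (g * x * g⁻¹) = ((a : G) * (g * x * g⁻¹) * (a : G)⁻¹) * a := by group
          _ = (g * x * g⁻¹) * a := by rw [h4]
      · intro h2
        apply Subtype.ext
        rw [MonoidHom.comp_apply, hρ, hρ]
        show (a : G) * (g * x * g⁻¹) * (a : G)⁻¹ = g * x * g⁻¹
        rw [h2]
        group
    rw [h1]
    exact hno' A hA g
  have hchain := chain_prod (p := p) ρ x₀ (Dq (VV x) (S : Subgroup G)) hDp (Aq (VV x) (S : Subgroup G))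
    le_rfl (fun A hA => le_Dq hA) hconj hquad x₀⁻¹ hc hexc
  have hone : ∏ u ∈ orb ρ x₀, x₀⁻¹ * u = 1 := by
    rw [hchain]
    apply Finset.prod_eq_one
    intro u hu
    rw [hfix u hu, inv_mul_cancel]
  have hcop : Nat.Coprime (orb ρ x₀).card (orderOf x₀) := by
    rw [card_orb]
    have hSle : (S : Subgroup G) ≤ stab ρ x₀ := by
      intro s hs
      rw [mem_stab]
      apply Subtype.ext
      rw [hρ]
      have h1 := mem_centralizer_singleton_iff.mp (h.hxZ hs)
      show s * x * s⁻¹ = x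
      rw [h1]
      group
    have hdvd : (stab ρ x₀).index ∣ (S : Subgroup G).index := Subgroup.index_dvd_of_le hSle
    have hnd : ¬ p ∣ (stab ρ x₀).index := fun hh => S.not_dvd_index (hh.trans hdvd)
    obtain ⟨k, hk⟩ := (IsPGroup.iff_orderOf.mp S.isPGroup') ⟨x, hxS⟩
    have hord : orderOf x₀ = p ^ k := by
      rw [← hk, ← Subgroup.orderOf_coe, ← Subgroup.orderOf_coe]
    rw [hord]
    exact Nat.Coprime.pow_right k ((Nat.Prime.coprime_iff_not_dvd hp.out).mpr hnd).symm
  have hall := fixed_of_prod_eq_one ρ x₀ hone hcop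
  apply h.hnc
  intro g _
  rw [mem_centralizer_singleton_iff]
  have h1 := congrArg Subtype.val (hall g)
  rw [hρ] at h1
  calc g * x = (g * x * g⁻¹) * g := by group
    _ = x * g := by
      rw [show ((x₀ : ↥(VV x)) : G) = x from rfl] at h1
      rw [h1]

end MinCfg

end Cfsg.Agent.Helper51.WC
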