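import Cfsg.Agent.Helper51.WCUtil
import Cfsg.Agent.Helper51.WCAlp
import Cfsg.Prelude.Def_LocalEven

/-!
# The reduction lemma for the weak closure theorem (helper51)

Thompson-ordering / Alperin reduction: if some `p`-subgroup `R ≤ S` of a conjugation-invariant, upward closed,
`J`-closed family contains `x` and `N_G(R)` does not centralize `x`, then (assuming the theorem for all proper
subgroups) there is such an `R` which is normal in `G`.
-/

set_option autoImplicit false
set_option linter.unusedSectionVars false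

namespace Cfsg.Agent.Helper51.WC

open Subgroup
open Cfsg.Agent.S4269 (cj mem_cj cj_mul cj_of_mem cj_of_mem_normalizer)
open Cfsg.Agent.Helper71

universe u

variable {G : Type u} [Group G]

/-- the side condition of the theorem -/
def Cond (p : ℕ) (T : Subgroup G) (x : G) : Prop :=
  p ≠ 2 ∨ (∃ z ∈ T ⊓ centralizer (T : Set G), z ^ p = x) ∨ ¬ Cfsg.Involves (Equiv.Perm (Fin 4)) G

/-- the ambient form of the theorem for a subgroup `K` -/
def WCAmb (p : ℕ) (K : Subgroup G) : Prop :=
  ∀ T : Subgroup G, T ≤ K → IsPGroup p T → ¬ p ∣ T.relIndex K → ∀ x ∈ T,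
    K ⊓ normalizer (JJ T : Set G) ≤ centralizer ({x} : Set G) → Cond p T x →
    ∀ g ∈ K, g * x * g⁻¹ ∈ T → g * x * g⁻¹ = x

variable [Finite G] {p : ℕ} [hp : Fact p.Prime]

theorem reduction (S : Sylow p G) (x : G)
    (hxZ : (S : Subgroup G) ≤ centralizer ({x} : Set G))
    (hNJ : normalizer (JJ (S : Subgroup G) : Set G) ≤ centralizer ({x} : Set G))
    (hcond : Cond p (S : Subgroup G) x)
    (hIH : ∀ K : Subgroup G, K ≠ ⊤ → WCAmb p K)
    (F : Subgroup G → Prop) (hFconj : ∀ R g, F R → F (cj g R))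
    (hFup : ∀ R R' : Subgroup G, F R → R ≤ R' → F R')
    (hFJ : ∀ R T : Subgroup G, F R → R ≤ T → T ≤ (S : Subgroup G) → F (JJ T))
    (R₀ : Subgroup G) (hR₀ : F R₀) (hR₀S : R₀ ≤ (S : Subgroup G)) (hxR₀ : x ∈ R₀)
    (hN₀ : ¬ normalizer (R₀ : Set G) ≤ centralizer ({x} : Set G)) :
    ∃ R : Subgroup G, F R ∧ R ≤ (S : Subgroup G) ∧ x ∈ R ∧ R.Normal := by
  classical
  set 𝓡 : Set (Subgroup G) :=
    {R | F R ∧ R ≤ (S : Subgroup G) ∧ x ∈ R ∧ ¬ normalizer (R : Set G) ≤ centralizer ({x} : Set G)} with h𝓡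
  obtain ⟨R, hR, hmax⟩ := Set.exists_max_image 𝓡
    (fun R => Nat.card ↥((S : Subgroup G) ⊓ normalizer (R : Set G))) (Set.toFinite _)
    ⟨R₀, hR₀, hR₀S, hxR₀, hN₀⟩
  obtain ⟨hRF, hRS, hxR, hRN⟩ := hR
  obtain ⟨K, hK⟩ : ∃ K, K = normalizer (R : Set G) := ⟨_, rfl⟩
  obtain ⟨T, hT⟩ : ∃ T, T = (S : Subgroup G) ⊓ K := ⟨_, rfl⟩
  have hTS : T ≤ (S : Subgroup G) := hT ▸ inf_le_left
  have hTK : T ≤ K := hT ▸ inf_le_right
  have hRT : R ≤ T := hT ▸ le_inf hRS (hK ▸ le_normalizer)
  have hTp : IsPGroup p T := S.isPGroup'.to_le hTS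
  have hxT : x ∈ T := hRT hxR
  have hmax' : ∀ R' ∈ 𝓡, Nat.card ↥((S : Subgroup G) ⊓ normalizer (R' : Set G)) ≤ Nat.card T := by
    intro R' hR'
    rw [hT, hK]
    exact hmax R' hR'
  -- Step A: `T` is a Sylow subgroup of `K`
  have hsyl : ¬ p ∣ T.relIndex K := by
    intro hdiv
    obtain ⟨T', hTT', hT'K, hT'p, hT'syl⟩ := exists_sylow_between K T hTK hTp
    have hne : T ≠ T' := by
      intro h
      rw [← h] at hT'syl
      exact hT'syl hdiv
    have hlt : Nat.card T < Nat.card T' := by
      by_contra hle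
      exact hne (Subgroup.eq_of_le_of_card_ge hTT' (not_lt.mp hle))
    obtain ⟨h, hh⟩ := exists_cj_le_sylow S T' hT'p
    have hcard1 : Nat.card T' ≤
        Nat.card ↥((S : Subgroup G) ⊓ normalizer ((cj h R : Subgroup G) : Set G)) := by
      rw [← card_cj h T']
      apply Subgroup.card_le_of_le
      refine le_inf hh ?_
      rw [cj_normalizer, ← hK]
      exact Subgroup.map_mono hT'K
    by_cases hx : h * x * h⁻¹ = x
    · have hmem : cj h R ∈ 𝓡 := by
        refine ⟨hFconj R h hRF, ?_, ?_, ?_⟩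
        · exact (Subgroup.map_mono (hRT.trans hTT')).trans hh
        · rw [mem_cj]; exact ⟨x, hxR, hx⟩
        · intro hle
          apply hRN
          intro n hn
          have h1 : h * n * h⁻¹ ∈ normalizer ((cj h R : Subgroup G) : Set G) := by
            rw [cj_normalizer, mem_cj]; exact ⟨n, hn, rfl⟩
          have h2 := mem_centralizer_singleton_iff.mp (hle h1)
          rw [mem_centralizer_singleton_iff]
          have hx' : h⁻¹ * x * h = x := by
            calc h⁻¹ * x * h = h⁻¹ * (h * x * h⁻¹) * h := by rw [hx]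
              _ = x := by group
          have h3 : n * (h⁻¹ * x * h) = (h⁻¹ * x * h) * n := by
            calc n * (h⁻¹ * x * h) = h⁻¹ * ((h * n * h⁻¹) * x) * h := by group
              _ = h⁻¹ * (x * (h * n * h⁻¹)) * h := by rw [h2]
              _ = (h⁻¹ * x * h) * n := by group
          rw [hx'] at h3
          exact h3
      have := hmax' _ hmem
      omega
    · obtain ⟨H, k, y, hHS, hkT, hkx, hyN, hyx⟩ := alperin_move S T hTS x hxT h⁻¹ (by
          intro t ht
          rw [inv_inv]
          exact hh (by rw [mem_cj]; exact ⟨t, hTT' ht, rfl⟩)) (by rw [inv_inv]; exact hx)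
      have hcjk : ∀ U : Subgroup G, U ≤ T → cj k⁻¹ U ≤ H := by
        intro U hU z hz
        obtain ⟨r, hr, rfl⟩ := mem_cj.mp hz
        have := hkT r (hU hr)
        rwa [inv_inv]
      have hmemH : H ∈ 𝓡 := by
        refine ⟨hFup _ H (hFconj R k⁻¹ hRF) (hcjk R hRT), hHS, ?_, ?_⟩
        · have := hkT x hxT; rwa [hkx] at this
        · intro hle
          apply hyx
          have h2 := mem_centralizer_singleton_iff.mp (hle hyN)
          calc y⁻¹ * x * y = y⁻¹ * (x * y) := by group
            _ = y⁻¹ * (y * x) := by rw [h2]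
            _ = x := by group
      have h1 := hmax' _ hmemH
      have h2 : Nat.card T ≤ Nat.card H := by
        rw [← card_cj k⁻¹ T]
        exact Subgroup.card_le_of_le (hcjk T le_rfl)
      have h3 : Nat.card H ≤ Nat.card ↥((S : Subgroup G) ⊓ normalizer (H : Set G)) :=
        Subgroup.card_le_of_le (le_inf hHS le_normalizer)
      have h4 : H = (S : Subgroup G) ⊓ normalizer (H : Set G) :=
        Subgroup.eq_of_le_of_card_ge (le_inf hHS le_normalizer) (by omega)
      have h5 : H = (S : Subgroup G) := eq_of_inf_normalizer_le S.isPGroup' hHS h4.ge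
      have h6 : Nat.card T' ≤ Nat.card (S : Subgroup G) := card_le_card_sylow S T' hT'p
      have h7 : Nat.card H ≤ Nat.card T := h3.trans h1
      have h8 : Nat.card H = Nat.card (S : Subgroup G) := by rw [h5]
      omega
  -- Step B
  by_cases hKtop : K = ⊤
  · refine ⟨R, hRF, hRS, hxR, ?_⟩
    rw [← normalizer_eq_top_iff, ← hK]
    exact hKtop
  · exfalso
    have hcondT : Cond p T x := by
      rcases hcond with h | ⟨z, hz, hzx⟩ | h
      · exact Or.inl h
      · refine Or.inr (Or.inl ⟨z, ?_, hzx⟩)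
        rw [mem_inf] at hz ⊢
        refine ⟨?_, centralizer_le hTS hz.2⟩
        rw [hT, hK]
        refine mem_inf.mpr ⟨hz.1, ?_⟩
        rw [mem_normalizer_iff]
        intro r
        have hc : ∀ r ∈ R, z * r * z⁻¹ = r := by
          intro r hr
          have := (mem_centralizer_iff.mp hz.2) r (hRS hr)
          calc z * r * z⁻¹ = (z * r) * z⁻¹ := rfl
            _ = (r * z) * z⁻¹ := by rw [this]
            _ = r := by group
        constructor
        · intro hr; rw [hc r hr]; exact hr
        · intro hr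
          have h1 := hc _ hr
          have h2 : z * r * z⁻¹ = r := by
            have : z⁻¹ * (z * (z * r * z⁻¹) * z⁻¹) * z = z⁻¹ * (z * r * z⁻¹) * z := by rw [h1]
            calc z * r * z⁻¹ = z⁻¹ * (z * (z * r * z⁻¹) * z⁻¹) * z := by group
              _ = z⁻¹ * (z * r * z⁻¹) * z := this
              _ = r := by group
          rw [← h2]; exact hr
      · exact Or.inr (Or.inr h)
    have hJ : ¬ K ⊓ normalizer (JJ T : Set G) ≤ centralizer ({x} : Set G) := by
      intro hle
      have hwc := hIH K hKtop T hTK hTp hsyl x hxT hle hcondT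
      apply hRN
      rw [← hK]
      intro g hg
      have h1 : g * x * g⁻¹ ∈ R := by
        rw [hK] at hg
        exact (mem_normalizer_iff.mp hg x).mp hxR
      have h2 := hwc g hg (hRT h1)
      rw [mem_centralizer_singleton_iff]
      calc g * x = (g * x * g⁻¹) * g := by group
        _ = x * g := by rw [h2]
    have hJ' : ¬ normalizer (JJ T : Set G) ≤ centralizer ({x} : Set G) :=
      fun hle => hJ (inf_le_right.trans hle)
    have hmemJ : JJ T ∈ 𝓡 :=
      ⟨hFJ R T hRF hRT hTS, (JJ_le T).trans hTS, mem_JJ_of_central hxT (hTS.trans hxZ), hJ'⟩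
    have h1 := hmax' _ hmemJ
    have h2 : (S : Subgroup G) ⊓ normalizer (T : Set G) ≤ (S : Subgroup G) ⊓ normalizer (JJ T : Set G) :=
      inf_le_inf_left _ (normalizer_le_normalizer_JJ T)
    have h3 : T = (S : Subgroup G) ⊓ normalizer (T : Set G) :=
      Subgroup.eq_of_le_of_card_ge (le_inf hTS le_normalizer)
        ((Subgroup.card_le_of_le h2).trans h1)
    have h5 : T = (S : Subgroup G) := eq_of_inf_normalizer_le S.isPGroup' hTS h3.ge
    rw [h5] at hJ'
    exact hJ' hNJ

end Cfsg.Agent.Helper51.WC
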