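import Cfsg.Agent.Helper51.WCProd

/-!
# Transvections and elements of order three (helper51)

A finite group `M` acts faithfully on a finite commutative `2`-group `W`. If `a` is an involution of `M` whose fixed
points on `W` contain a subgroup of index at most `2`, and `a` together with some conjugate does not generate a
`2`-group, then `a` inverts an element of order `3` of `M`.
-/

set_option autoImplicit false
set_option linter.unusedSectionVars false
set_option linter.style.haveILetI false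

namespace Cfsg.Agent.Helper51.WC

open Subgroup

variable {M : Type*} [Group M] {W : Type*} [CommGroup W]

/-- the subgroup of points fixed by `t` -/
def fixedSub (ρ : M →* MulAut W) (t : M) : Subgroup W where
  carrier := {w | ρ t w = w}
  mul_mem' := by
    intro a b ha hb
    change ρ t a = a at ha
    change ρ t b = b at hb
    change ρ t (a * b) = a * b
    rw [map_mul, ha, hb]
  one_mem' := map_one _
  inv_mem' := by
    intro a ha
    change ρ t a = a at ha
    change ρ t a⁻¹ = a⁻¹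
    rw [map_inv, ha]

theorem mem_fixedSub {ρ : M →* MulAut W} {t : M} {w : W} : w ∈ fixedSub ρ t ↔ ρ t w = w := Iff.rfl

/-- an element of square `1` normalizes `H` if it conjugates `H` into itself -/
theorem mem_normalizer_of_sq {g : M} (hg : g * g = 1) {H : Subgroup M}
    (h : ∀ x ∈ H, g * x * g⁻¹ ∈ H) : g ∈ normalizer (H : Set M) := by
  rw [mem_normalizer_iff]
  intro x
  refine ⟨h x, fun hx => ?_⟩
  have h1 := h _ hx
  have hginv : g⁻¹ = g := inv_eq_of_mul_eq_one_left hg
  have h2 : g * (g * x * g⁻¹) * g⁻¹ = x := by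
    rw [hginv]
    calc g * (g * x * g) * g = (g * g) * x * (g * g) := by group
      _ = x := by rw [hg]; group
  rwa [h2] at h1

theorem isPGroup_two_zpowers {a : M} (ha : a * a = 1) : IsPGroup 2 ↥(zpowers a) := by
  rintro ⟨g, hg⟩
  refine ⟨1, Subtype.ext ?_⟩
  obtain ⟨n, rfl⟩ := mem_zpowers_iff.mp hg
  simp only [pow_one, Subgroup.coe_pow, Subgroup.coe_one]
  rw [← zpow_natCast, ← zpow_mul, mul_comm, zpow_mul, zpow_natCast, pow_two, ha, one_zpow]

theorem exists_order_three_inverted [Finite M] [Finite W] (hW : IsPGroup 2 W)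
    (ρ : M →* MulAut W) (hρ : Function.Injective ρ) (a m : M) (ha : a * a = 1)
    (F : Subgroup W) (hF : F.index ≤ 2) (hFa : ∀ w ∈ F, ρ a w = w)
    (hnot : ¬ IsPGroup 2 ↥(zpowers a ⊔ (zpowers a).map (MulAut.conj m).toMonoidHom)) :
    ∃ y : M, y * y * y = 1 ∧ y ≠ 1 ∧ a * y * a = y⁻¹ := by
  haveI : Fact (Nat.Prime 2) := ⟨Nat.prime_two⟩
  have hainv : a⁻¹ = a := inv_eq_of_mul_eq_one_left ha
  obtain ⟨b, hb⟩ : ∃ b, b = m * a * m⁻¹ := ⟨_, rfl⟩
  have hbb : b * b = 1 := by
    rw [hb]
    calc m * a * m⁻¹ * (m * a * m⁻¹) = m * (a * a) * m⁻¹ := by group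
      _ = 1 := by rw [ha]; group
  have hbinv : b⁻¹ = b := inv_eq_of_mul_eq_one_left hbb
  have hmap : (zpowers a).map (MulAut.conj m).toMonoidHom = zpowers b := by
    rw [MonoidHom.map_zpowers, hb]
    rfl
  rw [hmap] at hnot
  obtain ⟨c, hc⟩ : ∃ c, c = a * b := ⟨_, rfl⟩
  have hinv : a * c * a⁻¹ = c⁻¹ := by
    rw [hc, mul_inv_rev, hainv, hbinv]
    calc a * (a * b) * a = (a * a) * b * a := by group
      _ = b * a := by rw [ha, one_mul]
  -- the order of `c` is not a power of `2`
  have hpa : IsPGroup 2 ↥(zpowers a) := isPGroup_two_zpowers ha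
  have hnotpow : ¬ ∃ k, orderOf c = 2 ^ k := by
    rintro ⟨k, hk⟩
    apply hnot
    have hpc : IsPGroup 2 ↥(zpowers c) := IsPGroup.of_card (n := k) (by rw [Nat.card_zpowers, hk])
    have hnorm : zpowers a ≤ normalizer ((zpowers c : Subgroup M) : Set M) := by
      rw [zpowers_le]
      apply mem_normalizer_of_sq ha
      intro x hx
      obtain ⟨n, rfl⟩ := mem_zpowers_iff.mp hx
      rw [← conj_zpow, hinv]
      exact Subgroup.zpow_mem _ (Subgroup.inv_mem _ (mem_zpowers c)) n
    have h1 := IsPGroup.to_sup_of_normal_right' hpa hpc hnorm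
    apply h1.to_le
    apply sup_le le_sup_left
    rw [zpowers_le]
    have h2 : b = a * c := by rw [hc, ← mul_assoc, ha, one_mul]
    rw [h2]
    exact Subgroup.mul_mem _ (le_sup_left (b := zpowers c) (mem_zpowers a))
      (le_sup_right (a := zpowers a) (mem_zpowers c))
  have hn0 : orderOf c ≠ 0 := (orderOf_pos c).ne'
  obtain ⟨r, hr, hrn, hr2⟩ : ∃ r, r.Prime ∧ r ∣ orderOf c ∧ r ≠ 2 := by
    by_contra hno
    apply hnotpow
    refine ⟨_, Nat.eq_prime_pow_of_unique_prime_dvd hn0 ?_⟩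
    intro d hd hdn
    by_contra hd2
    exact hno ⟨d, hd, hdn, hd2⟩
  haveI : Fact r.Prime := ⟨hr⟩
  obtain ⟨y, hy⟩ : ∃ y, y = c ^ (orderOf c / r) := ⟨_, rfl⟩
  have hyord : orderOf y = r := by rw [hy]; exact orderOf_pow_orderOf_div hn0 hrn
  have hyinv : a * y * a = y⁻¹ := by
    have h1 : a * y * a⁻¹ = y⁻¹ := by rw [hy, ← conj_pow, hinv, inv_pow]
    rwa [hainv] at h1
  have hy1 : y ≠ 1 := by
    intro h
    rw [h, orderOf_one] at hyord
    exact hr.one_lt.ne hyord
  -- the fixed points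
  obtain ⟨F', hF'⟩ : ∃ F', F' = F.map ((ρ m : W ≃* W) : W →* W) := ⟨_, rfl⟩
  have hF'b : ∀ w ∈ F', ρ b w = w := by
    intro w' hw'
    rw [hF'] at hw'
    obtain ⟨w, hw, rfl⟩ := hw'
    show ρ b (ρ m w) = ρ m w
    rw [hb, map_mul, map_mul, MulAut.mul_apply, MulAut.mul_apply, map_inv, MulAut.inv_apply,
      MulEquiv.symm_apply_apply, hFa w hw]
  have hF'idx : F'.index = F.index := by
    rw [hF']
    exact Subgroup.index_map_equiv F (ρ m)
  obtain ⟨U, hU⟩ : ∃ U, U = F ⊓ F' := ⟨_, rfl⟩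
  have hUidx : U.index ≤ 4 := by
    calc U.index ≤ F.index * F'.index := hU ▸ Subgroup.index_inf_le
      _ ≤ 2 * 2 := by rw [hF'idx]; exact Nat.mul_le_mul hF hF
  have hyU : ∀ w ∈ U, ρ y w = w := by
    have hcU : ∀ w ∈ U, c ∈ fixer ρ w := by
      intro w hw
      rw [hU] at hw
      rw [hc]
      exact (fixer ρ w).mul_mem ((mem_fixer ρ w a).mpr (hFa w hw.1))
        ((mem_fixer ρ w b).mpr (hF'b w hw.2))
    intro w hw
    rw [hy]
    exact (mem_fixer ρ w _).mp ((fixer ρ w).pow_mem (hcU w hw) _)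
  obtain ⟨Fy, hFy⟩ : ∃ Fy, Fy = fixedSub ρ y := ⟨_, rfl⟩
  have hUle : U ≤ Fy := fun w hw => hFy ▸ hyU w hw
  have hidx_dvd : Fy.index ∣ U.index := Subgroup.index_dvd_of_le hUle
  have hUne : U.index ≠ 0 := Subgroup.index_ne_zero_of_finite
  have hFy_le4 : Fy.index ≤ 4 := (Nat.le_of_dvd (Nat.pos_of_ne_zero hUne) hidx_dvd).trans hUidx
  obtain ⟨j, hj⟩ := hW.index Fy
  have hFy_ne1 : Fy.index ≠ 1 := by
    intro h1
    rw [Subgroup.index_eq_one] at h1
    apply hy1
    apply hρ
    rw [map_one]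
    ext w
    have h2 : w ∈ Fy := by rw [h1]; trivial
    rw [hFy] at h2
    exact h2
  -- counting
  have hQ : IsPGroup r ↥(zpowers y) :=
    IsPGroup.of_card (n := 1) (by rw [Nat.card_zpowers, hyord, pow_one])
  letI : MulAction ↥(zpowers y) W := MulAction.compHom W (ρ.comp (zpowers y).subtype)
  have hmod := hQ.card_modEq_card_fixedPoints W
  have hfp : Nat.card (MulAction.fixedPoints ↥(zpowers y) W) = Nat.card Fy := by
    apply Nat.card_congr
    apply Equiv.setCongr
    ext w
    constructor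
    · intro hw
      rw [hFy]
      exact hw ⟨y, mem_zpowers y⟩
    · intro hw q
      obtain ⟨q, hq⟩ := q
      show ρ q w = w
      have h3 : zpowers y ≤ fixer ρ w := by
        rw [zpowers_le]
        rw [hFy] at hw
        exact hw
      exact h3 hq
  rw [hfp] at hmod
  have hcardW : Nat.card Fy * Fy.index = Nat.card W := Fy.card_mul_index
  obtain ⟨i, hi⟩ := IsPGroup.iff_card.mp (hW.to_subgroup Fy)
  have hj12 : j = 1 ∨ j = 2 := by
    rcases j with _ | _ | _ | j
    · exact absurd hj (by simpa using hFy_ne1)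
    · left; rfl
    · right; rfl
    · exfalso
      have h8 : 8 ≤ Fy.index := by
        rw [hj]
        calc 8 = 2 ^ 3 := by norm_num
          _ ≤ 2 ^ (j + 1 + 1 + 1) := Nat.pow_le_pow_right (by norm_num) (by omega)
      omega
  have hr3 : r = 3 := by
    have hmod' : Nat.card Fy ≡ Nat.card W [MOD r] := hmod.symm
    have hle : Nat.card Fy ≤ Nat.card W := by
      rw [← hcardW]
      exact Nat.le_mul_of_pos_right _ (Nat.pos_of_ne_zero (by rw [hj]; positivity))
    have hdvd := (Nat.modEq_iff_dvd' hle).mp hmod'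
    rw [← hcardW, hi, hj] at hdvd
    rcases hj12 with rfl | rfl
    · have h4 : 2 ^ i * 2 ^ 1 - 2 ^ i = 2 ^ i := by
        rw [pow_one]; omega
      rw [h4] at hdvd
      have := (Nat.prime_dvd_prime_iff_eq hr Nat.prime_two).mp (hr.dvd_of_dvd_pow hdvd)
      exact absurd this hr2
    · have h4 : 2 ^ i * 2 ^ 2 - 2 ^ i = 2 ^ i * 3 := by
        norm_num; omega
      rw [h4] at hdvd
      rcases (Nat.Prime.dvd_mul hr).mp hdvd with h5 | h5
      · have := (Nat.prime_dvd_prime_iff_eq hr Nat.prime_two).mp (hr.dvd_of_dvd_pow h5)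
        exact absurd this hr2
      · exact (Nat.prime_dvd_prime_iff_eq hr Nat.prime_three).mp h5
  refine ⟨y, ?_, hy1, hyinv⟩
  have h6 := pow_orderOf_eq_one y
  rw [hyord, hr3, pow_succ, pow_two] at h6
  exact h6

end Cfsg.Agent.Helper51.WC
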