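import Cfsg.Agent.Helper51.WCMin3

/-!
# The weak closure theorem (helper51): the exceptional configuration, part 1
-/

set_option autoImplicit false
set_option linter.unusedSectionVars false
set_option linter.style.haveILetI false

namespace Cfsg.Agent.Helper51.WC

open Subgroup
open Cfsg.Agent.S4269 (cj mem_cj cj_mul cj_of_mem cj_of_mem_normalizer)
open Cfsg.Agent.Helper71
open scoped commutatorElement

universe u

variable {G : Type u} [Group G] [Finite G] {p : ℕ} [hp : Fact p.Prime]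

namespace MinCfg

variable {S : Sylow p G} {x : G}

/-- the exceptional pair in normal form: `C_{A'}(x) ≤ S` for the conjugate `A' = A^k` -/
theorem exists_normal_form (h : MinCfg p S x) :
    ∃ A ∈ Aq (VV x) (S : Subgroup G), ∃ k : G,
      Nat.card A = 2 * Nat.card ↥(cj k A ⊓ centralizer ({x} : Set G)) ∧
      cj k A ⊓ centralizer ({x} : Set G) ≤ (S : Subgroup G) := by
  obtain ⟨A, hA, g, hidx⟩ := h.exists_exceptional
  obtain ⟨y, hy⟩ : ∃ y, y = g * x * g⁻¹ := ⟨_, rfl⟩
  rw [← hy] at hidx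
  have hcardE : Nat.card ↥(A ⊓ centralizer ({y} : Set G)) * 2 = Nat.card A := by
    rw [← hidx, ← Subgroup.inf_relIndex_left]
    exact card_mul_relIndex_eq inf_le_left
  have hQM : cj g⁻¹ (A ⊓ centralizer ({y} : Set G)) ≤ centralizer ({x} : Set G) := by
    have h1 : cj g⁻¹ (A ⊓ centralizer ({y} : Set G)) ≤ cj g⁻¹ (centralizer ({y} : Set G)) :=
      cj_mono g⁻¹ inf_le_right
    rw [cj_centralizer_singleton] at h1
    have h2 : g⁻¹ * y * g⁻¹⁻¹ = x := by rw [hy]; group
    rw [h2] at h1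
    exact h1
  have hQp : IsPGroup p ↥(cj g⁻¹ (A ⊓ centralizer ({y} : Set G))) :=
    (S.isPGroup'.to_le (inf_le_left.trans hA.1.1)).map _
  obtain ⟨m, hmM, hm⟩ := exists_cj_le_sylow_of_le S (centralizer ({x} : Set G)) h.hxZ _ hQp hQM
  have key : cj (m * g⁻¹) A ⊓ centralizer ({x} : Set G) =
      cj m (cj g⁻¹ (A ⊓ centralizer ({y} : Set G))) := by
    rw [← cj_mul', cj_inf, cj_centralizer_singleton]
    have h2 : m * g⁻¹ * y * (m * g⁻¹)⁻¹ = x := by
      have h3 := mem_centralizer_singleton_iff.mp hmM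
      rw [hy]
      calc m * g⁻¹ * (g * x * g⁻¹) * (m * g⁻¹)⁻¹ = (m * x) * m⁻¹ := by group
        _ = (x * m) * m⁻¹ := by rw [h3]
        _ = x := by group
    rw [h2]
  refine ⟨A, hA, m * g⁻¹, ?_, ?_⟩
  · rw [key, card_cj, card_cj, ← hcardE, mul_comm]
  · rw [key]
    exact hm

omit [Finite G] in
theorem le_centralizer_zpowers {H : Subgroup G} {y : G} (hy : H ≤ centralizer ({y} : Set G)) :
    H ≤ centralizer ((zpowers y : Subgroup G) : Set G) := by
  intro a ha
  rw [mem_centralizer_iff]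
  intro z hz
  obtain ⟨k, rfl⟩ := mem_zpowers_iff.mp hz
  have := mem_centralizer_singleton_iff.mp (hy ha)
  exact ((Commute.zpow_left (show Commute y a from this.symm) k)).eq

/-- facts about the exceptional configuration -/
theorem exc_facts (h : MinCfg p S x) {A : Subgroup G} (hA : A ∈ Aq (VV x) (S : Subgroup G)) (k : G)
    (hcard : Nat.card A = 2 * Nat.card ↥(cj k A ⊓ centralizer ({x} : Set G)))
    (hES : cj k A ⊓ centralizer ({x} : Set G) ≤ (S : Subgroup G)) :
    (cj k A ⊓ centralizer ({x} : Set G)) ⊔ zpowers x ∈ AA (S : Subgroup G) ∧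
    Nat.card ↥((cj k A ⊓ centralizer ({x} : Set G)) ⊔ zpowers x) =
      2 * Nat.card ↥(cj k A ⊓ centralizer ({x} : Set G)) ∧
    x ∉ cj k A ⊓ centralizer ({x} : Set G) ∧
    ∃ a' ∈ cj k A, a' ∉ centralizer ({x} : Set G) ∧ a' * a' ∈ cj k A ⊓ centralizer ({x} : Set G) ∧
      a' ∈ normalizer (((cj k A ⊓ centralizer ({x} : Set G)) ⊔ zpowers x : Subgroup G) : Set G) := by
  obtain ⟨A', hA'⟩ : ∃ A', A' = cj k A := ⟨_, rfl⟩
  rw [← hA'] at hcard hES ⊢
  obtain ⟨E₀, hE₀⟩ : ∃ E₀, E₀ = A' ⊓ centralizer ({x} : Set G) := ⟨_, rfl⟩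
  rw [← hE₀] at hcard hES ⊢
  obtain ⟨B, hB⟩ : ∃ B, B = E₀ ⊔ zpowers x := ⟨_, rfl⟩
  rw [← hB]
  haveI hVn : (VV x).Normal := normalClosure_normal
  have hxV : x ∈ VV x := x_mem_V x
  have hxS : x ∈ (S : Subgroup G) := h.V_le_S hxV
  have hE₀A' : E₀ ≤ A' := hE₀ ▸ inf_le_left
  have hE₀x : E₀ ≤ centralizer ({x} : Set G) := hE₀ ▸ inf_le_right
  have hA'c : IsMulCommutative A' := hA' ▸ isMulCommutative_cj k hA.1.2.1
  have hE₀c : IsMulCommutative E₀ := isMulCommutative_of_le hA'c hE₀A'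
  have hcardA' : Nat.card A' = Nat.card A := by rw [hA', card_cj]
  have hposE : 0 < Nat.card E₀ := Nat.card_pos
  -- `x ∉ E₀`
  have hxE : x ∉ E₀ := by
    intro hx
    have h1 : A' ≤ centralizer ({x} : Set G) := by
      intro a ha
      rw [mem_centralizer_singleton_iff]
      have := (le_centralizer_iff_isMulCommutative.mpr hA'c) ha
      exact (mem_centralizer_iff.mp this x (hE₀A' hx)).symm
    have h2 : E₀ = A' := by rw [hE₀]; exact inf_eq_left.mpr h1
    rw [h2, hcardA'] at hcard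
    have : 0 < Nat.card A := Nat.card_pos
    omega
  have hBS : B ≤ (S : Subgroup G) := hB ▸ sup_le hES (zpowers_le.mpr hxS)
  have hBc : IsMulCommutative B :=
    hB ▸ isMulCommutative_sup hE₀c (isMulCommutative_zpowers x) (le_centralizer_zpowers hE₀x)
  have hE₀B : E₀ ≤ B := hB ▸ le_sup_left
  have hxB : x ∈ B := hB ▸ le_sup_right (a := E₀) (mem_zpowers x)
  have hcardB1 : 2 * Nat.card E₀ ≤ Nat.card B := by
    obtain ⟨m, hm⟩ := Subgroup.card_dvd_of_le hE₀B
    have hlt : Nat.card E₀ < Nat.card B := by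
      by_contra hcon
      rw [not_lt] at hcon
      have := Subgroup.eq_of_le_of_card_ge hE₀B hcon
      exact hxE (this ▸ hxB)
    rw [hm] at hlt ⊢
    have : 2 ≤ m := by
      by_contra hm2
      have : m ≤ 1 := by omega
      have : Nat.card E₀ * m ≤ Nat.card E₀ * 1 := Nat.mul_le_mul_left _ this
      omega
    calc 2 * Nat.card E₀ = Nat.card E₀ * 2 := by ring
      _ ≤ Nat.card E₀ * m := Nat.mul_le_mul_left _ this
  have hBAA : B ∈ AA (S : Subgroup G) :=
    mem_AA_of_card hA.1 le_rfl hBS hBc (by rw [hcard]; exact hcardB1)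
  have hcardB2 : Nat.card B ≤ Nat.card A := hA.1.2.2 B hBS hBc
  have hcardB : Nat.card B = 2 * Nat.card E₀ := by omega
  refine ⟨hBAA, hcardB, hxE, ?_⟩
  -- an element of `A'` outside `E₀`
  obtain ⟨a', ha'A, ha'E⟩ : ∃ a' ∈ A', a' ∉ E₀ := by
    by_contra hno
    have hle : A' ≤ E₀ := by
      intro a ha
      by_contra haE
      exact hno ⟨a, ha, haE⟩
    have := Subgroup.card_le_of_le hle
    omega
  have ha'x : a' ∉ centralizer ({x} : Set G) := by
    intro hc
    apply ha'E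
    rw [hE₀]
    exact ⟨ha'A, hc⟩
  have hrel : E₀.relIndex A' = 2 := by
    have h1 := card_mul_relIndex_eq hE₀A'
    rw [hcardA', hcard] at h1
    have h2 : Nat.card E₀ * E₀.relIndex A' = Nat.card E₀ * 2 := by rw [h1]; ring
    exact Nat.eq_of_mul_eq_mul_left hposE h2
  have ha'sq : a' * a' ∈ E₀ := by
    have := Subgroup.mul_self_mem_of_index_two (H := E₀.subgroupOf A') hrel ⟨a', ha'A⟩
    rw [mem_subgroupOf] at this
    exact this
  refine ⟨a', ha'A, ha'x, ha'sq, ?_⟩
  -- the commutator `w' = [a', x]` lies in `E₀`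
  have hq' : ⁅⁅VV x, A'⁆, A'⁆ = ⊥ := by
    have h1 : cj k (VV x) = VV x := cj_normal k (VV x)
    rw [hA', ← h1, ← cj_commutator, ← cj_commutator, hA.2]
    exact Subgroup.map_bot _
  obtain ⟨w', hw'⟩ : ∃ w', w' = a' * x * a'⁻¹ * x⁻¹ := ⟨_, rfl⟩
  have hw'V : w' ∈ VV x := by
    rw [hw']
    exact (VV x).mul_mem (hVn.conj_mem x hxV a') ((VV x).inv_mem hxV)
  have hVcent := le_centralizer_iff_isMulCommutative.mpr h.V_comm
  have hw'x : w' ∈ centralizer ({x} : Set G) := by
    rw [mem_centralizer_singleton_iff]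
    exact (mem_centralizer_iff.mp (hVcent hxV) w' hw'V)
  have hw'fix : ∀ a'' ∈ A', a'' * w' * a''⁻¹ = w' := by
    intro a'' ha''
    rw [hw']
    exact quad_elem hq' ha'A ha'' hxV
  have hw'A : w' ∈ A' := by
    rw [hA', mem_cj']
    apply mem_of_mem_AA_of_commute hA.1
    · apply h.V_le_S
      have := hVn.conj_mem w' hw'V k⁻¹
      simpa using this
    · intro a ha
      rw [mem_centralizer_singleton_iff]
      have h1 : k * a * k⁻¹ ∈ A' := by
        rw [hA']; exact mem_cj.mpr ⟨a, ha, rfl⟩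
      have h2 := hw'fix _ h1
      have h3 : (k * a * k⁻¹) * w' = w' * (k * a * k⁻¹) := by
        calc (k * a * k⁻¹) * w' = ((k * a * k⁻¹) * w' * (k * a * k⁻¹)⁻¹) * (k * a * k⁻¹) := by group
          _ = w' * (k * a * k⁻¹) := by rw [h2]
      calc a * (k⁻¹ * w' * k) = k⁻¹ * ((k * a * k⁻¹) * w') * k := by group
        _ = k⁻¹ * (w' * (k * a * k⁻¹)) * k := by rw [h3]
        _ = k⁻¹ * w' * k * a := by group
  have hw'E : w' ∈ E₀ := by
    rw [hE₀]; exact ⟨hw'A, hw'x⟩
  apply mem_normalizer_of_cj_eq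
  have hle : cj a' B ≤ B := by
    rw [hB, cj_sup]
    apply sup_le
    · intro y hy
      obtain ⟨e, he, rfl⟩ := mem_cj.mp hy
      have h1 := (le_centralizer_iff_isMulCommutative.mpr hA'c) ha'A
      have h2 := mem_centralizer_iff.mp h1 e (hE₀A' he)
      have h3 : a' * e * a'⁻¹ = e := by
        rw [← h2]; group
      rw [h3]
      exact le_sup_left (a := E₀) he
    · intro y hy
      obtain ⟨z, hz, rfl⟩ := mem_cj.mp hy
      obtain ⟨n, rfl⟩ := mem_zpowers_iff.mp hz
      have h1 : a' * x ^ n * a'⁻¹ = (a' * x * a'⁻¹) ^ n := by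
        rw [conj_zpow]
      rw [h1]
      apply Subgroup.zpow_mem
      have h2 : a' * x * a'⁻¹ = w' * x := by rw [hw']; group
      rw [h2, ← hB]
      exact B.mul_mem (hE₀B hw'E) hxB
  exact Subgroup.eq_of_le_of_card_ge hle (card_cj a' B).ge

end MinCfg

end Cfsg.Agent.Helper51.WC
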