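import Cfsg.Agent.Helper51.WCTwo
import Cfsg.Agent.Helper51.WCTrans
import Cfsg.Agent.S0199

/-!
# The weak closure theorem (helper51): the exceptional configuration, part 2

The `S₄`-free case: a transvection on `V` produces an element of order three inverted by an involution in
`G / C_G(V)`.
-/

set_option autoImplicit false
set_option linter.unusedSectionVars false
set_option linter.style.haveILetI false

namespace Cfsg.Agent.Helper51.WC

open Subgroup
open Cfsg.Agent.S4269 (cj mem_cj cj_mul cj_of_mem cj_of_mem_normalizer)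
open Cfsg.Agent.Helper71
open scoped commutatorElement

universe u

variable {G : Type u} [Group G] [Finite G] {p : ℕ} [hp : Fact p.Prime]

/-- a normal `p`-subgroup of a homomorphic image lies in the image of every Sylow `p`-subgroup -/
theorem normal_le_map_sylow {M : Type*} [Group M] (π : G →* M) (hπ : Function.Surjective π)
    (S : Sylow p G) (N : Subgroup M) [N.Normal] (hN : IsPGroup p N) : N ≤ (S : Subgroup G).map π := by
  haveI : Finite M := Finite.of_surjective π hπ
  obtain ⟨h, hh⟩ := exists_cj_le_sylow (S.mapSurjective hπ) N hN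
  have h1 : cj h N = N := cj_normal h N
  rw [h1, Sylow.coe_mapSurjective] at hh
  exact hh

namespace MinCfg

variable {S : Sylow p G} {x : G}

theorem exists_inverted_three (hp2 : p = 2) (h : MinCfg p S x) {M : Type*} [Group M] (π : G →* M)
    (hπ : Function.Surjective π) (hker : π.ker = centralizer (VV x : Set G))
    (a' : G) (ha'2 : a' * a' ∈ centralizer (VV x : Set G)) (ha'x : a' ∉ centralizer ({x} : Set G))
    (F₀ : Subgroup G) (hF₀ : F₀.relIndex (VV x) ≤ 2) (hF₀a : ∀ w ∈ F₀, a' * w * a'⁻¹ = w) :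
    ∃ a y : M, a * a = 1 ∧ y * y * y = 1 ∧ y ≠ 1 ∧ a * y * a = y⁻¹ := by
  subst hp2
  haveI : Finite M := Finite.of_surjective π hπ
  haveI hVn : (VV x).Normal := normalClosure_normal
  have hVc := h.V_comm
  letI : CommGroup ↥(VV x) :=
    { (inferInstance : Group ↥(VV x)) with
      mul_comm := fun a b => hVc.is_comm.comm a b }
  let ρ : G →* MulAut ↥(VV x) := MulAut.conjNormal
  have hρ : ∀ (g : G) (v : ↥(VV x)), ((ρ g v : ↥(VV x)) : G) = g * v * g⁻¹ :=
    fun g v => MulAut.conjNormal_apply g v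
  have hρker : π.ker ≤ ρ.ker := by
    intro g hg
    rw [hker] at hg
    rw [MonoidHom.mem_ker]
    apply MulEquiv.ext
    intro v
    apply Subtype.ext
    rw [hρ]
    have h1 := mem_centralizer_iff.mp hg v v.2
    show g * v * g⁻¹ = v
    rw [← h1]
    group
  let ρ' : M →* MulAut ↥(VV x) := π.liftOfSurjective hπ ⟨ρ, hρker⟩
  have hρ' : ∀ g, ρ' (π g) = ρ g :=
    fun g => MonoidHom.liftOfRightInverse_comp_apply _ _ _ ⟨ρ, hρker⟩ g
  have hρ'inj : Function.Injective ρ' := by
    rw [injective_iff_map_eq_one]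
    intro m hm
    obtain ⟨g, rfl⟩ := hπ m
    rw [hρ'] at hm
    have hg : g ∈ centralizer (VV x : Set G) := by
      rw [mem_centralizer_iff]
      intro v hv
      have h1 : ((ρ g ⟨v, hv⟩ : ↥(VV x)) : G) = v := by rw [hm]; rfl
      rw [hρ] at h1
      calc v * g = (g * v * g⁻¹) * g := by rw [h1]
        _ = g * v := by group
    rw [← hker] at hg
    exact hg
  obtain ⟨a, ha⟩ : ∃ a, a = π a' := ⟨_, rfl⟩
  have haa : a * a = 1 := by
    rw [ha, ← map_mul, ← MonoidHom.mem_ker, hker]
    exact ha'2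
  -- Baer–Suzuki
  have hex : ∃ m : M, ¬ IsPGroup 2 ↥(zpowers a ⊔ (zpowers a).map (MulAut.conj m).toMonoidHom) := by
    by_contra hno
    have hall : ∀ m : M, IsPGroup 2 ↥(zpowers a ⊔ (zpowers a).map (MulAut.conj m).toMonoidHom) := by
      intro m
      by_contra hh
      exact hno ⟨m, hh⟩
    obtain ⟨N, hNn, hNp, hXN⟩ :=
      Cfsg.Agent.S0199.result (p := 2) (zpowers a) (isPGroup_two_zpowers haa) hall
    haveI := hNn
    have hle := normal_le_map_sylow π hπ S N hNp
    obtain ⟨s, hs, hsa⟩ := hle (hXN (mem_zpowers a))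
    have h1 : s⁻¹ * a' ∈ centralizer (VV x : Set G) := by
      rw [← hker, MonoidHom.mem_ker, map_mul, map_inv, hsa, ha]
      exact inv_mul_cancel _
    have h2 := h.V_le_centralizer h1
    have h3 := h.hxZ hs
    apply ha'x
    have h4 : a' = s * (s⁻¹ * a') := by group
    rw [h4]
    exact Subgroup.mul_mem _ h3 h2
  obtain ⟨m, hm⟩ := hex
  have hW : IsPGroup 2 ↥(VV x) := S.isPGroup'.to_le h.V_le_S
  obtain ⟨y, h1, h2, h3⟩ := exists_order_three_inverted hW ρ' hρ'inj a m haa (F₀.subgroupOf (VV x)) hF₀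
    (by
      intro w hw
      rw [ha, hρ']
      apply Subtype.ext
      rw [hρ]
      exact hF₀a w (mem_subgroupOf.mp hw)) hm
  exact ⟨a, y, haa, h1, h2, h3⟩

end MinCfg

end Cfsg.Agent.Helper51.WC
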