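import Cfsg.Agent.Helper51.WCTwo2
import Cfsg.Agent.Helper62.S3Free
import Cfsg.Agent.S2759

/-!
# The weak closure theorem (helper51): the exceptional configuration, part 3

The minimal configuration is contradictory.
-/

set_option autoImplicit false
set_option linter.unusedSectionVars false
set_option linter.style.haveILetI false

namespace Cfsg.Agent.Helper51.WC

open Subgroup
open Cfsg.Agent.S4269 (cj mem_cj cj_mul cj_of_mem cj_of_mem_normalizer)
open Cfsg.Agent.Helper71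
open scoped commutatorElement

universe u

variable {G : Type u} [Group G] [Finite G] {p : ℕ} [hp : Fact p.Prime]

namespace MinCfg

variable {S : Sylow p G} {x : G}

/-- in the exceptional configuration `p = 2` -/
theorem p_eq_two (h : MinCfg p S x) : p = 2 := by
  obtain ⟨A, hA, k, hcard, hES⟩ := h.exists_normal_form
  obtain ⟨n, hn⟩ := IsPGroup.iff_card.mp (S.isPGroup'.to_le hA.1.1)
  have h1 : 2 ∣ p ^ n := by
    rw [← hn, hcard]
    exact dvd_mul_right _ _
  exact ((Nat.prime_dvd_prime_iff_eq Nat.prime_two hp.out).mp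
    (Nat.prime_two.dvd_of_dvd_pow h1)).symm

/-- case (b): `x` is not the square of a central element of `S` -/
theorem false_of_sq (h : MinCfg p S x) (z : G) (hzS : z ∈ (S : Subgroup G))
    (hzZ : z ∈ centralizer ((S : Subgroup G) : Set G)) (hz : z ^ 2 = x) : False := by
  obtain ⟨A, hA, k, hcard, hES⟩ := h.exists_normal_form
  obtain ⟨hBAA, hcardB, hxE, -⟩ := h.exc_facts hA k hcard hES
  obtain ⟨E₀, hE₀⟩ : ∃ E₀, E₀ = cj k A ⊓ centralizer ({x} : Set G) := ⟨_, rfl⟩
  rw [← hE₀] at hBAA hcardB hxE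
  obtain ⟨B, hB⟩ : ∃ B, B = E₀ ⊔ zpowers x := ⟨_, rfl⟩
  rw [← hB] at hBAA hcardB
  have hE₀B : E₀ ≤ B := hB ▸ le_sup_left
  have hzB : z ∈ B := by
    apply mem_of_mem_AA_of_commute hBAA hzS
    intro b hb
    rw [mem_centralizer_singleton_iff]
    exact (mem_centralizer_iff.mp hzZ b (hBAA.1 hb))
  have hposE : 0 < Nat.card E₀ := Nat.card_pos
  have hrel : E₀.relIndex B = 2 := by
    have h1 := card_mul_relIndex_eq hE₀B
    rw [hcardB] at h1
    have h2 : Nat.card E₀ * E₀.relIndex B = Nat.card E₀ * 2 := by rw [h1]; ring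
    exact Nat.eq_of_mul_eq_mul_left hposE h2
  have h3 := Subgroup.sq_mem_of_index_two (H := E₀.subgroupOf B) hrel ⟨z, hzB⟩
  rw [mem_subgroupOf] at h3
  apply hxE
  rw [← hz]
  exact h3

/-- case (c): the group involves `S₄` -/
theorem involves_S4 (h : MinCfg p S x) (hcond : Cond p (S : Subgroup G) x)
    (hIH : ∀ K : Subgroup G, K ≠ ⊤ → WCAmb p K) : Cfsg.Involves (Equiv.Perm (Fin 4)) G := by
  have hp2 := h.p_eq_two
  obtain ⟨A, hA, k, hcard, hES⟩ := h.exists_normal_form
  obtain ⟨hBAA, hcardB, hxE, a', ha'A, ha'x, ha'sq, ha'N⟩ := h.exc_facts hA k hcard hES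
  have hA'c : IsMulCommutative ↥(cj k A) := isMulCommutative_cj k hA.1.2.1
  obtain ⟨E₀, hE₀⟩ : ∃ E₀, E₀ = cj k A ⊓ centralizer ({x} : Set G) := ⟨_, rfl⟩
  rw [← hE₀] at hBAA hcardB hxE ha'sq ha'N
  obtain ⟨B, hB⟩ : ∃ B, B = E₀ ⊔ zpowers x := ⟨_, rfl⟩
  rw [← hB] at hBAA hcardB ha'N
  have hE₀B : E₀ ≤ B := hB ▸ le_sup_left
  have hE₀A' : E₀ ≤ cj k A := hE₀ ▸ inf_le_left
  have hxB : x ∈ B := hB ▸ le_sup_right (a := E₀) (mem_zpowers x)
  have hBc := hBAA.2.1
  have hBS := hBAA.1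
  -- `B` lies in a normal subgroup of `G` inside `S`
  obtain ⟨R, ⟨g, hgR⟩, hRS, hxR, hRn⟩ := reduction S x h.hxZ h.hNJ hcond hIH
    (fun R => ∃ g, cj g B ≤ R)
    (by
      rintro R g ⟨g', hg'⟩
      exact ⟨g * g', by rw [cj_mul']; exact cj_mono g hg'⟩)
    (by
      rintro R R' ⟨g, hg⟩ hRR'
      exact ⟨g, hg.trans hRR'⟩)
    (by
      rintro R T ⟨g, hg⟩ hRT hTS
      exact ⟨g, le_JJ (mem_AA_of_card hBAA hTS (hg.trans hRT) (isMulCommutative_cj g hBc)
        (card_cj g B).ge)⟩)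
    B ⟨1, by
      intro y hy
      obtain ⟨b, hb, rfl⟩ := mem_cj.mp hy
      simpa using hb⟩ hBS hxB (fun hle => ha'x (hle ha'N))
  haveI := hRn
  have hBR : B ≤ R := by
    have h1 := (cj_le_iff g B R).mp hgR
    have h2 : cj g⁻¹ R = R := cj_normal g⁻¹ R
    rwa [h2] at h1
  have hBV : B ≤ centralizer (VV x : Set G) := hBR.trans (h.le_centralizer_V R hRS)
  have hVB : VV x ≤ B := by
    intro v hv
    apply mem_of_mem_AA_of_commute hBAA (h.V_le_S hv)
    intro b hb
    rw [mem_centralizer_singleton_iff]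
    exact (mem_centralizer_iff.mp (hBV hb) v hv).symm
  have ha'2 : a' * a' ∈ centralizer (VV x : Set G) := hBV (hE₀B ha'sq)
  have hposE : 0 < Nat.card E₀ := Nat.card_pos
  have hrelB : E₀.relIndex B = 2 := by
    have h1 := card_mul_relIndex_eq hE₀B
    rw [hcardB] at h1
    have h2 : Nat.card E₀ * E₀.relIndex B = Nat.card E₀ * 2 := by rw [h1]; ring
    exact Nat.eq_of_mul_eq_mul_left hposE h2
  have hrelV : E₀.relIndex (VV x) ≤ 2 := by
    rw [← hrelB]
    exact Subgroup.relIndex_le_of_le_right hVB (by rw [hrelB]; norm_num)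
  have hcomm : ∀ w ∈ E₀, a' * w * a'⁻¹ = w := by
    intro w hw
    have h1 := (le_centralizer_iff_isMulCommutative.mpr hA'c) ha'A
    have h2 := mem_centralizer_iff.mp h1 w (hE₀A' hw)
    rw [← h2]
    group
  -- the quotient `N_G(V) / C_G(V)`
  haveI hVn : (VV x).Normal := normalClosure_normal
  have hNtop : ∀ g : G, g ∈ normalizer (VV x : Set G) := fun g => by
    rw [normalizer_eq_top]; trivial
  let toN : G →* ↥(normalizer (VV x : Set G)) := (MonoidHom.id G).codRestrict _ hNtop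
  let π := (QuotientGroup.mk' ((centralizer (VV x : Set G)).subgroupOf
    (normalizer (VV x : Set G)))).comp toN
  have hπ : Function.Surjective π := by
    intro q
    obtain ⟨n, rfl⟩ := QuotientGroup.mk'_surjective _ q
    exact ⟨n.1, rfl⟩
  have hker : π.ker = centralizer (VV x : Set G) := by
    ext g
    rw [MonoidHom.mem_ker]
    show (QuotientGroup.mk' _) (toN g) = 1 ↔ _
    rw [QuotientGroup.mk'_apply, QuotientGroup.eq_one_iff, mem_subgroupOf]
    rfl
  obtain ⟨a, y, haa, hy3, hy1, hinv⟩ :=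
    h.exists_inverted_three hp2 π hπ hker a' ha'2 ha'x E₀ hrelV hcomm
  have hS3 := Cfsg.Agent.Helper62.involves_S3_of_inverted a y haa hy3 hy1 hinv
  have hVp : IsPGroup 2 ↥(VV x) := by
    have := S.isPGroup'.to_le h.V_le_S
    rwa [hp2] at this
  exact Cfsg.Agent.S2759.result.mpr ⟨VV x, hVp, hS3⟩

/-- **the minimal configuration is contradictory** -/
theorem absurd (h : MinCfg p S x) (hcond : Cond p (S : Subgroup G) x)
    (hIH : ∀ K : Subgroup G, K ≠ ⊤ → WCAmb p K) : False := by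
  have hp2 := h.p_eq_two
  rcases hcond with hne | ⟨z, hz, hzx⟩ | hfree
  · exact hne hp2
  · rw [hp2] at hzx
    exact h.false_of_sq z hz.1 hz.2 hzx
  · exact hfree (h.involves_S4 (Or.inr (Or.inr hfree)) hIH)

end MinCfg

end Cfsg.Agent.Helper51.WC
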